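import Mathlib
import Cfsg.Prelude.Def_CaseTheorems
import Cfsg.Agent.Lib.Helper56.Basic

set_option autoImplicit false
open scoped Pointwise

namespace Cfsg.Agent.Lib.Helper56

variable {G : Type*} [Group G]

theorem card_sup_dvd_of_normal [Finite G] (H N : Subgroup G) [N.Normal] :
    Nat.card (H ⊔ N : Subgroup G) ∣ Nat.card H * Nat.card N := by
  rw [card_mul_card_eq_of_mul_eq H N (sup_coe_eq_mul_of_normal H N)]
  exact dvd_mul_right _ _

/-- A family of normal subgroups closed under binary joins and containing `⊥`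
contains its supremum (finite group). -/
theorem sSup_mem_of_sup_closed [Finite G] (S : Set (Subgroup G)) (hbot : ⊥ ∈ S)
    (hsup : ∀ A ∈ S, ∀ B ∈ S, A ⊔ B ∈ S) : sSup S ∈ S := by
  classical
  have hfin : S.Finite := Set.toFinite S
  obtain ⟨N, hN, hmax⟩ := hfin.exists_maximalFor (fun A : Subgroup G => Nat.card A) S ⟨⊥, hbot⟩
  have : sSup S = N := by
    apply le_antisymm
    · apply sSup_le
      intro M hM
      have h1 : N ⊔ M ∈ S := hsup N hN M hM
      have h2 : Nat.card N ≤ Nat.card (N ⊔ M : Subgroup G) := Subgroup.card_le_of_le le_sup_left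
      have h3 := hmax h1 h2
      have h4 : N = N ⊔ M := Subgroup.eq_of_le_of_card_ge le_sup_left h3
      rw [h4]; exact le_sup_right
    · exact le_sSup hN
  rw [this]; exact hN

theorem pPrimeCore_coprime [Finite G] (p : ℕ) : (Nat.card (Cfsg.pPrimeCore p G)).Coprime p := by
  have := sSup_mem_of_sup_closed {N : Subgroup G | N.Normal ∧ (Nat.card N).Coprime p}
    ⟨inferInstance, by simp⟩ (by
      rintro A ⟨hA, hA'⟩ B ⟨hB, hB'⟩
      refine ⟨inferInstance, ?_⟩
      exact Nat.Coprime.coprime_dvd_left (card_sup_dvd_of_normal A B) (Nat.Coprime.mul_left hA' hB'))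
  exact this.2

theorem le_pPrimeCore {p : ℕ} (N : Subgroup G) [hN : N.Normal] (h : (Nat.card N).Coprime p) :
    N ≤ Cfsg.pPrimeCore p G :=
  le_sSup ⟨hN, h⟩

theorem pCore_isPGroup (p : ℕ) : IsPGroup p (Cfsg.pCore p G) :=
  Sylow.sSup_of_normal _ (fun _ h => h.2) (fun _ h => h.1)

theorem le_pCore {p : ℕ} (N : Subgroup G) [hN : N.Normal] (h : IsPGroup p N) :
    N ≤ Cfsg.pCore p G :=
  le_sSup ⟨hN, h⟩

theorem inf_eq_bot_of_isPGroup_of_coprime [Finite G] {p : ℕ} [Fact p.Prime] (H K : Subgroup G)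
    (hH : IsPGroup p H) (hK : (Nat.card K).Coprime p) : H ⊓ K = ⊥ := by
  apply disjoint_iff.mp
  apply Subgroup.disjoint_of_coprime_natCard
  obtain ⟨n, hn⟩ := hH.exists_card_eq
  rw [hn]
  exact (Nat.Coprime.pow_right n hK).symm

end Cfsg.Agent.Lib.Helper56
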