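import Cfsg.Agent.Lib.Helper39.BG11Defs
import Cfsg.Agent.Lib.Helper66.FrobAct
import Cfsg.Agent.Lib.Helper54.CoprimeGen

/-!
B-G S1417 ladder, rung 7.
-/

set_option autoImplicit false

namespace Cfsg.Agent.Lib.Helper56.BG11

open Subgroup Cfsg.Agent.Lib.Helper30 Cfsg.Agent.Lib.Helper39.BG11

universe u

variable {G : Type u} [Group G] [Finite G] {M A A₀ : Subgroup G} {p : ℕ} [Fact p.Prime]

theorem card_sup_dvd_of_le_normalizer {H K : Subgroup G} (h : H ≤ normalizer (K : Set G)) :
    Nat.card (H ⊔ K : Subgroup G) ∣ Nat.card H * Nat.card K := by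
  have hK : K ≤ normalizer (K : Set G) := le_normalizer
  have : (K.subgroupOf (normalizer (K : Set G))).Normal := normal_in_normalizer
  have h1 := card_sup_dvd_mul (H.subgroupOf (normalizer (K : Set G)))
    (K.subgroupOf (normalizer (K : Set G)))
  rw [← subgroupOf_sup h hK, card_subgroupOf (sup_le h hK), card_subgroupOf h, card_subgroupOf hK] at h1
  exact h1

/-- an elementary abelian group of order `p ^ 2` is not cyclic. -/
theorem not_isCyclic_of_ea_sq {A : Subgroup G} (hea : Cfsg.IsElementaryAbelian p A)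
    (hc : Nat.card A = p ^ 2) : ¬ IsCyclic A := by
  intro h
  have hp : p.Prime := Fact.out
  obtain ⟨g, hg⟩ := IsCyclic.exists_ofOrder_eq_natCard (α := A)
  have h1 : g ^ p = 1 := Subtype.ext (by simpa using hea.2 g.1 g.2)
  have h2 := orderOf_dvd_of_pow_eq_one h1
  rw [hg, hc] at h2
  have h3 := Nat.le_of_dvd hp.pos h2
  have := hp.one_lt
  nlinarith

/-- a subgroup of a group of order `p ^ 2` properly containing a subgroup of order `p` is everything. -/
theorem eq_of_card_sq {A B D : Subgroup G} (hc : Nat.card A = p ^ 2) (hDA : D ≤ A) (hBD : B ≤ D)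
    (hB : Nat.card B = p) {a : G} (haD : a ∈ D) (haB : a ∉ B) : D = A := by
  have hp : p.Prime := Fact.out
  have h1 : Nat.card D ∣ p ^ 2 := hc ▸ card_dvd_of_le hDA
  obtain ⟨k, hk, hk2⟩ := (Nat.dvd_prime_pow hp).mp h1
  have hlt : B < D := lt_of_le_of_ne hBD (fun h => haB (h ▸ haD))
  have h2 : Nat.card B < Nat.card D := Set.ncard_lt_ncard hlt (Set.toFinite _)
  rw [hB, hk2] at h2
  have hk1 : 1 < k := by
    have : p ^ 1 < p ^ k := by simpa using h2
    exact (Nat.pow_lt_pow_iff_right hp.one_lt).mp this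
  have hk3 : k = 2 := by omega
  apply Subgroup.eq_of_le_of_card_ge hDA
  rw [hc, hk2, hk3]

theorem s7 (hG : Cfsg.IsMinSimpleOddOrder G) (h11 : T11 G) : S7 G := by
  intro M p _ A A₀ r _ R h hrs hrp hRM hR hAR hRA
  have hpP : p.Prime := Fact.out
  have hrP : r.Prime := Fact.out
  have hM := h.max
  have res := h11 M p A A₀ h
  obtain ⟨A₁, A₂, hA1, hA2, c1, c2, hne, f1, f2⟩ := res.fpf2
  have hS := Cfsg.Agent.Lib.Helper28.BG12.sigmaCore_hall hG hM
  have hSs : Group.IsSolvable (Cfsg.sigmaCore M) :=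
    isSolvable_of_le (Cfsg.Agent.Lib.Helper28.BG12.sigmaCore_le M) (solvable_of_ne_top hG hM.1)
  have : IsMulCommutative A := h.ea.1
  obtain ⟨n, hn⟩ := IsPGroup.iff_card.mp hR
  have hcop : (Nat.card A).Coprime (Nat.card R) := by
    rw [h.card, hn]
    exact Nat.Coprime.pow _ _ ((Nat.coprime_primes hpP hrP).mpr (Ne.symm hrp))
  have hgen := Cfsg.Agent.Lib.Helper54.iSup_inf_centralizer_eq_of_not_isCyclic A R
    (not_isCyclic_of_ea_sq h.ea h.card) hAR hcop
  rw [← hgen]
  refine iSup₂_le ?_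
  rintro a ⟨haA, ha1⟩
  -- choose `B` among `A₁`, `A₂` not containing `a`
  obtain ⟨B, hBA, hBc, hBf, haB⟩ : ∃ B : Subgroup G, B ≤ A ∧ Nat.card B = p ∧
      Cfsg.sigmaCore M ⊓ centralizer (B : Set G) = ⊥ ∧ a ∉ B := by
    by_cases h1 : a ∈ A₁
    · by_cases h2 : a ∈ A₂
      · exfalso
        apply hne
        have key : ∀ X : Subgroup G, Nat.card X = p → a ∈ X → X = zpowers a := by
          intro X hX haX
          symm
          apply Subgroup.eq_of_le_of_card_ge (by rwa [zpowers_le])
          rw [hX, Nat.card_zpowers]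
          have h3 : orderOf a ∣ p := by
            have := orderOf_dvd_natCard (⟨a, haX⟩ : X)
            rw [hX] at this
            rwa [Subgroup.orderOf_mk] at this
          rcases (Nat.dvd_prime hpP).mp h3 with h4 | h4
          · exact absurd (orderOf_eq_one_iff.mp h4) ha1
          · exact h4.ge
        rw [key A₁ c1 h1, key A₂ c2 h2]
      · exact ⟨A₂, hA2, c2, f2, h2⟩
    · exact ⟨A₁, hA1, c1, f1, h1⟩
  have : Fact (Nat.card B).Prime := ⟨hBc ▸ hpP⟩
  obtain ⟨t, ht⟩ := (isCyclic_of_prime_card (α := B) rfl).exists_generator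
  have htB : (t : G) ∈ B := t.2
  have htA : (t : G) ∈ A := hBA htB
  have hBz : ∀ b ∈ B, b ∈ zpowers (t : G) := by
    intro b hb
    obtain ⟨k, hk⟩ := mem_zpowers_iff.mp (ht ⟨b, hb⟩)
    exact mem_zpowers_iff.mpr ⟨k, by simpa using congrArg Subtype.val hk⟩
  have htp : (t : G) ^ p = 1 := h.ea.2 _ htA
  have hta : (t : G) * a = a * t := by
    have := (h.ea.1).is_comm.comm ⟨t, htA⟩ ⟨a, haA⟩
    simpa using congrArg Subtype.val this
  obtain ⟨K, hKdef⟩ : ∃ K : Subgroup G, K = R ⊓ centralizer {a} := ⟨_, rfl⟩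
  rw [← hKdef]
  have hKR : K ≤ R := hKdef ▸ inf_le_left
  have hKa : ∀ k ∈ K, a * k = k * a := by
    intro k hk
    rw [hKdef] at hk
    exact (mem_centralizer_iff.mp hk.2) a rfl
  have htK : ∀ k ∈ K, (t : G) * k * (t : G)⁻¹ ∈ K := by
    intro k hk
    rw [hKdef]
    refine mem_inf.mpr ⟨(mem_normalizer_iff.mp (hAR htA) k).mp (hKR hk), ?_⟩
    rw [mem_centralizer_iff]
    intro x hx
    rw [Set.mem_singleton_iff] at hx
    subst hx
    have h1 := hKa k hk
    have h2 : x * (t : G)⁻¹ = (t : G)⁻¹ * x := by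
      have := congrArg (fun z => (t : G)⁻¹ * z * (t : G)⁻¹) hta
      simpa [mul_assoc] using this
    calc x * ((t : G) * k * (t : G)⁻¹) = (x * t) * k * (t : G)⁻¹ := by group
      _ = (t * x) * k * (t : G)⁻¹ := by rw [hta]
      _ = t * (x * k) * (t : G)⁻¹ := by group
      _ = t * (k * x) * (t : G)⁻¹ := by rw [h1]
      _ = t * k * (x * (t : G)⁻¹) := by group
      _ = t * k * ((t : G)⁻¹ * x) := by rw [h2]
      _ = (t : G) * k * (t : G)⁻¹ * x := by group
  have hfK : ∀ k ∈ K, (t : G) * k * (t : G)⁻¹ = k → k = 1 := by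
    intro k hk hfix
    have hD : A ⊓ centralizer {k} = A := by
      apply eq_of_card_sq (B := B) (a := a) h.card inf_le_left
      · intro b hb
        refine mem_inf.mpr ⟨hBA hb, ?_⟩
        obtain ⟨j, rfl⟩ := mem_zpowers_iff.mp (hBz b hb)
        rw [mem_centralizer_iff]
        intro x hx
        rw [Set.mem_singleton_iff] at hx
        subst hx
        have hc : Commute x (t : G) := by
          have := congrArg (fun z => z * (t : G)) hfix
          simp only [inv_mul_cancel_right] at this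
          exact this.symm
        exact (hc.zpow_right j)
      · exact hBc
      · refine mem_inf.mpr ⟨haA, ?_⟩
        rw [mem_centralizer_iff]
        intro x hx
        rw [Set.mem_singleton_iff] at hx
        subst hx
        exact (hKa x hk).symm
      · exact haB
    have hkC : k ∈ R ⊓ centralizer (A : Set G) := by
      refine mem_inf.mpr ⟨hKR hk, ?_⟩
      rw [mem_centralizer_iff]
      intro x hx
      have hx' : x ∈ A ⊓ centralizer {k} := by rw [hD]; exact hx
      exact ((mem_centralizer_iff.mp hx'.2) k rfl).symm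
    rw [hRA, mem_bot] at hkC
    exact hkC
  -- the group `D = zpowers t ⊔ K`
  have hzK : zpowers (t : G) ≤ normalizer (K : Set G) := by
    rw [zpowers_le]
    apply Cfsg.Agent.Lib.Helper28.BG12.mem_normalizer_of_cj_le'
    intro y hy
    rw [mem_cj] at hy
    have := htK _ hy
    have h2 : (t : G) * ((t : G)⁻¹ * y * t) * (t : G)⁻¹ = y := by group
    rwa [h2] at this
  have hDM : zpowers (t : G) ⊔ K ≤ M :=
    sup_le (by rw [zpowers_le]; exact h.le htA) (hKR.trans hRM)
  have hDN : zpowers (t : G) ⊔ K ≤ normalizer (Cfsg.sigmaCore M : Set G) :=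
    hDM.trans (Cfsg.Agent.Lib.Helper28.BG12.le_normalizer_sigmaCore M)
  have hKp : IsPGroup r K := hR.to_le hKR
  obtain ⟨j, hj⟩ := IsPGroup.iff_card.mp hKp
  have hDcop : (Nat.card (zpowers (t : G) ⊔ K : Subgroup G)).Coprime (Nat.card (Cfsg.sigmaCore M)) := by
    apply Nat.Coprime.coprime_dvd_left (card_sup_dvd_of_le_normalizer hzK)
    apply Nat.Coprime.mul_left
    · have e1 : Nat.card (zpowers (t : G)) ∣ p := by
        rw [Nat.card_zpowers]; exact orderOf_dvd_of_pow_eq_one htp
      have e2 : p.Coprime (Nat.card (Cfsg.sigmaCore M)) := by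
        rw [Nat.Prime.coprime_iff_not_dvd hpP]
        exact fun hd => h.ns (hS.2.1 p hpP hd)
      exact Nat.Coprime.coprime_dvd_left e1 e2
    · rw [hj]
      apply Nat.Coprime.pow_left
      rw [Nat.Prime.coprime_iff_not_dvd hrP]
      exact fun hd => hrs (hS.2.1 r hrP hd)
  -- `M_σ ⊓ C(K)` contains a Sylow `q`-subgroup of `M_σ` for all `q`
  have h1 : ∀ q : ℕ, q.Prime →
      ¬ q ∣ (Cfsg.sigmaCore M ⊓ centralizer (K : Set G)).relIndex (Cfsg.sigmaCore M) := by
    intro q hq hdvd
    have : Fact q.Prime := ⟨hq⟩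
    obtain ⟨Q, hQ, hQD⟩ := exists_invariant_isSylowIn hDN hDcop (Or.inr hSs) q
    have hQC : Q ≤ Cfsg.sigmaCore M ⊓ centralizer (K : Set G) := by
      refine le_inf hQ.le ?_
      by_cases hQ1 : Q = ⊥
      · rw [hQ1]; exact bot_le
      have hqs : q ∈ Cfsg.sigma M :=
        hS.2.1 q hq ((dvd_card_of_isPGroup_ne_bot hQ.isPGroup hQ1).trans (card_dvd_of_le hQ.le))
      have hpq : p ≠ q := fun e => h.ns (e ▸ hqs)
      have hrq : r ≠ q := fun e => hrs (e ▸ hqs)
      obtain ⟨i, hi⟩ := IsPGroup.iff_card.mp hQ.isPGroup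
      have := Cfsg.Agent.Lib.Helper66.frob_centralizes Q K (t : G) p q hpP hpq htp hQ.isPGroup
        (le_sup_right.trans hQD) (hQD (le_sup_left (a := zpowers (t : G)) (mem_zpowers _))) htK hfK
        (by
          intro u hu hfix
          have hu2 : u ∈ Cfsg.sigmaCore M ⊓ centralizer (B : Set G) := by
            refine mem_inf.mpr ⟨hQ.le hu, ?_⟩
            rw [mem_centralizer_iff]
            intro b hb
            obtain ⟨j, rfl⟩ := mem_zpowers_iff.mp (hBz b hb)
            have hc : Commute (t : G) u := by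
              have := congrArg (fun z => z * (t : G)) hfix
              simp only [inv_mul_cancel_right] at this
              exact this
            exact (hc.zpow_left j)
          rw [hBf, mem_bot] at hu2
          exact hu2)
        (by
          rw [hj, hi]
          exact Nat.Coprime.pow _ _ ((Nat.coprime_primes hrP hq).mpr hrq))
      intro u hu
      rw [mem_centralizer_iff]
      intro k hk
      exact this k hk u hu
    exact hQ.not_dvd (hdvd.trans (relIndex_dvd_of_le_left _ hQC))
  have h2 : (Cfsg.sigmaCore M ⊓ centralizer (K : Set G)).relIndex (Cfsg.sigmaCore M) = 1 :=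
    Nat.eq_one_iff_not_exists_prime_dvd.mpr h1
  have h3 : Cfsg.sigmaCore M ≤ Cfsg.sigmaCore M ⊓ centralizer (K : Set G) := relIndex_eq_one.mp h2
  intro k hk
  rw [mem_centralizer_iff]
  intro s hs
  exact ((mem_centralizer_iff.mp (h3 hs).2) k hk).symm

end Cfsg.Agent.Lib.Helper56.BG11
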