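import Mathlib
import Cfsg.Agent.Lib.Helper28.BG12b
import Cfsg.Agent.Lib.Helper98.FW.Thompson
import Cfsg.Agent.Lib.Helper3.PGroup
import Cfsg.Agent.Lib.Helper66.PiHall
import Cfsg.Agent.Lib.Helper29.Cores
import Cfsg.Agent.Lib.Helper68.BG10F

/-! B-G 15.2 ladder (helper3), rungs NIL and FH2. -/

set_option autoImplicit false

namespace Cfsg.Agent.Lib.Helper56.BG152

open Subgroup Cfsg Cfsg.Agent.Lib.Helper30

variable {G : Type*} [Group G] [Finite G]

theorem isNilpotent_of_central_product {S Q D : Subgroup G} {q : ℕ} [Fact q.Prime]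
    (hQ : IsPGroup q Q) (hD : Group.IsNilpotent D) (hS : S ≤ Q ⊔ D)
    (hc : Q ≤ centralizer (D : Set G)) : Group.IsNilpotent S := by
  have hQn : Group.IsNilpotent Q := hQ.isNilpotent
  have comm : ∀ (a : Q) (b : D), Commute (Q.subtype a) (D.subtype b) := by
    intro a b
    exact ((mem_centralizer_iff.mp (hc a.2)) b.1 b.2).symm
  let f : Q × D →* G := MonoidHom.noncommCoprod Q.subtype D.subtype comm
  have hr : f.range = Q ⊔ D := by
    rw [MonoidHom.noncommCoprod_range, Subgroup.range_subtype, Subgroup.range_subtype]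
  have h1 : Group.IsNilpotent f.range :=
    Group.nilpotent_of_surjective f.rangeRestrict f.rangeRestrict_surjective
  rw [hr] at h1
  exact Subgroup.isNilpotent_of_ker_le_center (Subgroup.inclusion hS)
    (by rw [(MonoidHom.ker_eq_bot_iff _).mpr (Subgroup.inclusion_injective hS)]; exact bot_le)

theorem le_fittingHallOf {M N : Subgroup G} (hNM : N ≤ M) (hMN : M ≤ normalizer (N : Set G))
    (hnil : Group.IsNilpotent N) (hcop : (Nat.card N).Coprime (N.relIndex M)) :
    N ≤ Cfsg.fittingHallOf M := by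
  have h1 : N.subgroupOf M ≤ Cfsg.fittingHall M := by
    apply le_sSup
    refine ⟨normal_subgroupOf_of_le_normalizer hMN, ?_, ?_⟩
    · exact Subgroup.isNilpotent_of_ker_le_center (subgroupOfEquivOfLe hNM).toMonoidHom
        (by rw [(MonoidHom.ker_eq_bot_iff _).mpr (subgroupOfEquivOfLe hNM).injective]; exact bot_le)
    · rw [card_subgroupOf hNM]
      exact hcop
  have h2 := Subgroup.map_mono (f := M.subtype) h1
  rwa [map_subgroupOf_eq_of_le hNM] at h2

end Cfsg.Agent.Lib.Helper56.BG152
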