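import Mathlib
import Cfsg.Agent.Lib.Helper28.BG12b
import Cfsg.Agent.Lib.Helper98.FW.Thompson
import Cfsg.Agent.Lib.Helper3.PGroup
import Cfsg.Agent.Lib.Helper66.PiHall
import Cfsg.Agent.Lib.Helper29.Cores
import Cfsg.Agent.Lib.Helper68.BG10F

/-! B-G 15.2 ladder (helper3), rung FWQ. -/

set_option autoImplicit false

namespace Cfsg.Agent.Lib.Helper56.BG152

open Subgroup Cfsg Cfsg.Agent.Lib.Helper30
open scoped commutatorElement

variable {G : Type*} [Group G] [Finite G]

omit [Finite G] in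
theorem centralizer_sup_eq (D E : Subgroup G) :
    centralizer ((D ⊔ E : Subgroup G) : Set G) = centralizer (D : Set G) ⊓ centralizer (E : Set G) := by
  apply le_antisymm
  · exact le_inf (centralizer_le (SetLike.coe_subset_coe.mpr le_sup_left))
      (centralizer_le (SetLike.coe_subset_coe.mpr le_sup_right))
  · intro x hx
    have h1 : zpowers x ≤ centralizer (D : Set G) := by rw [zpowers_le]; exact hx.1
    have h2 : zpowers x ≤ centralizer (E : Set G) := by rw [zpowers_le]; exact hx.2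
    have h3 : D ⊔ E ≤ centralizer (zpowers x : Set G) :=
      sup_le (le_centralizer_iff.mp h1) (le_centralizer_iff.mp h2)
    exact (le_centralizer_iff.mp h3) (mem_zpowers x)

/-- a subgroup of a group of prime order is trivial or everything. -/
theorem eq_bot_or_eq_of_le_card_prime {A B : Subgroup G} {q : ℕ} [hq : Fact q.Prime]
    (hB : Nat.card B = q) (hAB : A ≤ B) : A = ⊥ ∨ A = B := by
  have h1 : Nat.card A ∣ q := hB ▸ card_dvd_of_le hAB
  rcases (Nat.dvd_prime hq.out).mp h1 with h | h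
  · left; exact (Subgroup.card_eq_one).mp h
  · right; exact Subgroup.eq_of_le_of_card_ge hAB (by rw [hB, h])

theorem structure_Q {Q D K : Subgroup G} {q : ℕ} [Fact q.Prime]
    (hQ : IsPGroup q Q) (hDQ : D ≤ normalizer (Q : Set G)) (hKQ : K ≤ normalizer (Q : Set G))
    (hKD : K ≤ normalizer (D : Set G)) (hK1 : K ≠ ⊥)
    (hcopQ : (Nat.card Q).Coprime (Nat.card ↥(D ⊔ K)))
    (hfpf : ∀ k ∈ K, k ≠ 1 → ∀ d ∈ D, k * d = d * k → d = 1)
    (hq : Nat.card ↥(Q ⊓ centralizer (K : Set G)) = q)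
    (hpa : ∀ k ∈ K, k ≠ 1 → Q ⊓ centralizer ({k} : Set G) = Q ⊓ centralizer (K : Set G))
    (hne : ¬ Q ≤ centralizer (D : Set G)) :
    (Nat.card K).Prime ∧
    Nat.card Q = Nat.card ↥(Q ⊓ centralizer (D : Set G)) * q ^ Nat.card K ∧
    (∀ a ∈ Q, ∀ b ∈ Q, a ^ q ∈ Q ⊓ centralizer (D : Set G) ∧
      a * b * a⁻¹ * b⁻¹ ∈ Q ⊓ centralizer (D : Set G)) ∧
    ∀ N : Subgroup G, Q ⊓ centralizer (D : Set G) < N → N < Q →
      ¬ (D ⊔ K ≤ normalizer (N : Set G)) := by
  have hqP : q.Prime := Fact.out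
  obtain ⟨Ks, hKs⟩ : ∃ Ks : Subgroup G, Ks = Q ⊓ centralizer (K : Set G) := ⟨_, rfl⟩
  obtain ⟨Q0, hQ0⟩ : ∃ Q0 : Subgroup G, Q0 = Q ⊓ centralizer (D : Set G) := ⟨_, rfl⟩
  rw [← hKs] at hq hpa
  rw [← hQ0]
  have hQ0Q : Q0 ≤ Q := hQ0 ▸ inf_le_left
  have hKsQ : Ks ≤ Q := hKs ▸ inf_le_left
  -- the formula
  have F : ∀ E : Subgroup G, E ≤ K → E ≠ ⊥ → ∀ N : Subgroup G, N ≤ Q →
      D ⊔ K ≤ normalizer (N : Set G) →
      Nat.card ↥(N ⊓ (Q0 ⊓ Ks)) ^ Nat.card E * Nat.card N
        = Nat.card ↥(N ⊓ Ks) ^ Nat.card E * Nat.card ↥(N ⊓ centralizer (D : Set G)) := by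
    intro E hEK hE1 N hNQ hN
    have hNp : IsPGroup q N := hQ.to_le hNQ
    have hNs : Group.IsSolvable N := by
      have := hNp.isNilpotent
      infer_instance
    have h := Cfsg.Agent.Lib.Helper98.FW.fw_formula' D E hE1 (hEK.trans hKD)
      (fun e he => hfpf e (hEK he)) N ((sup_le_sup_left hEK D).trans hN) hNs
      (Nat.Coprime.coprime_dvd_left (card_dvd_of_le hNQ)
        (Nat.Coprime.coprime_dvd_right (card_dvd_of_le (sup_le_sup_left hEK D)) hcopQ))
    have e1 : N ⊓ centralizer (E : Set G) = N ⊓ Ks := by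
      obtain ⟨e, heE, he1⟩ : ∃ e : G, e ∈ E ∧ e ≠ 1 := by
        obtain ⟨e, he⟩ := (Subgroup.ne_bot_iff_exists_ne_one).mp hE1
        exact ⟨(e : G), e.2, fun h => he (Subtype.ext h)⟩
      apply le_antisymm
      · refine le_inf inf_le_left ?_
        rw [← hpa e (hEK heE) he1]
        refine le_inf (inf_le_left.trans hNQ) (inf_le_right.trans (centralizer_le ?_))
        intro x hx
        rw [Set.mem_singleton_iff] at hx
        rw [hx]; exact heE
      · refine le_inf inf_le_left ?_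
        rw [hKs]
        exact (inf_le_right.trans inf_le_right).trans
          (centralizer_le (SetLike.coe_subset_coe.mpr hEK))
    have e2 : N ⊓ centralizer ((D ⊔ E : Subgroup G) : Set G) = N ⊓ (Q0 ⊓ Ks) := by
      rw [centralizer_sup_eq]
      apply le_antisymm
      · refine le_inf inf_le_left (le_inf ?_ ?_)
        · rw [hQ0]
          exact le_inf (inf_le_left.trans hNQ) (inf_le_right.trans inf_le_left)
        · have : N ⊓ (centralizer (D : Set G) ⊓ centralizer (E : Set G))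
              ≤ N ⊓ centralizer (E : Set G) := inf_le_inf_left _ inf_le_right
          exact (this.trans e1.le).trans inf_le_right
      · refine le_inf inf_le_left (le_inf ?_ ?_)
        · rw [hQ0]
          exact (inf_le_right.trans inf_le_left).trans inf_le_right
        · have : N ⊓ (Q0 ⊓ Ks) ≤ N ⊓ Ks := inf_le_inf_left _ inf_le_right
          exact (this.trans e1.ge).trans inf_le_right
    rw [e1, e2] at h
    exact h
  have hNQQ : D ⊔ K ≤ normalizer (Q : Set G) := sup_le hDQ hKQ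
  have hQpos : 0 < Nat.card Q := Nat.card_pos
  have hQ0pos : 0 < Nat.card Q0 := Nat.card_pos
  have hQQ0 : Q ⊓ centralizer (D : Set G) = Q0 := hQ0.symm
  -- (1)
  have h1 : Q0 ⊓ Ks = ⊥ := by
    rcases eq_bot_or_eq_of_le_card_prime hq (inf_le_right : Q0 ⊓ Ks ≤ Ks) with h | h
    · exact h
    · exfalso
      have f := F K le_rfl hK1 Q le_rfl hNQQ
      rw [h, inf_eq_right.mpr hKsQ, hq, hQQ0] at f
      have f2 : Nat.card Q = Nat.card Q0 :=
        Nat.eq_of_mul_eq_mul_left (pow_pos hqP.pos _) f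
      have f3 : Q0 = Q := Subgroup.eq_of_le_of_card_ge hQ0Q f2.le
      apply hne
      rw [← f3, hQ0]
      exact inf_le_right
  -- simplified formula
  have F' : ∀ E : Subgroup G, E ≤ K → E ≠ ⊥ → ∀ N : Subgroup G, N ≤ Q →
      D ⊔ K ≤ normalizer (N : Set G) →
      Nat.card N = Nat.card ↥(N ⊓ Ks) ^ Nat.card E * Nat.card ↥(N ⊓ centralizer (D : Set G)) := by
    intro E hEK hE1 N hNQ hN
    have f := F E hEK hE1 N hNQ hN
    rw [h1, inf_bot_eq, Subgroup.card_bot, one_pow, one_mul] at f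
    exact f
  -- (2)
  have hcardQ : Nat.card Q = q ^ Nat.card K * Nat.card Q0 := by
    have f := F' K le_rfl hK1 Q le_rfl hNQQ
    rwa [inf_eq_right.mpr hKsQ, hq, hQQ0] at f
  have hKprime : (Nat.card K).Prime := by
    have hK2 : Nat.card K ≠ 1 := fun h => hK1 ((Subgroup.card_eq_one).mp h)
    obtain ⟨p1, hp1, hp1d⟩ := Nat.exists_prime_and_dvd hK2
    have : Fact p1.Prime := ⟨hp1⟩
    obtain ⟨k, hk⟩ := exists_prime_orderOf_dvd_card' (G := K) p1 hp1d
    have hkK : zpowers (k : G) ≤ K := by rw [zpowers_le]; exact k.2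
    have hko : orderOf (k : G) = p1 := by rw [Subgroup.orderOf_coe, hk]
    have hk1 : zpowers (k : G) ≠ ⊥ := by
      intro h
      rw [zpowers_eq_bot] at h
      rw [h, orderOf_one] at hko
      exact hp1.one_lt.ne hko
    have f := F' (zpowers (k : G)) hkK hk1 Q le_rfl hNQQ
    rw [inf_eq_right.mpr hKsQ, hq, hQQ0, Nat.card_zpowers, hko, hcardQ] at f
    have f2 : q ^ Nat.card K = q ^ p1 := Nat.eq_of_mul_eq_mul_right hQ0pos f
    have f3 : Nat.card K = p1 := Nat.pow_right_injective hqP.two_le f2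
    rw [f3]; exact hp1
  -- (3)+(5'): an invariant subgroup between `Q0` and `Q`, not inside `Q0`, is `Q`
  have key : ∀ N : Subgroup G, Q0 ≤ N → N ≤ Q → D ⊔ K ≤ normalizer (N : Set G) → ¬ N ≤ Q0 →
      N = Q := by
    intro N hQ0N hNQ hN hnot
    have f := F' K le_rfl hK1 N hNQ hN
    have hND : N ⊓ centralizer (D : Set G) = Q0 := by
      apply le_antisymm
      · rw [hQ0]; exact inf_le_inf_right _ hNQ
      · refine le_inf hQ0N ?_
        rw [hQ0]; exact inf_le_right
    rw [hND] at f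
    rcases eq_bot_or_eq_of_le_card_prime hq (inf_le_right : N ⊓ Ks ≤ Ks) with h | h
    · exfalso
      rw [h, Subgroup.card_bot, one_pow, one_mul] at f
      exact hnot (Subgroup.eq_of_le_of_card_ge hQ0N f.le).ge
    · rw [h, hq, ← hcardQ] at f
      exact Subgroup.eq_of_le_of_card_ge hNQ f.ge
  have hQ0ne : ¬ Q ≤ Q0 := by
    intro h
    apply hne
    exact h.trans (hQ0 ▸ inf_le_right)
  -- `Q0` is invariant
  have hQ0N : D ⊔ K ≤ normalizer (Q0 : Set G) := by
    rw [hQ0]
    apply le_normalizer_inf hNQQ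
    have hD : D ⊔ K ≤ normalizer (D : Set G) := sup_le le_normalizer hKD
    intro g hg
    have hgD := hD hg
    rw [mem_normalizer_iff]
    intro x
    have aux : ∀ (g : G), g ∈ normalizer (D : Set G) → ∀ x, x ∈ centralizer (D : Set G) →
        g * x * g⁻¹ ∈ centralizer (D : Set G) := by
      intro g hg x hx
      rw [mem_centralizer_iff] at hx ⊢
      intro d hd
      have hd' : g⁻¹ * d * g ∈ D := by
        have := (mem_normalizer_iff.mp (inv_mem hg) d).mp hd
        simpa using this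
      have := hx _ hd'
      calc d * (g * x * g⁻¹) = g * ((g⁻¹ * d * g) * x) * g⁻¹ := by group
        _ = g * (x * (g⁻¹ * d * g)) * g⁻¹ := by rw [this]
        _ = g * x * g⁻¹ * d := by group
    constructor
    · exact aux g hgD x
    · intro h
      have := aux g⁻¹ (inv_mem hgD) _ h
      have e : g⁻¹ * (g * x * g⁻¹) * g⁻¹⁻¹ = x := by group
      rwa [e] at this
  -- (4) the Frattini subgroup
  have hPhi : (frattini ↥Q).map Q.subtype ≤ Q0 := by
    by_contra hnot
    have hPQ : (frattini ↥Q).map Q.subtype ≤ Q := map_subtype_le _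
    have hPN : D ⊔ K ≤ normalizer (((frattini ↥Q).map Q.subtype : Subgroup G) : Set G) :=
      hNQQ.trans (Cfsg.Agent.Lib.Helper1.normalizer_le_normalizer_map_of_characteristic Q (frattini ↥Q))
    have h2 := key (Q0 ⊔ (frattini ↥Q).map Q.subtype) le_sup_left (sup_le hQ0Q hPQ)
      (le_normalizer_sup hQ0N hPN) (fun h => hnot (le_sup_right.trans h))
    have h3 : Q0.subgroupOf Q ⊔ frattini ↥Q = ⊤ := by
      have h4 := congrArg (fun H : Subgroup G => H.subgroupOf Q) h2
      simp only [subgroupOf_self] at h4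
      rw [subgroupOf_sup hQ0Q hPQ] at h4
      rwa [show ((frattini ↥Q).map Q.subtype).subgroupOf Q = frattini ↥Q from
        comap_map_eq_self_of_injective Q.subtype_injective _] at h4
    have h5 := frattini_nongenerating h3
    exact hQ0ne (subgroupOf_eq_top.mp h5)
  refine ⟨hKprime, by rw [hcardQ, mul_comm], ?_, ?_⟩
  · intro a ha b hb
    constructor
    · apply hPhi
      have := Cfsg.Agent.Lib.Helper3.pow_p_mem_frattini hQ (⟨a, ha⟩ : Q)
      exact ⟨_, this, by simp⟩
    · apply hPhi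
      have h6 : ⁅(⟨a, ha⟩ : Q), (⟨b, hb⟩ : Q)⁆ ∈ commutator ↥Q :=
        Subgroup.commutator_mem_commutator (mem_top _) (mem_top _)
      have := Cfsg.Agent.Lib.Helper3.commutator_le_frattini hQ h6
      exact ⟨_, this, by simp [commutatorElement_def]⟩
  · intro N hlt hlt2 hN
    exact hlt2.ne (key N hlt.le hlt2.le hN (fun h => absurd (le_antisymm h hlt.le) hlt.ne'))

end Cfsg.Agent.Lib.Helper56.BG152
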