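import Cfsg.Agent.Lib.Helper53.SADefs
import Cfsg.Agent.Lib.Helper53.JCBasic

set_option autoImplicit false

/-! Symmetric `S₃`-amalgam ladder (helper53), rung GEOB: the fields `noZ`, `noN`, `exc` of `Geo`
for the coset geometry. -/

namespace Cfsg.Agent.Lib.Helper56.SA

open Cfsg Subgroup
open Cfsg.Agent.Lib.Helper53
open Cfsg.Agent.Lib.Helper53.SA
open Cfsg.Agent.Lib.Helper53.JC (cjj QQ)

variable {G : Type*} [Group G]

theorem cjj_mul (Q : Subgroup G) (h g : G) : cjj (h * g) Q = cjj h (cjj g Q) := (cj_cj Q g h).symm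
theorem cjj_one' (Q : Subgroup G) : cjj 1 Q = Q := cj_one Q
theorem cjj_inf' (g : G) (Q R : Subgroup G) : cjj g (Q ⊓ R) = cjj g Q ⊓ cjj g R := cj_inf Q R g
theorem cjj_sup' (g : G) (Q R : Subgroup G) : cjj g (Q ⊔ R) = cjj g Q ⊔ cjj g R := cj_sup Q R g
theorem cjj_centralizer (g : G) (Q : Subgroup G) :
    cjj g (centralizer (Q : Set G)) = centralizer (cjj g Q : Set G) := (centralizer_cj Q g).symm
theorem cjj_normalizer (g : G) (Q : Subgroup G) :
    cjj g (normalizer (Q : Set G)) = normalizer (cjj g Q : Set G) := (normalizer_cj Q g).symm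
theorem cjj_eq_self_iff' {g : G} {Q : Subgroup G} : cjj g Q = Q ↔ g ∈ normalizer (Q : Set G) :=
  cj_eq_self_iff

/-- transport along an edge: for a `P`-invariant `X`. -/
theorem cjj_edge {P X : Subgroup G} (hX : P ≤ normalizer (X : Set G)) {x g p p' : G} (hp : p ∈ P)
    (hp' : p' ∈ P) :
    cjj g X = cjj (g * p) X ∧ cjj (g * p * x * p') X = cjj (g * p) (cjj x X) := by
  have e1 : cjj p X = X := cj_eq_self_iff.mpr (hX hp)
  have e2 : cjj p' X = X := cj_eq_self_iff.mpr (hX hp')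
  constructor
  · rw [cjj_mul, e1]
  · rw [cjj_mul, e2, cjj_mul]

theorem geo_noZ {P T : Subgroup G} {x : G} (h : Hyp P T x) (l : Loc P T x) :
    ∀ g h', CAdj P x g h' → ∀ c, c ∈ cjj g P → c ∈ cjj h' P → cjj g P ≤ centralizer {c} →
      cjj h' P ≤ centralizer {c} → c = 1 := by
  rintro g _ ⟨p, hp, p', hp', rfl⟩ c hc1 hc2 hc3 hc4
  obtain ⟨e1, e2⟩ := cjj_edge (X := P) le_normalizer (x := x) (g := g) hp hp'
  rw [e1] at hc1 hc3
  rw [e2] at hc2 hc4
  -- the subgroup `N`
  obtain ⟨N, hN⟩ : ∃ N : Subgroup G,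
      N = T ⊓ centralizer (P : Set G) ⊓ centralizer (cjj x P : Set G) := ⟨_, rfl⟩
  have hNbot : N = ⊥ := by
    apply h.hcore N
    · rw [hN]; exact inf_le_left.trans inf_le_left
    · intro a ha
      rw [mem_normalizer_iff]
      intro n
      have key : ∀ n ∈ N, ∀ a ∈ P, a * n * a⁻¹ = n := by
        intro n hn a ha
        rw [hN] at hn
        have := (mem_centralizer_iff.mp hn.1.2) a ha
        rw [this]; group
      constructor
      · intro hn
        rw [key n hn a ha]; exact hn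
      · intro hn
        have := key _ hn a⁻¹ (inv_mem ha)
        have e : a⁻¹ * (a * n * a⁻¹) * a⁻¹⁻¹ = n := by group
        rw [e] at this
        rw [this]; exact hn
    · rw [← cjj_eq_self_iff', hN, cjj_inf', cjj_inf', l.xT, cjj_centralizer, cjj_centralizer, l.xxP,
        inf_assoc, inf_assoc, inf_comm (centralizer (cjj x P : Set G))]
  have hmem : c ∈ cjj (g * p) N := by
    rw [hN, cjj_inf', cjj_inf', ← l.PxP, cjj_inf', cjj_centralizer, cjj_centralizer]
    refine mem_inf.mpr ⟨mem_inf.mpr ⟨mem_inf.mpr ⟨hc1, hc2⟩, ?_⟩, ?_⟩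
    · rw [mem_centralizer_iff]
      intro y hy
      exact (mem_centralizer_singleton_iff.mp (hc3 hy))
    · rw [mem_centralizer_iff]
      intro y hy
      exact (mem_centralizer_singleton_iff.mp (hc4 hy))
  rw [hNbot] at hmem
  simpa using hmem

theorem geo_noN {P T : Subgroup G} {x : G} (h : Hyp P T x) (l : Loc P T x) :
    ∀ g h', CAdj P x g h' →
      ¬ cjj g P ≤ normalizer ((cjj g (ZP P T) ⊔ cjj h' (ZP P T) : Subgroup G) : Set G) := by
  rintro g _ ⟨p, hp, p', hp', rfl⟩ hle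
  obtain ⟨e1, -⟩ := cjj_edge (X := P) le_normalizer (x := x) (g := g) hp hp'
  obtain ⟨f1, f2⟩ := cjj_edge (X := ZP P T) l.Zn (x := x) (g := g) hp hp'
  rw [e1, f1, f2, ← cjj_sup', ← cjj_normalizer] at hle
  have hle' : P ≤ normalizer ((ZP P T ⊔ cjj x (ZP P T) : Subgroup G) : Set G) :=
    (Subgroup.map_le_map_iff_of_injective (MulAut.conj (g * p)).injective).mp hle
  have hZT : ZP P T ≤ T := l.ZQ.trans l.QT
  have hbot : ZP P T ⊔ cjj x (ZP P T) = ⊥ := by
    apply h.hcore _ _ hle'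
    · rw [← cjj_eq_self_iff', cjj_sup', ← cjj_mul,
        cjj_eq_self_iff'.mpr (l.Zn (l.TP h.hx2)), sup_comm]
    · refine sup_le hZT ?_
      calc cjj x (ZP P T) ≤ cjj x T := cj_mono x hZT
        _ = T := l.xT
  exact l.Zne (le_bot_iff.mp (hbot ▸ le_sup_left))

/-- vertices reachable from `1`. -/
def Reach (P : Subgroup G) (x : G) (d : G) : Prop :=
  ∃ (n : ℕ) (δ : ℕ → G), (∀ i < n, CAdj P x (δ i) (δ (i + 1))) ∧ δ 0 = 1 ∧ δ n = d

theorem Reach.step {P : Subgroup G} {x d e : G} (hd : Reach P x d) (he : CAdj P x d e) :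
    Reach P x e := by
  obtain ⟨n, δ, hw, h0, hn⟩ := hd
  refine ⟨n + 1, fun i => if i ≤ n then δ i else e, ?_, ?_, ?_⟩
  · intro i hi
    by_cases h : i + 1 ≤ n
    · have h' : i ≤ n := by omega
      simp only [h, h', if_true]
      exact hw i (by omega)
    · have h' : i = n := by omega
      subst h'
      simp only [le_refl, if_true, h, if_false]
      rw [hn]; exact he
  · simp [h0]
  · simp

theorem geo_exc [Finite G] {P T : Subgroup G} {x : G} (h : Hyp P T x) (l : Loc P T x) :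
    ∃ (n : ℕ) (δ : ℕ → G), (∀ i < n, CAdj P x (δ i) (δ (i + 1))) ∧
      ¬ cjj (δ 0) (ZP P T) ≤ cjj (δ n) (QQ P) := by
  by_contra hcon
  push Not at hcon
  have hQn : P ≤ normalizer (QQ P : Set G) := le_normalizer_pCoreOf 2 P
  have hR : ∀ d, Reach P x d → ZP P T ≤ cjj d (QQ P) := by
    rintro d ⟨n, δ, hw, h0, rfl⟩
    have := hcon n δ hw
    rwa [h0, cjj_one'] at this
  -- every element of `H = ⟨P, x⟩` is `d * p` with `d` reachable
  have hH : ∀ y ∈ closure ((P : Set G) ∪ {x}), ∃ d, Reach P x d ∧ ∃ p ∈ P, y = d * p := by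
    intro y hy
    induction hy using closure_induction_right with
    | one => exact ⟨1, ⟨0, fun _ => 1, by simp, rfl, rfl⟩, 1, one_mem _, by simp⟩
    | mul_right y _ z hz ih =>
      obtain ⟨d, hd, p, hp, rfl⟩ := ih
      rcases hz with hz | hz
      · exact ⟨d, hd, p * z, mul_mem hp hz, by group⟩
      · rw [Set.mem_singleton_iff] at hz
        subst hz
        exact ⟨d * p * z, hd.step ⟨p, hp, 1, one_mem _, by simp⟩, 1, one_mem _, by simp⟩
    | mul_inv_cancel y _ z hz ih =>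
      obtain ⟨d, hd, p, hp, rfl⟩ := ih
      rcases hz with hz | hz
      · exact ⟨d, hd, p * z⁻¹, mul_mem hp (inv_mem hz), by group⟩
      · rw [Set.mem_singleton_iff] at hz
        subst hz
        exact ⟨d * p * z⁻¹, hd.step ⟨p, hp, (z * z)⁻¹, inv_mem (l.TP h.hx2), by group⟩, 1,
          one_mem _, by simp⟩
  have hZH : ∀ y ∈ closure ((P : Set G) ∪ {x}), ZP P T ≤ cjj y (QQ P) := by
    intro y hy
    obtain ⟨d, hd, p, hp, rfl⟩ := hH y hy
    rw [cjj_mul, cjj_eq_self_iff'.mpr (hQn hp)]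
    exact hR d hd
  obtain ⟨N, hN⟩ : ∃ N : Subgroup G,
      N = ⨅ y : closure ((P : Set G) ∪ {x}), cjj (y : G) (QQ P) := ⟨_, rfl⟩
  have hZN : ZP P T ≤ N := by
    rw [hN]
    exact le_iInf fun y => hZH y y.2
  have hinv : ∀ a ∈ closure ((P : Set G) ∪ {x}), a ∈ normalizer (N : Set G) := by
    intro a ha
    rw [← cjj_eq_self_iff']
    apply cj_eq_of_le
    rw [hN]
    refine le_iInf fun y => ?_
    have h1 : (⨅ y : closure ((P : Set G) ∪ {x}), cjj (y : G) (QQ P)) ≤ cjj (a⁻¹ * y) (QQ P) :=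
      iInf_le (fun y : closure ((P : Set G) ∪ {x}) => cjj (y : G) (QQ P))
        ⟨a⁻¹ * y, mul_mem (inv_mem ha) y.2⟩
    have h2 : cjj a (⨅ y : closure ((P : Set G) ∪ {x}), cjj (y : G) (QQ P))
        ≤ cjj a (cjj (a⁻¹ * y) (QQ P)) := cj_mono a h1
    rw [← cjj_mul, mul_inv_cancel_left] at h2
    exact h2
  have hNbot : N = ⊥ := by
    apply h.hcore N
    · have h1 : N ≤ cjj 1 (QQ P) := by
        rw [hN]
        exact iInf_le (fun y : closure ((P : Set G) ∪ {x}) => cjj (y : G) (QQ P)) ⟨1, one_mem _⟩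
      rw [cjj_one'] at h1
      exact h1.trans l.QT
    · intro a ha
      exact hinv a (subset_closure (Or.inl ha))
    · exact hinv x (subset_closure (Or.inr rfl))
  exact l.Zne (le_bot_iff.mp (hNbot ▸ hZN))

end Cfsg.Agent.Lib.Helper56.SA
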