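import Cfsg.Agent.Lib.Helper56.JC44
import Cfsg.Agent.Lib.Helper53.WeakClosed
import Cfsg.Agent.Lib.Helper15.ZJBridge

set_option autoImplicit false

/-! K-S ch. 12 ladder (helper53): S2948 from St6. -/

namespace Cfsg.Agent.Lib.Helper56.JC

open Cfsg Subgroup
open Cfsg.Agent.Lib.Helper53 Cfsg.Agent.Lib.Helper53.JC
open Cfsg.Agent.Lib.Helper15.ZJ (AE PE)

variable {G : Type*} [Group G]

theorem maxElemAbelianOrder_eq {T A : Subgroup G} (hA : A ∈ AE 2 T) :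
    maxElemAbelianOrder T = Nat.card A := by
  unfold maxElemAbelianOrder
  rw [Helper15.ZJ.maxElementaryAbelianSubgroups_eq]
  have h1 : (fun A : Subgroup ↥T => Nat.card ↥A) '' AE 2 (⊤ : Subgroup ↥T) = {Nat.card A} := by
    ext n
    rw [Set.mem_singleton_iff]
    constructor
    · rintro ⟨B, hB, rfl⟩
      have hB' : B.map T.subtype ∈ AE 2 T := by
        rw [Helper15.ZJ.AE_subtype]; exact ⟨B, hB, rfl⟩
      rw [← AE_card_eq hB' hA]
      exact (Subgroup.card_map_of_injective T.subtype_injective).symm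
    · rintro rfl
      rw [Helper15.ZJ.AE_subtype] at hA
      obtain ⟨B, hB, rfl⟩ := hA
      exact ⟨B, hB, (Subgroup.card_map_of_injective T.subtype_injective).symm⟩
  rw [h1, csSup_singleton]

theorem JJ_ne_bot [Finite G] {T : Subgroup G} (hT : IsPGroup 2 T) (hT1 : T ≠ ⊥) : JJ T ≠ ⊥ := by
  intro h0
  obtain ⟨A, hA⟩ := Helper15.ZJ.AE_nonempty 2 T
  have hA0 : A = ⊥ := by
    have := le_JJ hA
    rwa [h0, le_bot_iff] at this
  obtain ⟨n, hn⟩ := IsPGroup.iff_card.1 hT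
  have hn0 : n ≠ 0 := by
    rintro rfl
    rw [pow_zero] at hn
    exact hT1 (Subgroup.card_eq_one.1 hn)
  have h2 : 2 ∣ Nat.card T := by rw [hn]; exact dvd_pow_self 2 hn0
  obtain ⟨x, hx⟩ := exists_prime_orderOf_dvd_card' (G := T) 2 h2
  have hx2 : (x : G) ^ 2 = 1 := by
    have := pow_orderOf_eq_one x
    rw [hx] at this
    exact_mod_cast congrArg Subtype.val this
  have h3 := hA.2.2 (zpowers (x : G)) (by rw [zpowers_le]; exact x.2) (Helper15.ZJ.PE_zpowers hx2)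
  rw [hA0, card_bot, Nat.card_zpowers, Subgroup.orderOf_coe, hx] at h3
  omega

/-- a straddling subgroup containing `J(T)` for a maximal one `T`. -/
theorem beats [Finite G] {M T T' : Subgroup G} (hT : T ∈ maxStraddlingTwoSubgroups M)
    (hT' : T' ∈ straddlingTwoSubgroups M) (hJ : JJ T ≤ T') :
    JJ T' = JJ T ∧ Nat.card T' ≤ Nat.card T := by
  obtain ⟨A, hA⟩ := Helper15.ZJ.AE_nonempty 2 T
  obtain ⟨B, hB⟩ := Helper15.ZJ.AE_nonempty 2 T'
  obtain ⟨m1, m2⟩ := hT.2 T' hT'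
  rw [maxElemAbelianOrder_eq hA, maxElemAbelianOrder_eq hB] at m1 m2
  have h1 : Nat.card A ≤ Nat.card B := hB.2.2 A ((le_JJ hA).trans hJ) hA.2.1
  have h2 : Nat.card B = Nat.card A := le_antisymm m1 h1
  obtain ⟨m3, m4⟩ := m2 h2
  have h3 : JJ T ≤ JJ T' := by
    rw [JJ_le_iff]
    intro A' hA'
    apply le_JJ
    refine ⟨(le_JJ hA').trans hJ, hA'.2.1, fun C hC hC2 => ?_⟩
    rw [AE_card_eq hA' hA, ← h2]
    exact hB.2.2 C hC hC2
  have h4 : JJ T = JJ T' := Subgroup.eq_of_le_of_card_ge h3 m3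
  exact ⟨h4.symm, m4 (by rw [show thompsonSubgroupOf 2 T' = thompsonSubgroupOf 2 T from h4.symm])⟩

/-- (F): `N_G(J(T)) ≤ M` for `T ∈ 𝒯*(M)`. -/
theorem normalizer_JJ_le [Finite G] (S : Sylow 2 G) {M : Subgroup G}
    (hMJ : normalizer (JJ (S : Subgroup G) : Set G) ≤ M) {T : Subgroup G}
    (hT : T ∈ maxStraddlingTwoSubgroups M) : normalizer (JJ T : Set G) ≤ M := by
  obtain ⟨hTp, hT1, hTM, -⟩ := hT.1
  have hSM : (S : Subgroup G) ≤ M :=
    (le_normalizer.trans (normalizer_le_normalizer_JJ _)).trans hMJ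
  have hS : IsSyl 2 (S : Subgroup G) M := (isSyl_top_of_sylow S).of_le hSM le_top
  obtain ⟨P, hP, hTP⟩ := exists_isSyl_ge hTM hTp
  obtain ⟨m, hm, hmP⟩ := hS.exists_conj hP
  by_cases hTeq : T = P
  · rw [hTeq, hmP]
    have e1 : JJ (cjj m (S : Subgroup G)) = cjj m (JJ (S : Subgroup G)) := (JJ_cj m _).symm
    show normalizer ((JJ (cjj m (S : Subgroup G)) : Subgroup G) : Set G) ≤ M
    rw [e1]
    show normalizer (((JJ (S : Subgroup G)).map (MulAut.conj m).toMonoidHom : Subgroup G) : Set G) ≤ M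
    rw [normalizer_cj]
    exact cj_le_of_le_of_mem hMJ hm
  · by_contra hcon
    have hlt : T < P := lt_of_le_of_ne hTP hTeq
    have hlt2 := lt_inf_normalizer hP.isPGroup hlt
    have hst : P ⊓ normalizer (T : Set G) ∈ straddlingTwoSubgroups M := by
      refine ⟨hP.isPGroup.to_le inf_le_left, ?_, inf_le_left.trans hP.le,
        normalizer (JJ T : Set G), ⟨JJ T, hTp.to_le (JJ_le T), JJ_ne_bot hTp hT1, rfl⟩,
        inf_le_right.trans (normalizer_le_normalizer_JJ T), hcon⟩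
      intro h0
      rw [h0] at hlt2
      exact absurd hlt2 (not_lt_bot)
    have h5 := (beats hT hst ((JJ_le T).trans hlt2.le)).2
    have h6 := Subgroup.eq_of_le_of_card_ge hlt2.le h5
    exact hlt2.ne h6

theorem S2948_core [Finite G] (hL : IsCharacteristicTwoType G) (S : Sylow 2 G) (M : Subgroup G)
    (hMJ : Subgroup.normalizer (Cfsg.thompsonSubgroupOf 2 (S : Subgroup G) : Set G) ≤ M)
    (T : Subgroup G) (hT : T ∈ Cfsg.maxStraddlingTwoSubgroups M)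
    (L : Subgroup G) (hL2 : Cfsg.IsTwoLocal L) (hLM : ¬ L ≤ M) (T₀ : Subgroup G)
    (hT₀ : IsSyl 2 T₀ L) (hJT₀ : JJ T ≤ T₀) :
    JJ T₀ = JJ T ∧ T₀ ∈ Cfsg.straddlingTwoSubgroups M ∧ L ∈ Cfsg.jOvergroups T₀ := by
  obtain ⟨hTp, hT1, hTM, -⟩ := hT.1
  have hF := normalizer_JJ_le S hMJ hT
  obtain ⟨T2, hT2⟩ : ∃ T2, T2 = T₀ ⊓ normalizer (JJ T : Set G) := ⟨_, rfl⟩
  have hJT2 : JJ T ≤ T2 := hT2 ▸ le_inf hJT₀ le_normalizer
  have hT2le : T2 ≤ T₀ := hT2 ▸ inf_le_left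
  have hst : T2 ∈ straddlingTwoSubgroups M := by
    refine ⟨hT₀.isPGroup.to_le hT2le, ?_, (hT2 ▸ inf_le_right : T2 ≤ _).trans hF, L, hL2,
      hT2le.trans hT₀.le, hLM⟩
    intro h0
    rw [h0, le_bot_iff] at hJT2
    exact JJ_ne_bot hTp hT1 hJT2
  have hJ2 := (beats hT hst hJT2).1
  have hT2eq : T2 = T₀ := by
    by_contra hne
    have hlt := lt_inf_normalizer hT₀.isPGroup (lt_of_le_of_ne hT2le hne)
    apply hlt.not_ge
    rw [hT2]
    refine le_inf inf_le_left ?_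
    rw [← hT2]
    have := normalizer_le_normalizer_JJ T2
    rw [hJ2] at this
    exact inf_le_right.trans this
  rw [hT2eq] at hst hJ2
  refine ⟨hJ2, hst, isSylowTwoIn_iff.2 hT₀, ?_, twoLocal_char hL hL2⟩
  intro hcon
  apply hLM
  have e1 : JJ (pCoreOf 2 L) = JJ T₀ :=
    Helper55.thompsonSubgroupOf_eq_of_le hcon (pCoreOf_le_isSyl hT₀)
  have e2 : L ≤ normalizer (JJ (pCoreOf 2 L) : Set G) :=
    (le_normalizer_pCoreOf 2 L).trans (normalizer_le_normalizer_JJ _)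
  rw [e1, hJ2] at e2
  exact e2.trans hF

theorem S2948_of [Finite G] (h : ZN G) (h6 : St6 G) (S : Sylow 2 G) (M : Subgroup G)
    (hMJ : Subgroup.normalizer (Cfsg.thompsonSubgroupOf 2 (S : Subgroup G) : Set G) ≤ M)
    (T : Subgroup G) (hT : T ∈ Cfsg.maxStraddlingTwoSubgroups M)
    (L : Subgroup G) (hL2 : Cfsg.IsTwoLocal L) (hLM : ¬ L ≤ M) (T₀ : Subgroup G)
    (hT₀ : Cfsg.IsSylowTwoIn T₀ L) (hJT₀ : Cfsg.thompsonSubgroupOf 2 T ≤ T₀) :
    Cfsg.thompsonSubgroupOf 2 T = Cfsg.thompsonSubgroupOf 2 T₀ ∧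
      T₀ ∈ Cfsg.straddlingTwoSubgroups M ∧ L ∈ Cfsg.jOvergroups T₀ ∧
      (T ≤ L → L ∈ Cfsg.jOvergroups T ∧ ∃ K : Subgroup G, Cfsg.IsJComponent T K ∧ K ≤ L) := by
  obtain ⟨a, b, c⟩ := S2948_core h.hL S M hMJ T hT L hL2 hLM T₀ (isSylowTwoIn_iff.1 hT₀) hJT₀
  refine ⟨a.symm, b, c, fun hTL => ?_⟩
  obtain ⟨hTp, hT1, hTM, -⟩ := hT.1
  obtain ⟨P, hP, hTP⟩ := exists_isSyl_ge hTL hTp
  obtain ⟨a', b', c'⟩ := S2948_core h.hL S M hMJ T hT L hL2 hLM P hP ((JJ_le T).trans hTP)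
  have h5 := (beats hT b' ((JJ_le T).trans hTP)).2
  have h7 : T = P := Subgroup.eq_of_le_of_card_ge hTP h5
  rw [← h7] at c'
  exact ⟨c', h6 T L hTp c'⟩

end Cfsg.Agent.Lib.Helper56.JC
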