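import Cfsg.Agent.Lib.Helper53.JCBasic
import Cfsg.Agent.Lib.Helper55.SupNormal

set_option autoImplicit false

/-! K-S ch. 12 ladder (helper53): S2944 from St3, St4. -/

namespace Cfsg.Agent.Lib.Helper56.JC

open Cfsg Subgroup
open Cfsg.Agent.Lib.Helper53 Cfsg.Agent.Lib.Helper53.JC
open Cfsg.Agent.Lib.Helper15.ZJ (AE PE)

variable {G : Type*} [Group G]

/-- a 2-local subgroup of a group of characteristic 2 type has `C_G(O₂(N)) ≤ O₂(N)`. -/
theorem twoLocal_char (hL : IsCharacteristicTwoType G) {N : Subgroup G} (hN : IsTwoLocal N) :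
    centralizer (pCoreOf 2 N : Set G) ≤ pCoreOf 2 N := by
  obtain ⟨R, hR, hR1, rfl⟩ := hN
  have h1 : R ≤ pCoreOf 2 (normalizer (R : Set G)) := le_pCoreOf le_normalizer le_rfl hR
  have h2 := charP_iff.1 (hL.2 R hR hR1)
  refine le_trans (le_inf ?_ le_rfl) h2
  exact (centralizer_le (by exact_mod_cast h1)).trans (centralizer_le_normalizer _)

theorem twoLocal_pCoreOf_ne_bot {N : Subgroup G} (hN : IsTwoLocal N) : pCoreOf 2 N ≠ ⊥ := by
  obtain ⟨R, hR, hR1, rfl⟩ := hN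
  have h1 : R ≤ pCoreOf 2 (normalizer (R : Set G)) := le_pCoreOf le_normalizer le_rfl hR
  intro h
  rw [h, le_bot_iff] at h1
  exact hR1 h1

theorem jc_J_le_normalizer {T K : Subgroup G} (h : IsJComponent T K) :
    JJ T ≤ normalizer (K : Set G) :=
  Helper55.le_normalizer_of_commutator_le h.2.1.le

theorem jc_not_isPGroup {T K : Subgroup G} (h : IsJComponent T K) : ¬ IsPGroup 2 K := by
  intro hp
  have h1 : K ≤ pCoreOf 2 K := le_pCoreOf le_rfl le_normalizer hp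
  have h2 := h.2.2.1
  rw [relIndex_eq_one.2 h1] at h2
  omega

theorem jc_W_isPGroup {T K : Subgroup G} (h : IsJComponent T K) :
    IsPGroup 2 (wOf K) :=
  IsPGroup.of_card (n := 2) (by rw [h.2.2.2.2.1]; norm_num)

theorem jc_W_ne_bot {T K : Subgroup G} (h : IsJComponent T K) : wOf K ≠ ⊥ := by
  intro h0
  have := h.2.2.2.2.1
  rw [h0, card_bot] at this
  omega

theorem jc_twoLocal_W {T K : Subgroup G} (h : IsJComponent T K) :
    IsTwoLocal (normalizer (wOf K : Set G)) :=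
  ⟨wOf K, jc_W_isPGroup h, jc_W_ne_bot h, rfl⟩

/-- `J(T)` does not lie in `O₂(N)` if `N` contains the J(T)-component `K`. -/
theorem jc_not_J_le_pCoreOf {T K N : Subgroup G} (h : IsJComponent T K) (hKN : K ≤ N) :
    ¬ JJ T ≤ pCoreOf 2 N := by
  intro hJ
  apply jc_not_isPGroup h
  have h1 : K ≤ pCoreOf 2 N := by
    conv_lhs => rw [← h.2.1]
    rw [commutator_le]
    intro k hk j hj
    have hj' := hJ hj
    have h2 : k * j * k⁻¹ ∈ pCoreOf 2 N :=
      (mem_normalizer_iff.1 (le_normalizer_pCoreOf 2 N (hKN hk)) j).1 hj'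
    rw [commutatorElement_def]
    exact (pCoreOf 2 N).mul_mem h2 ((pCoreOf 2 N).inv_mem hj')
  exact (pCoreOf_isPGroup 2 N).to_le h1

/-- if `J(S) = J(T)` then the largest elementary abelian subgroups are the same. -/
theorem AE_eq_of_JJ_eq [Finite G] {S T : Subgroup G} (h : JJ S = JJ T) : AE 2 S = AE 2 T := by
  have key : ∀ {S T : Subgroup G}, JJ S = JJ T → AE 2 S ⊆ AE 2 T := by
    intro S T h A hA
    obtain ⟨B, hB⟩ := Helper15.ZJ.AE_nonempty 2 T
    have hAT : A ≤ T := ((le_JJ hA).trans h.le).trans (JJ_le T)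
    have hBS : B ≤ S := ((le_JJ hB).trans h.ge).trans (JJ_le S)
    exact ⟨hAT, hA.2.1, fun C hC hC2 => (hB.2.2 C hC hC2).trans (hA.2.2 B hBS hB.2.1)⟩
  exact Set.Subset.antisymm (key h) (key h.symm)

theorem S2944_of [Finite G] (h : ZN G) (h3 : St3 G) (h4 : St4 G)
    (T : Subgroup G) (hT : IsPGroup 2 ↥T) (K : Subgroup G) (hK : K ∈ Cfsg.jComponentsZero T) :
    Subgroup.normalizer (K : Set G) = Subgroup.normalizer (Cfsg.wOf K : Set G) ∧
      ∀ g : G, Cfsg.thompsonSubgroupOf 2 (T.map (MulAut.conj g).toMonoidHom) ≤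
          Subgroup.normalizer (Cfsg.wOf K : Set G) →
        Cfsg.IsJComponent (T.map (MulAut.conj g).toMonoidHom) K := by
  obtain ⟨hK1, hK2⟩ := hK
  obtain ⟨N, hNdef⟩ : ∃ N, N = normalizer (wOf K : Set G) := ⟨_, rfl⟩
  rw [← hNdef] at hK2 ⊢
  have hN2 : IsTwoLocal N := hNdef ▸ jc_twoLocal_W hK1
  have hKN : K ≤ N := hNdef ▸ le_normalizer.trans (normalizer_le_normalizer_wOf K)
  have hJN : JJ T ≤ N := hNdef ▸ (jc_J_le_normalizer hK1).trans (normalizer_le_normalizer_wOf K)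
  have hJp : IsPGroup 2 (JJ T) := hT.to_le (JJ_le T)
  obtain ⟨S1, hS1, hJS1⟩ := exists_isSyl_ge hJN hJp
  have hJS : JJ S1 = JJ T := hK2 S1 hJS1 (isSylowTwoIn_iff.2 hS1)
  have hov : N ∈ jOvergroups S1 := by
    refine ⟨isSylowTwoIn_iff.2 hS1, ?_, twoLocal_char h.hL hN2⟩
    show ¬ JJ S1 ≤ _
    rw [hJS]
    exact jc_not_J_le_pCoreOf hK1 hKN
  have hKS1 : IsJComponent S1 K := (isJComponent_congr hJS).2 hK1
  have hNK : ∀ n ∈ N, cjj n K = K := by
    intro n hn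
    by_contra hne
    have h5 := h4 S1 N K hS1.isPGroup hov hKS1 hKN n hn
    have h6 := h3 S1 N (cjj n K) K hS1.isPGroup hov h5 (cj_le_of_le_of_mem hKN hn) hKS1 hKN hne
    rw [← wOf_cj, show cjj n (wOf K) = wOf K from cj_eq_self_iff.2 (hNdef ▸ hn), inf_idem] at h6
    exact jc_W_ne_bot hK1 h6
  refine ⟨le_antisymm (hNdef ▸ normalizer_le_normalizer_wOf K)
    (fun n hn => cj_eq_self_iff.1 (hNK n hn)), ?_⟩
  intro g hg
  have hgp : IsPGroup 2 (JJ (cjj g T)) := (isPGroup_cj hT g).to_le (JJ_le _)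
  obtain ⟨S2, hS2, hJS2⟩ := exists_isSyl_ge hg hgp
  obtain ⟨n, hn, hnS⟩ := hS1.exists_conj hS2
  -- J(S2) = J(T)^n
  have e1 : JJ S2 = cjj n (JJ T) := by
    rw [hnS, ← hJS]
    exact (JJ_cj n S1).symm
  have e2 : JJ (cjj g T) ≤ JJ S2 := by
    rw [JJ_le_iff]
    intro A hA
    apply le_JJ
    -- a comparison member
    obtain ⟨A0, hA0⟩ := Helper15.ZJ.AE_nonempty 2 T
    have hA0S1 : A0 ∈ AE 2 S1 := by rw [AE_eq_of_JJ_eq hJS]; exact hA0
    have hA0S2 : cjj n A0 ∈ AE 2 S2 := by rw [hnS]; exact AE_cj n hA0S1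
    have hA0g : cjj g A0 ∈ AE 2 (cjj g T) := AE_cj g hA0
    have hc : Nat.card A = Nat.card (cjj n A0) := by
      rw [AE_card_eq hA hA0g]
      exact (card_cj A0 g).trans (card_cj A0 n).symm
    exact ⟨(le_JJ hA).trans hJS2, hA.2.1, fun B hB hB2 => hc ▸ hA0S2.2.2 B hB hB2⟩
  have e3 : JJ (cjj g T) = JJ (cjj n T) := by
    rw [← JJ_cj n T, ← e1]
    apply Subgroup.eq_of_le_of_card_ge e2
    rw [e1, ← JJ_cj g T]
    exact ((card_cj _ n).trans (card_cj _ g).symm).le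
  refine (isJComponent_congr e3).2 ?_
  have := isJComponent_cj n hK1
  rwa [hNK n hn] at this

end Cfsg.Agent.Lib.Helper56.JC
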