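import Cfsg.Agent.Lib.Helper53.JC2Defs
import Cfsg.Agent.Lib.Helper53.JCW
import Cfsg.Agent.Lib.Helper56.JC48
import Cfsg.Agent.Lib.Helper64.JC2950
import Cfsg.Agent.Lib.Helper30.PiCore
import Cfsg.Agent.S2946
import Cfsg.Agent.S2948
import Cfsg.Agent.S2950

set_option autoImplicit false

/-! K-S ch. 12, part 2 (ladder JC2 of helper53), rung AF. -/

namespace Cfsg.Agent.Lib.Helper56.JC2

open Cfsg Subgroup
open Cfsg.Agent.Lib.Helper53 Cfsg.Agent.Lib.Helper53.JC Cfsg.Agent.Lib.Helper53.JC2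
open Cfsg.Agent.Lib.Helper15.ZJ (AE PE)

variable {G : Type*} [Group G] [Finite G]

omit [Finite G] in
theorem card_sup_dvd_of_le_normalizer' {H K : Subgroup G} (h : H ≤ normalizer (K : Set G)) :
    Nat.card (H ⊔ K : Subgroup G) ∣ Nat.card H * Nat.card K := by
  have hK : K ≤ normalizer (K : Set G) := le_normalizer
  have : (K.subgroupOf (normalizer (K : Set G))).Normal := normal_in_normalizer
  have h1 := Cfsg.Agent.Lib.Helper30.card_sup_dvd_mul (H.subgroupOf (normalizer (K : Set G)))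
    (K.subgroupOf (normalizer (K : Set G)))
  rw [← subgroupOf_sup h hK, Cfsg.Agent.Lib.Helper30.card_subgroupOf (sup_le h hK),
    Cfsg.Agent.Lib.Helper30.card_subgroupOf h, Cfsg.Agent.Lib.Helper30.card_subgroupOf hK] at h1
  exact h1

omit [Finite G] in
theorem centralizer_sup_eq' (D E : Subgroup G) :
    centralizer ((D ⊔ E : Subgroup G) : Set G) = centralizer (D : Set G) ⊓ centralizer (E : Set G) := by
  apply le_antisymm
  · exact le_inf (centralizer_le (SetLike.coe_subset_coe.mpr le_sup_left))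
      (centralizer_le (SetLike.coe_subset_coe.mpr le_sup_right))
  · intro x hx
    have h1 : zpowers x ≤ centralizer (D : Set G) := by rw [zpowers_le]; exact hx.1
    have h2 : zpowers x ≤ centralizer (E : Set G) := by rw [zpowers_le]; exact hx.2
    have h3 : D ⊔ E ≤ centralizer (zpowers x : Set G) :=
      sup_le (le_centralizer_iff.mp h1) (le_centralizer_iff.mp h2)
    exact (le_centralizer_iff.mp h3) (mem_zpowers x)

omit [Finite G] in
theorem centralizer_singleton_le_normalizer_zpowers (y : G) :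
    centralizer {y} ≤ normalizer (zpowers y : Set G) := by
  refine le_trans ?_ (centralizer_le_normalizer _)
  intro g hg
  rw [mem_centralizer_singleton_iff] at hg
  rw [mem_centralizer_iff]
  intro z hz
  obtain ⟨n, rfl⟩ := mem_zpowers_iff.mp hz
  have : Commute y g := hg.symm
  exact (this.zpow_left n)

/-- `Ω₁Z(T) ≤ Ω₁Z(J(T))`. -/
theorem omegaCenterOf_le_omegaCenterOf_JJ (T : Subgroup G) :
    omegaCenterOf T ≤ omegaCenterOf (JJ T) := by
  intro z hz
  obtain ⟨h1, h2, h3⟩ := mem_omegaCenterOf_iff.mp hz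
  obtain ⟨A, hA⟩ := Cfsg.Agent.Lib.Helper15.ZJ.AE_nonempty 2 T
  have hzA : z ∈ A := Cfsg.Agent.Lib.Helper15.ZJ.mem_of_commute hA h1 h3
    (fun a ha => (mem_centralizer_iff.mp h2) a (hA.1 ha))
  exact mem_omegaCenterOf (le_JJ hA hzA)
    (centralizer_le (SetLike.coe_subset_coe.mpr (JJ_le T)) h2) h3

/-- the counting part of S2946. -/
theorem card_omega_JJ (zn : ZN G) {T K' : Subgroup G} (hT : IsPGroup 2 ↥T) (hT1 : T ≠ ⊥)
    (hK' : IsJComponent T K') :
    Nat.card ↥(omegaCenterOf (JJ T)) =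
      2 * Nat.card ↥(omegaCenterOf (JJ T) ⊓ centralizer (K' : Set G)) := by
  obtain ⟨h2, hsup⟩ := Cfsg.Agent.S2946.result zn.hL zn.hN zn.hZ T hT hT1 K' hK'
    (omegaCenterOf (JJ T)) rfl
  obtain ⟨Z0, hZ0⟩ : ∃ Z0 : Subgroup G, Z0 = omegaCenterOf (JJ T) := ⟨_, rfl⟩
  have hJ : thompsonSubgroupOf 2 T = JJ T := rfl
  rw [hJ] at hsup
  rw [← hZ0] at h2 hsup ⊢
  have hZ0J : Z0 ≤ JJ T := hZ0 ▸ omegaCenterOf_le _
  have hZ0C : Z0 ≤ centralizer (JJ T : Set G) := hZ0 ▸ omegaCenterOf_le_centralizer _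
  have e1 : Z0 ⊓ ((K' ⊔ JJ T) ⊓ centralizer ((K' : Set G) ⊔ (JJ T : Set G)))
      = Z0 ⊓ centralizer (K' : Set G) := by
    apply le_antisymm
    · exact inf_le_inf_left _ (inf_le_right.trans (centralizer_le le_sup_left))
    · refine le_inf inf_le_left (le_inf ((inf_le_left.trans hZ0J).trans le_sup_right) ?_)
      intro x hx
      rw [mem_centralizer_iff]
      rintro y (hy | hy)
      · exact (mem_centralizer_iff.mp hx.2) y hy
      · exact (mem_centralizer_iff.mp (hZ0C hx.1)) y hy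
  rw [e1] at hsup
  obtain ⟨A, hA⟩ : ∃ A : Subgroup G, A = Z0 ⊓ centralizer (K' : Set G) := ⟨_, rfl⟩
  obtain ⟨B, hB⟩ : ∃ B : Subgroup G, B = Z0 ⊓ wOf K' := ⟨_, rfl⟩
  rw [← hA, ← hB] at hsup
  rw [← hB] at h2
  rw [← hA]
  have hAZ : A ≤ Z0 := hA ▸ inf_le_left
  have hBZ : B ≤ Z0 := hB ▸ inf_le_left
  have hdis : A ⊓ B = ⊥ := by
    rw [← le_bot_iff, ← jc_wOf_inf_centralizer hK', hA, hB]
    exact le_inf (inf_le_right.trans inf_le_right) (inf_le_left.trans inf_le_right)
  have hcomm : ∀ a ∈ Z0, ∀ b ∈ Z0, a * b = b * a := by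
    intro a ha b hb
    exact ((mem_centralizer_iff.mp (hZ0C hb)) a (hZ0J ha))
  have hBN : B ≤ normalizer (A : Set G) := by
    intro b hb
    rw [mem_normalizer_iff]
    intro a
    constructor
    · intro ha
      rw [hcomm b (hBZ hb) a (hAZ ha)]
      simpa using ha
    · intro ha
      have h3 : b * a * b⁻¹ ∈ Z0 := hAZ ha
      have h4 : a ∈ Z0 := by
        have := Z0.mul_mem (Z0.mul_mem (Z0.inv_mem (hBZ hb)) h3) (hBZ hb)
        simpa [mul_assoc] using this
      rw [hcomm b (hBZ hb) a h4] at ha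
      simpa using ha
  have d1 : Nat.card Z0 ∣ 2 * Nat.card A := by
    have := card_sup_dvd_of_le_normalizer' hBN
    rwa [sup_comm, hsup, h2] at this
  have d2 : Nat.card A ∣ Nat.card Z0 := card_dvd_of_le hAZ
  have hne : Nat.card Z0 ≠ Nat.card A := by
    intro h
    have h5 : A = Z0 := Subgroup.eq_of_le_of_card_ge hAZ h.le
    have h6 : B = ⊥ := by
      rw [← hdis, h5]
      exact (inf_eq_right.mpr hBZ).symm
    rw [h6, card_bot] at h2
    omega
  obtain ⟨k, hk⟩ := d2
  have hApos : 0 < Nat.card A := Nat.card_pos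
  rw [hk, mul_comm 2] at d1
  have hk2 : k ∣ 2 := Nat.dvd_of_mul_dvd_mul_left hApos d1
  rcases (Nat.dvd_prime Nat.prime_two).mp hk2 with h | h
  · exfalso; apply hne; rw [hk, h, mul_one]
  · rw [hk, h, mul_comm]

theorem af {S : Sylow 2 G} {M T K L : Subgroup G} (c : C51 S M T K L) : AF S T K L := by
  have zn := c.zn
  have jc : IsJComponent T K := c.hK.1.1
  have hT2 : IsPGroup 2 ↥T := c.hT.1.1
  have hT1 : T ≠ ⊥ := c.hT.1.2.1
  obtain ⟨L0, hL0, hKL0, huniq, -, hsyl⟩ := Cfsg.Agent.S2950.result zn.hL zn.hN zn.hZ c.hO S M c.hM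
    c.hMJ T c.hT K c.hK
  obtain rfl : L = L0 := huniq L c.hLmax c.hKL
  have hsyl' : IsSyl 2 T L := isSylowTwoIn_iff.mp hsyl
  have hLM : ¬ L ≤ M := fun h => c.hK.2.1 ((le_sup_left.trans c.hKL).trans h)
  have jo : L ∈ jOvergroups T :=
    (Cfsg.Agent.S2948.result zn.hL zn.hN zn.hZ c.hO S M c.hM c.hMJ T c.hT L c.hLmax.1 hLM T hsyl
      (JJ_le T)).2.2.1
  have a1 : ∀ N : Subgroup G, IsTwoLocal N → K ⊔ JJ T ≤ N → N ≤ L := by
    intro N hN hle
    obtain ⟨L', hL', hNL'⟩ := Cfsg.Agent.Lib.Helper64.JC.exists_maximalTwoLocal hN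
    rw [← huniq L' hL' (hle.trans hNL')]
    exact hNL'
  have hSyl : IsSyl 2 (S : Subgroup G) ⊤ := isSyl_top_of_sylow S
  refine
    { jc := jc, hT2 := hT2, hT1 := hT1, a1 := a1, uniq := huniq, syl := hsyl, jo := jo,
      a3 := ?_, a4 := ?_, a4' := omegaCenterOf_le_omegaCenterOf_JJ T,
      a5 := fun K' hK' => card_omega_JJ zn hT2 hT1 hK',
      a5' := fun K' hK' => (Cfsg.Agent.S2946.result zn.hL zn.hN zn.hZ T hT2 hT1 K' hK'
        (omegaCenterOf (JJ T)) rfl).1,
      a6 := ?_, a7 := ?_, a8 := ?_,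
      a9 := fun R hR hTR hRL => hsyl'.eq_of_le hRL hR hTR }
  · -- a3
    intro y hy hyK hy1
    have hy2 : y ^ 2 = 1 := (omegaCenterOf_PE _).2 y hy
    have hord : orderOf y = 2 := orderOf_eq_prime hy2 hy1
    have hloc : IsTwoLocal (normalizer (zpowers y : Set G)) := by
      refine ⟨zpowers y, IsPGroup.of_card (n := 1) (by rw [Nat.card_zpowers, hord, pow_one]), ?_, rfl⟩
      rw [Ne, zpowers_eq_bot]
      exact hy1
    have hle : K ⊔ JJ T ≤ centralizer {y} := by
      refine sup_le ?_ ?_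
      · intro k hk
        rw [mem_centralizer_singleton_iff]
        exact ((mem_centralizer_iff.mp hyK) k hk)
      · intro j hj
        rw [mem_centralizer_singleton_iff]
        exact ((mem_centralizer_iff.mp (omegaCenterOf_le_centralizer _ hy)) j hj)
    exact (centralizer_singleton_le_normalizer_zpowers y).trans
      (a1 _ hloc (hle.trans (centralizer_singleton_le_normalizer_zpowers y)))
  · -- a4
    intro z hz
    obtain ⟨h1, h2, h3⟩ := mem_omegaCenterOf_iff.mp hz
    have hQT : pCoreOf 2 L ≤ T := pCoreOf_le_isSyl hsyl'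
    have hzQ : z ∈ pCoreOf 2 L :=
      jo.2.2 (centralizer_le (SetLike.coe_subset_coe.mpr (hQT.trans c.hTS)) h2)
    exact mem_omegaCenterOf (hQT hzQ) (centralizer_le (SetLike.coe_subset_coe.mpr c.hTS) h2) h3
  · -- a6
    intro K' hK' hle
    have h1 : K' ≤ normalizer ((S : Subgroup G) : Set G) := (le_centralizer_iff.mp hle).trans (zn.hZ S)
    have h2 : ⁅K', JJ T⁆ ≤ (S : Subgroup G) := by
      rw [commutator_le]
      intro k hk j hj
      have hjS : j ∈ (S : Subgroup G) := c.hTS (JJ_le T hj)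
      have := (mem_normalizer_iff.mp (h1 hk) j).mp hjS
      rw [commutatorElement_def]
      exact mul_mem this (inv_mem hjS)
    have h3 : K' ≤ (S : Subgroup G) := by
      have h4 : ⁅K', JJ T⁆ = K' := hK'.2.1
      rwa [h4] at h2
    exact Cfsg.Agent.Lib.Helper53.JC.jc_not_isPGroup hK' (S.2.to_le h3)
  · -- a7
    have hloc : IsTwoLocal (normalizer (pCoreOf 2 L : Set G)) :=
      ⟨pCoreOf 2 L, pCoreOf_isPGroup 2 L,
        Cfsg.Agent.Lib.Helper56.JC.twoLocal_pCoreOf_ne_bot c.hLmax.1, rfl⟩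
    have h1 := c.hLmax.2 _ hloc (le_normalizer_pCoreOf 2 L)
    calc normalizer (L : Set G) ≤ normalizer (pCoreOf 2 L : Set G) :=
          normalizer_le_normalizer_pCoreOf 2 L
      _ = L := h1
  · -- a8
    intro n hn
    have hSC : (S : Subgroup G) ≤ centralizer (omegaCenterOf (S : Subgroup G) : Set G) :=
      le_centralizer_iff.mp (omegaCenterOf_le_centralizer _)
    have aux : ∀ n ∈ normalizer (omegaCenterOf (S : Subgroup G) : Set G),
        cjj n (S : Subgroup G) ≤ (S : Subgroup G) := by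
      intro n hn
      have h1 : cjj n (S : Subgroup G) ≤ centralizer (omegaCenterOf (S : Subgroup G) : Set G) := by
        have h2 := cj_mono n hSC
        rw [← centralizer_cj, cj_eq_self_iff.mpr hn] at h2
        exact h2
      exact hSyl.le_of_le_normalizer le_top (isPGroup_cj S.2 n) (h1.trans (zn.hZ S))
    exact cj_eq_self_iff.mp (cj_eq_of_le (aux n hn))

end Cfsg.Agent.Lib.Helper56.JC2
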