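import Cfsg.Agent.Lib.Helper53.JC2Defs
import Cfsg.Agent.Lib.Helper53.JCW
import Cfsg.Agent.Lib.Helper53.FrakMEx
import Cfsg.Agent.Lib.Helper53.Large
import Cfsg.Agent.Lib.Helper56.JC44
import Cfsg.Agent.S2947
import Cfsg.Agent.S1225

set_option autoImplicit false

/-! K-S ch. 12, part 2 (ladder JC2 of helper53), rung B1. -/

namespace Cfsg.Agent.Lib.Helper56.JC2

open Cfsg Subgroup
open Cfsg.Agent.Lib.Helper53 Cfsg.Agent.Lib.Helper53.JC Cfsg.Agent.Lib.Helper53.JC2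
open Cfsg.Agent.Lib.Helper15.ZJ (AE PE)

variable {G : Type*} [Group G] [Finite G]

theorem omegaCenterOf_ne_bot {Q : Subgroup G} (hQ : IsPGroup 2 ↥Q) (h1 : Q ≠ ⊥) :
    omegaCenterOf Q ≠ ⊥ :=
  omegaOne_ne_bot (hQ.to_le inf_le_left) (inf_centralizer_ne_bot hQ hQ h1 le_normalizer)

theorem b1 (zn : ZN G) (hO : pCore 2 G = ⊥) {S : Sylow 2 G} {L : Subgroup G} (hb : Bad S L) :
    (straddlingTwoSubgroups L).Nonempty := by
  obtain ⟨hL, hjo, hall⟩ := hb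
  by_contra hemp
  rw [Set.not_nonempty_iff_eq_empty] at hemp
  have hJ1 : JJ (S : Subgroup G) ≠ ⊥ := by
    intro h
    apply hjo.2.1
    have h' : thompsonSubgroupOf 2 (S : Subgroup G) = ⊥ := h
    rw [h']; exact bot_le
  have hJloc : IsTwoLocal (normalizer (JJ (S : Subgroup G) : Set G)) :=
    ⟨JJ (S : Subgroup G), S.2.to_le (JJ_le _), hJ1, rfl⟩
  have hNJ : normalizer (JJ (S : Subgroup G) : Set G) ≤ L :=
    hall _ hJloc (le_normalizer.trans (normalizer_le_normalizer_JJ _))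
  have hse : IsStronglyEmbedded L :=
    (Cfsg.Agent.S2947.result zn.hL zn.hN zn.hZ hO S L hL hNJ).mpr hemp
  obtain ⟨htop, heven, hodd⟩ := hse
  -- an involution of `L`
  have h2 : 2 ∣ Nat.card L := even_iff_two_dvd.mp heven
  obtain ⟨t, ht⟩ := exists_prime_orderOf_dvd_card' (G := L) 2 h2
  have htL : (t : G) ∈ L := t.2
  have hto : orderOf (t : G) = 2 := by rw [Subgroup.orderOf_coe, ht]
  -- an involution outside `L`
  obtain ⟨u, hu, huL⟩ : ∃ u : G, orderOf u = 2 ∧ u ∉ L := by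
    by_contra hcon
    push Not at hcon
    obtain ⟨g, -, hg⟩ := SetLike.exists_of_lt (lt_top_iff_ne_top.mpr htop)
    have h3 : g⁻¹ * t * g ∈ L := by
      apply hcon
      have hsc : SemiconjBy g⁻¹ (t : G) (g⁻¹ * (t : G) * g) := by
        unfold SemiconjBy; group
      rw [← hsc.orderOf_eq, hto]
    have h4 : (t : G) ∈ L ⊓ L.map (MulAut.conj g).toMonoidHom := ⟨htL, mem_cj.mpr h3⟩
    have h5 : 2 ∣ Nat.card ↥(L ⊓ L.map (MulAut.conj g).toMonoidHom) := by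
      have := orderOf_dvd_natCard (⟨(t : G), h4⟩ : ↥(L ⊓ L.map (MulAut.conj g).toMonoidHom))
      rwa [Subgroup.orderOf_mk, hto] at this
    exact (Nat.not_even_iff_odd.mpr (hodd g hg)) (even_iff_two_dvd.mpr h5)
  -- `V`
  have hQ1 : pCoreOf 2 L ≠ ⊥ := Cfsg.Agent.Lib.Helper56.JC.twoLocal_pCoreOf_ne_bot hL
  have hV1 : omegaCenterOf (pCoreOf 2 L) ≠ ⊥ := omegaCenterOf_ne_bot (pCoreOf_isPGroup 2 L) hQ1
  obtain ⟨v, hv, hv1⟩ : ∃ v : G, v ∈ omegaCenterOf (pCoreOf 2 L) ∧ v ≠ 1 := by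
    obtain ⟨v, hv⟩ := (Subgroup.ne_bot_iff_exists_ne_one).mp hV1
    exact ⟨(v : G), v.2, fun h => hv (Subtype.ext h)⟩
  have hvo : orderOf v = 2 := orderOf_eq_prime ((omegaCenterOf_PE _).2 v hv) hv1
  have hVL : omegaCenterOf (pCoreOf 2 L) ≤ L := (omegaCenterOf_le _).trans (pCoreOf_le 2 L)
  have hinv : ∀ s ∈ L, orderOf s = 2 → s ∈ omegaCenterOf (pCoreOf 2 L) := by
    intro s hs hso
    obtain ⟨⟨d, hd, hds⟩, -⟩ := Cfsg.Agent.S1225.result L ⟨htop, heven, hodd⟩ u hu huL v s hvo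
      (hVL hv) hso hs
    rw [← hds]
    exact (mem_normalizer_iff.mp (le_normalizer_omega_pCoreOf L hd.1) v).mp hv
  apply hjo.2.1
  have : JJ (S : Subgroup G) ≤ pCoreOf 2 L := by
    rw [JJ_le_iff]
    intro A hA a ha
    apply omegaCenterOf_le
    by_cases ha1 : a = 1
    · rw [ha1]; exact one_mem _
    · exact hinv a (hjo.1.1 (hA.1 ha)) (orderOf_eq_prime (hA.2.1.2 a ha) ha1)
  exact this

end Cfsg.Agent.Lib.Helper56.JC2
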