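import Cfsg.Agent.Lib.Helper53.JCBasic

set_option autoImplicit false

/-! K-S ch. 12 ladder (helper53): S2943 from St3. -/

namespace Cfsg.Agent.Lib.Helper56.JC

open Cfsg Subgroup
open Cfsg.Agent.Lib.Helper53 Cfsg.Agent.Lib.Helper53.JC

variable {G : Type*} [Group G]

theorem S2943_of (h3 : St3 G) (T : Subgroup G) (hT : IsPGroup 2 ↥T)
    (L : Subgroup G) (hLT : L ∈ Cfsg.jOvergroups T)
    (K : Subgroup G) (hK : Cfsg.IsJComponent T K) (hKL : K ≤ L)
    (hZW : T ⊓ Subgroup.centralizer (T : Set G) ⊓ Cfsg.wOf K ≠ ⊥) :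
    T ≤ Subgroup.normalizer (K : Set G) := by
  intro t ht
  rw [← cj_eq_self_iff]
  by_contra hne
  have htL : t ∈ L := hLT.1.1 ht
  have h1 : IsJComponent T (cjj t K) :=
    isJComponent_cj_of_mem_normalizer
      (normalizer_le_normalizer_JJ T (le_normalizer ht)) hK
  have h2 : cjj t K ≤ L := cj_le_of_le_of_mem hKL htL
  have h4 := h3 T L (cjj t K) K hT hLT h1 h2 hK hKL hne
  apply hZW
  rw [eq_bot_iff]
  rintro z ⟨⟨hzT, hzC⟩, hzW⟩
  rw [← h4]
  refine ⟨?_, hzW⟩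
  rw [← wOf_cj]
  have h5 : t * z * t⁻¹ = z := by
    have := mem_centralizer_iff.1 hzC t ht
    rw [this, mul_assoc, mul_inv_cancel, mul_one]
  have := cj_mem (Q := wOf K) t hzW
  rwa [h5] at this

end Cfsg.Agent.Lib.Helper56.JC
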