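import Cfsg.Agent.Lib.Helper56.JC48

set_option autoImplicit false

/-! K-S ch. 12 ladder (helper53): S2949 from St5, St6, Core1. -/

namespace Cfsg.Agent.Lib.Helper56.JC

open Cfsg Subgroup
open Cfsg.Agent.Lib.Helper53 Cfsg.Agent.Lib.Helper53.JC
open Cfsg.Agent.Lib.Helper15.ZJ (AE PE)

variable {G : Type*} [Group G]

theorem S2949_of [Finite G] (h : ZN G) (h5 : St5 G) (hc : Core1 G) (S : Sylow 2 G)
    (M : Subgroup G)
    (hMJ : Subgroup.normalizer (Cfsg.thompsonSubgroupOf 2 (S : Subgroup G) : Set G) ≤ M)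
    (T : Subgroup G) (hT : T ∈ Cfsg.maxStraddlingTwoSubgroups M) :
    (Cfsg.jComponentsOutside M T).Nonempty := by
  obtain ⟨hTp, hT1, hTM, L, hL2, hTL, hLM⟩ := hT.1
  have hF := normalizer_JJ_le S hMJ hT
  obtain ⟨P, hP, hTP⟩ := exists_isSyl_ge hTL hTp
  obtain ⟨a', b', c'⟩ := S2948_core h.hL S M hMJ T hT L hL2 hLM P hP ((JJ_le T).trans hTP)
  have h7 : T = P := Subgroup.eq_of_le_of_card_ge hTP (beats hT b' ((JJ_le T).trans hTP)).2
  rw [← h7] at c' hP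
  have hex : ∃ K : Subgroup G, IsJComponent T K ∧ K ≤ L ∧ ¬ K ≤ M := by
    by_contra hcon
    push Not at hcon
    apply hLM
    refine h5 T L M hTp c' hcon (inf_le_right.trans hF) ?_
    exact ((hc T L hTp c').2.2.1.trans (normalizer_le_normalizer_JJ T)).trans hF
  obtain ⟨K, hK, hKL, hKM⟩ := hex
  refine ⟨K, ⟨hK, ?_⟩, hKM, ?_⟩
  · intro S1 hJS1 hS1
    have hKN : K ≤ normalizer (wOf K : Set G) :=
      le_normalizer.trans (normalizer_le_normalizer_wOf K)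
    exact (S2948_core h.hL S M hMJ T hT _ (jc_twoLocal_W hK) (fun hh => hKM (hKN.trans hh)) S1
      (isSylowTwoIn_iff.1 hS1) hJS1).1
  · intro h0
    have h8 : pCoreOf 2 L ≤ pCoreOf 2 (K ⊔ T) :=
      le_pCoreOf ((pCoreOf_le_isSyl hP).trans le_sup_right)
        ((sup_le hKL hTL).trans (le_normalizer_pCoreOf 2 L)) (pCoreOf_isPGroup 2 L)
    rw [h0, le_bot_iff] at h8
    exact twoLocal_pCoreOf_ne_bot hL2 h8

end Cfsg.Agent.Lib.Helper56.JC
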