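import Cfsg.Agent.Lib.Helper53.SA2Defs
import Cfsg.Agent.Lib.Helper53.JCW
import Cfsg.Agent.Lib.Helper56.SAGeoB

/-!
# Ladder BA, rung BGEO : the bipartite coset geometry
-/

set_option autoImplicit false

namespace Cfsg.Agent.Lib.Helper56.BA

open Cfsg Subgroup
open Cfsg.Agent.Lib.Helper53 Cfsg.Agent.Lib.Helper53.SA Cfsg.Agent.Lib.Helper53.SA2
open Cfsg.Agent.Lib.Helper56.SA
open Cfsg.Agent.Lib.Helper53.JC (cjj QQ)

variable {G : Type*} [Group G]

theorem cjj_le_cjj_iff' {A B : Subgroup G} (u : G) : cjj u A ≤ cjj u B ↔ A ≤ B :=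
  Subgroup.map_le_map_iff_of_injective (MulAut.conj u).injective

theorem cjj_inj' {A B : Subgroup G} (u : G) : cjj u A = cjj u B ↔ A = B :=
  (Subgroup.map_injective (MulAut.conj u).injective).eq_iff

theorem cjj_mul_right {X : Subgroup G} {p : G} (hp : p ∈ normalizer (X : Set G)) (g : G) :
    cjj (g * p) X = cjj g X := by
  rw [cjj_mul, cjj_eq_self_iff'.mpr hp]

/-- the data used for the bipartite geometry. -/
structure BD (P : Bool → Subgroup G) (T : Subgroup G) : Prop where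
  L : ∀ i, Loc1 (P i) T
  PP : ∀ i j, i ≠ j → P i ⊓ P j = T
  core : ∀ i j, i ≠ j → ∀ N : Subgroup G, N ≤ T → P i ≤ normalizer (N : Set G) →
    P j ≤ normalizer (N : Set G) → N = ⊥
  noN : ∀ i j, i ≠ j → ¬ P i ≤ normalizer ((ZP (P i) T ⊔ ZP (P j) T : Subgroup G) : Set G)

/-- adjacency. -/
def Ad (P : Bool → Subgroup G) (v w : BV G) : Prop :=
  v.i ≠ w.i ∧ ∃ p ∈ P v.i, ∃ p' ∈ P w.i, w.g = v.g * p * p'

theorem edge_form {P : Bool → Subgroup G} {T : Subgroup G} (D : BD P T) {v w : BV G}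
    (hA : Ad P v w) :
    ∃ u : G, (∃ p ∈ P v.i, u = v.g * p) ∧
      (∀ X : Subgroup G, P v.i ≤ normalizer (X : Set G) → cjj v.g X = cjj u X) ∧
      (∀ X : Subgroup G, P w.i ≤ normalizer (X : Set G) → cjj w.g X = cjj u X) ∧
      cjj v.g (P v.i) ⊓ cjj w.g (P w.i) = cjj u T := by
  obtain ⟨hne, p, hp, p', hp', e⟩ := hA
  have h1 : ∀ X : Subgroup G, P v.i ≤ normalizer (X : Set G) → cjj v.g X = cjj (v.g * p) X :=
    fun X hX => (cjj_mul_right (hX hp) v.g).symm
  have h2 : ∀ X : Subgroup G, P w.i ≤ normalizer (X : Set G) → cjj w.g X = cjj (v.g * p) X :=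
    fun X hX => by rw [e]; exact cjj_mul_right (hX hp') _
  refine ⟨v.g * p, ⟨p, hp, rfl⟩, h1, h2, ?_⟩
  rw [h1 _ le_normalizer, h2 _ le_normalizer, ← cjj_inf', D.PP _ _ hne]

/-- vertices reachable from `(1, false)`. -/
def Rch (P : Bool → Subgroup G) (d : BV G) : Prop :=
  ∃ (n : ℕ) (δ : ℕ → BV G), (∀ i < n, Ad P (δ i) (δ (i + 1))) ∧ δ 0 = ⟨1, false⟩ ∧ δ n = d

theorem Rch.step {P : Bool → Subgroup G} {d e : BV G} (hd : Rch P d) (he : Ad P d e) :
    Rch P e := by
  obtain ⟨n, δ, hw, h0, hn⟩ := hd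
  refine ⟨n + 1, fun i => if i ≤ n then δ i else e, ?_, ?_, ?_⟩
  · intro i hi
    by_cases h : i + 1 ≤ n
    · have h' : i ≤ n := by omega
      simp only [h, h', if_true]
      exact hw i (by omega)
    · have h' : i = n := by omega
      subst h'
      simp only [le_refl, if_true, h, if_false]
      rw [hn]; exact he
  · simp [h0]
  · simp

theorem bgeo_exc [Finite G] {P : Bool → Subgroup G} {T : Subgroup G} (D : BD P T) :
    ∃ (n : ℕ) (δ : ℕ → BV G), (∀ i < n, Ad P (δ i) (δ (i + 1))) ∧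
      ¬ cjj (δ 0).g (ZP (P (δ 0).i) T) ≤ cjj (δ n).g (QQ (P (δ n).i)) := by
  by_contra hcon
  push Not at hcon
  have hQn : ∀ i, P i ≤ normalizer (QQ (P i) : Set G) := fun i => le_normalizer_pCoreOf 2 (P i)
  have hR : ∀ d, Rch P d → ZP (P false) T ≤ cjj d.g (QQ (P d.i)) := by
    rintro d ⟨n, δ, hw, h0, rfl⟩
    have := hcon n δ hw
    rwa [h0, cjj_one'] at this
  have hstep : ∀ (y z : G) (j : Bool), z ∈ P j →
      (∀ i : Bool, ∃ d, Rch P d ∧ d.i = i ∧ ∃ p ∈ P i, y = d.g * p) →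
      ∀ i : Bool, ∃ d, Rch P d ∧ d.i = i ∧ ∃ p ∈ P i, y * z = d.g * p := by
    intro y z j hz ih i
    obtain ⟨d, hd, hdi, p, hp, rfl⟩ := ih j
    by_cases hij : i = j
    · subst hij
      exact ⟨d, hd, hdi, p * z, mul_mem hp hz, by group⟩
    · refine ⟨⟨d.g * p * z, i⟩, hd.step ⟨?_, p * z, ?_, 1, one_mem _, ?_⟩, rfl, 1, one_mem _,
        by simp⟩
      · rw [hdi]; exact fun h => hij h.symm
      · rw [hdi]; exact mul_mem hp hz
      · show d.g * p * z = d.g * (p * z) * 1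
        group
  have hH : ∀ y ∈ closure ((P false : Set G) ∪ P true),
      ∀ i : Bool, ∃ d, Rch P d ∧ d.i = i ∧ ∃ p ∈ P i, y = d.g * p := by
    intro y hy
    induction hy using closure_induction_right with
    | one =>
      have h0 : Rch P (⟨1, false⟩ : BV G) := ⟨0, fun _ => ⟨1, false⟩, by simp, rfl, rfl⟩
      intro i
      cases i
      · exact ⟨⟨1, false⟩, h0, rfl, 1, one_mem _, by simp⟩
      · refine ⟨⟨1, true⟩, h0.step ⟨by simp, 1, one_mem _, 1, one_mem _, by simp⟩, rfl, 1,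
          one_mem _, by simp⟩
    | mul_right y _ z hz ih =>
      rcases hz with hz | hz
      · exact hstep y z false hz ih
      · exact hstep y z true hz ih
    | mul_inv_cancel y _ z hz ih =>
      rcases hz with hz | hz
      · exact hstep y z⁻¹ false (inv_mem hz) ih
      · exact hstep y z⁻¹ true (inv_mem hz) ih
  have hZH : ∀ y ∈ closure ((P false : Set G) ∪ P true), ∀ i : Bool,
      ZP (P false) T ≤ cjj y (QQ (P i)) := by
    intro y hy i
    obtain ⟨d, hd, hdi, p, hp, rfl⟩ := hH y hy i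
    rw [cjj_mul_right (hQn i hp)]
    have := hR d hd
    rwa [hdi] at this
  obtain ⟨N, hN⟩ : ∃ N : Subgroup G,
      N = ⨅ y : closure ((P false : Set G) ∪ P true),
        cjj (y : G) (QQ (P false)) ⊓ cjj (y : G) (QQ (P true)) := ⟨_, rfl⟩
  have hZN : ZP (P false) T ≤ N := by
    rw [hN]
    exact le_iInf fun y => le_inf (hZH y y.2 false) (hZH y y.2 true)
  have hinv : ∀ a ∈ closure ((P false : Set G) ∪ P true), a ∈ normalizer (N : Set G) := by
    intro a ha
    rw [← cjj_eq_self_iff']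
    apply cj_eq_of_le
    rw [hN]
    refine le_iInf fun y => ?_
    have h1 : (⨅ y : closure ((P false : Set G) ∪ P true),
        cjj (y : G) (QQ (P false)) ⊓ cjj (y : G) (QQ (P true))) ≤
        cjj (a⁻¹ * y) (QQ (P false)) ⊓ cjj (a⁻¹ * y) (QQ (P true)) :=
      iInf_le (fun y : closure ((P false : Set G) ∪ P true) =>
        cjj (y : G) (QQ (P false)) ⊓ cjj (y : G) (QQ (P true)))
        ⟨a⁻¹ * y, mul_mem (inv_mem ha) y.2⟩
    have h2 := cj_mono a h1
    have h3 : cjj a (cjj (a⁻¹ * y) (QQ (P false)) ⊓ cjj (a⁻¹ * y) (QQ (P true))) =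
        cjj (y : G) (QQ (P false)) ⊓ cjj (y : G) (QQ (P true)) := by
      rw [cjj_inf', ← cjj_mul, ← cjj_mul, mul_inv_cancel_left]
    exact h2.trans h3.le
  have hNbot : N = ⊥ := by
    apply D.core false true (by simp) N
    · have h1 : N ≤ cjj 1 (QQ (P false)) ⊓ cjj 1 (QQ (P true)) := by
        rw [hN]
        exact iInf_le (fun y : closure ((P false : Set G) ∪ P true) =>
          cjj (y : G) (QQ (P false)) ⊓ cjj (y : G) (QQ (P true))) ⟨1, one_mem _⟩
      rw [cjj_one'] at h1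
      exact (h1.trans inf_le_left).trans (D.L false).QT
    · intro a ha
      exact hinv a (subset_closure (Or.inl ha))
    · intro a ha
      exact hinv a (subset_closure (Or.inr ha))
  exact (D.L false).Zne (le_bot_iff.mp (hNbot ▸ hZN))

theorem bgeo_noZ {P : Bool → Subgroup G} {T : Subgroup G} (D : BD P T) :
    ∀ v w, Ad P v w → ∀ c, c ∈ cjj v.g (P v.i) → c ∈ cjj w.g (P w.i) →
      cjj v.g (P v.i) ≤ centralizer {c} → cjj w.g (P w.i) ≤ centralizer {c} → c = 1 := by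
  intro v w hA c hc1 hc2 hc3 hc4
  obtain ⟨u, -, e1, e2, e3⟩ := edge_form D hA
  have hcT : c ∈ cjj u T := e3 ▸ mem_inf.mpr ⟨hc1, hc2⟩
  rw [e1 _ le_normalizer] at hc3
  rw [e2 _ le_normalizer] at hc4
  obtain ⟨N, hN⟩ : ∃ N : Subgroup G,
      N = T ⊓ centralizer (P v.i : Set G) ⊓ centralizer (P w.i : Set G) := ⟨_, rfl⟩
  have key : ∀ (R : Subgroup G), N ≤ centralizer (R : Set G) → R ≤ normalizer (N : Set G) := by
    intro R hR a ha
    have key : ∀ n ∈ N, ∀ a ∈ R, a * n * a⁻¹ = n := by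
      intro n hn a ha
      have := (mem_centralizer_iff.mp (hR hn)) a ha
      rw [this]; group
    rw [mem_normalizer_iff]
    intro n
    constructor
    · intro hn
      rw [key n hn a ha]; exact hn
    · intro hn
      have := key _ hn a⁻¹ (inv_mem ha)
      have e : a⁻¹ * (a * n * a⁻¹) * a⁻¹⁻¹ = n := by group
      rw [e] at this
      rw [this]; exact hn
  have hNbot : N = ⊥ := by
    apply D.core v.i w.i hA.1 N
    · rw [hN]; exact inf_le_left.trans inf_le_left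
    · apply key; rw [hN]; exact inf_le_left.trans inf_le_right
    · apply key; rw [hN]; exact inf_le_right
  have hmem : c ∈ cjj u N := by
    rw [hN, cjj_inf', cjj_inf', cjj_centralizer, cjj_centralizer]
    refine mem_inf.mpr ⟨mem_inf.mpr ⟨hcT, ?_⟩, ?_⟩
    · rw [mem_centralizer_iff]
      intro y hy
      exact (mem_centralizer_singleton_iff.mp (hc3 hy))
    · rw [mem_centralizer_iff]
      intro y hy
      exact (mem_centralizer_singleton_iff.mp (hc4 hy))
  rw [hNbot] at hmem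
  simpa using hmem

theorem bgeo_of [Finite G] {P : Bool → Subgroup G} {T : Subgroup G} (D : BD P T) :
    Geo (fun v : BV G => cjj v.g (P v.i)) (fun v => cjj v.g (QQ (P v.i)))
      (fun v => cjj v.g (ZP (P v.i) T)) (Ad P) := by
  have hPQ : ∀ i, P i ≤ normalizer (QQ (P i) : Set G) := fun i => le_normalizer_pCoreOf 2 (P i)
  refine
    { symm := ?_
      QP := fun v => cj_mono v.g (pCoreOf_le 2 (P v.i))
      ZQ := fun v => cj_mono v.g (D.L v.i).ZQ
      Qn := ?_
      Zn := ?_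
      QZ := ?_
      Zexp := ?_
      CZ := ?_
      QT := ?_
      ind2 := ?_
      max := ?_
      act := ?_
      Pmul := fun a v => cjj_mul (P v.i) a v.g
      Qmul := fun a v => cjj_mul (QQ (P v.i)) a v.g
      Zmul := fun a v => cjj_mul (ZP (P v.i) T) a v.g
      same := ?_
      inter := ?_
      move := ?_
      exm := ?_
      noZ := bgeo_noZ D
      noN := ?_
      exc := bgeo_exc D }
  · -- symm
    rintro v w ⟨hne, p, hp, p', hp', e⟩
    refine ⟨hne.symm, p'⁻¹, inv_mem hp', p⁻¹, inv_mem hp, ?_⟩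
    rw [e]; group
  · intro v
    show cjj v.g (P v.i) ≤ normalizer (cjj v.g (QQ (P v.i)) : Set G)
    rw [← cjj_normalizer]
    exact cj_mono v.g (hPQ v.i)
  · intro v
    show cjj v.g (P v.i) ≤ normalizer (cjj v.g (ZP (P v.i) T) : Set G)
    rw [← cjj_normalizer]
    exact cj_mono v.g (D.L v.i).Zn
  · intro v
    show cjj v.g (QQ (P v.i)) ≤ centralizer (cjj v.g (ZP (P v.i) T) : Set G)
    rw [← cjj_centralizer]
    exact cj_mono v.g (D.L v.i).QZ
  · rintro v _ ⟨z, hz, rfl⟩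
    have := (D.L v.i).Zexp z hz
    simp only [MulEquiv.coe_toMonoidHom, ← map_mul, this, map_one]
  · intro v
    show cjj v.g (P v.i) ⊓ centralizer (cjj v.g (ZP (P v.i) T) : Set G) ≤ cjj v.g (QQ (P v.i))
    rw [← cjj_centralizer, ← cjj_inf']
    exact cj_mono v.g (D.L v.i).CZ
  · -- QT
    intro v w hA
    obtain ⟨u, -, e1, e2, e3⟩ := edge_form D hA
    show cjj v.g (QQ (P v.i)) ≤ cjj w.g (P w.i)
    rw [e1 _ (hPQ v.i), e2 _ le_normalizer, cjj_le_cjj_iff']
    exact (D.L v.i).QT.trans (D.L w.i).TP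
  · -- ind2
    intro v w hA a b ha hb haQ hbQ
    obtain ⟨u, -, e1, e2, e3⟩ := edge_form D hA
    change a ∈ cjj v.g (P v.i) ⊓ cjj w.g (P w.i) at ha
    change b ∈ cjj v.g (P v.i) ⊓ cjj w.g (P w.i) at hb
    change a ∉ cjj v.g (QQ (P v.i)) at haQ
    change b ∉ cjj v.g (QQ (P v.i)) at hbQ
    show a * b ∈ cjj v.g (QQ (P v.i))
    rw [e3, mem_cj] at ha hb
    rw [e1 _ (hPQ v.i), mem_cj] at haQ hbQ ⊢
    have := (D.L v.i).ind2 _ _ ha hb haQ hbQ
    have e : u⁻¹ * (a * b) * u = u⁻¹ * a * u * (u⁻¹ * b * u) := by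
      group
    rw [e]
    exact this
  · -- max
    intro v w hA a ha hak H hH haH
    obtain ⟨u, -, e1, e2, e3⟩ := edge_form D hA
    change a ∈ cjj v.g (P v.i) at ha
    change a ∉ cjj w.g (P w.i) at hak
    change cjj v.g (P v.i) ⊓ cjj w.g (P w.i) ≤ H at hH
    show cjj v.g (P v.i) ≤ H
    have hak' : u⁻¹ * a * u ∉ T := by
      intro hc
      apply hak
      have : a ∈ cjj u T := mem_cj.2 hc
      rw [← e3] at this
      exact this.2
    rw [e3, cj_le_iff] at hH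
    rw [e1 _ le_normalizer, cj_le_iff]
    rw [e1 _ le_normalizer, mem_cj] at ha
    apply (D.L v.i).max _ ha hak' _ hH
    rw [mem_cj]
    have e : u⁻¹⁻¹ * (u⁻¹ * a * u) * u⁻¹ = a := by group
    rw [e]
    exact haH
  · -- act
    rintro v w ⟨hne, p, hp, p', hp', e⟩ a ha
    change a ∈ cjj v.g (P v.i) at ha
    rw [mem_cj] at ha
    refine ⟨hne, v.g⁻¹ * a * v.g * p, mul_mem ha hp, p', hp', ?_⟩
    show a * w.g = _
    rw [e]; group
  · -- same
    intro v w k hA hB heq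
    change cjj v.g (P v.i) ⊓ cjj w.g (P w.i) = cjj v.g (P v.i) ⊓ cjj k.g (P k.i) at heq
    show cjj w.g (QQ (P w.i)) = cjj k.g (QQ (P k.i))
    have hwk : w.i = k.i := by
      have h1 := hA.1
      have h2 := hB.1
      revert h1 h2
      cases v.i <;> cases w.i <;> cases k.i <;> simp
    obtain ⟨u, ⟨p, hp, hu⟩, e1, e2, e3⟩ := edge_form D hA
    obtain ⟨u', ⟨q, hq, hu'⟩, e1', e2', e3'⟩ := edge_form D hB
    rw [e3, e3'] at heq
    have h2 : cjj (q⁻¹ * p) T = T := by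
      have : u = u' * (q⁻¹ * p) := by rw [hu, hu']; group
      rw [this, cjj_mul T u', cjj_inj'] at heq
      exact heq
    have h3 : q⁻¹ * p ∈ T := (D.L v.i).selfn _ (mul_mem (inv_mem hq) hp) h2
    rw [e2 _ (hPQ w.i), e2' _ (hPQ k.i), ← hwk]
    have e : u = u' * (q⁻¹ * p) := by rw [hu, hu']; group
    rw [e]
    exact cjj_mul_right (hPQ w.i ((D.L w.i).TP h3)) u'
  · -- inter
    intro v w k hA hB hne
    change cjj v.g (P v.i) ⊓ cjj w.g (P w.i) ≠ cjj v.g (P v.i) ⊓ cjj k.g (P k.i) at hne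
    show cjj v.g (P v.i) ⊓ cjj w.g (P w.i) ⊓ cjj k.g (P k.i) ≤ cjj v.g (QQ (P v.i))
    obtain ⟨u, ⟨p, hp, hu⟩, e1, e2, e3⟩ := edge_form D hA
    obtain ⟨u', ⟨q, hq, hu'⟩, e1', e2', e3'⟩ := edge_form D hB
    have hle : cjj v.g (P v.i) ⊓ cjj w.g (P w.i) ⊓ cjj k.g (P k.i) ≤ cjj u T ⊓ cjj u' T := by
      rw [← e3, ← e3']
      exact le_inf inf_le_left (le_inf (inf_le_left.trans inf_le_left) inf_le_right)
    rw [e3, e3'] at hne
    refine hle.trans ?_
    have e : u' = u * (p⁻¹ * q) := by rw [hu, hu']; group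
    rw [e, cjj_mul T u, ← cjj_inf', e1 _ (hPQ v.i), cjj_le_cjj_iff']
    apply (D.L v.i).inter _ (mul_mem (inv_mem hp) hq)
    intro hc
    apply hne
    rw [e]
    exact (cjj_mul_right (le_normalizer hc) u).symm
  · -- move
    intro v w hA a ha hak heq
    obtain ⟨u, -, e1, e2, e3⟩ := edge_form D hA
    change a ∈ cjj v.g (P v.i) at ha
    change a ∉ cjj w.g (P w.i) at hak
    change cjj v.g (P v.i) ⊓ cjj (a * w.g) (P w.i) = cjj v.g (P v.i) ⊓ cjj w.g (P w.i) at heq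
    have h1 : cjj v.g (P v.i) ⊓ cjj (a * w.g) (P w.i) =
        cjj a (cjj v.g (P v.i) ⊓ cjj w.g (P w.i)) := by
      rw [cjj_inf', cjj_eq_self_iff'.2 (le_normalizer ha), cjj_mul]
    rw [h1, e3, ← cjj_mul] at heq
    have e : a * u = u * (u⁻¹ * a * u) := by group
    rw [e, cjj_mul T u, cjj_inj'] at heq
    rw [e1 _ le_normalizer, mem_cj] at ha
    have h2 := (D.L v.i).selfn _ ha heq
    apply hak
    have : a ∈ cjj u T := mem_cj.2 h2
    rw [← e3] at this
    exact this.2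
  · -- exm
    intro v w hA
    obtain ⟨u, -, e1, e2, e3⟩ := edge_form D hA
    obtain ⟨a, ha, haT⟩ := (D.L v.i).exm
    refine ⟨u * a * u⁻¹, ?_, ?_⟩
    · show _ ∈ cjj v.g (P v.i)
      rw [e1 _ le_normalizer]
      exact cj_mem _ ha
    · intro hc
      change _ ∈ cjj w.g (P w.i) at hc
      apply haT
      have h1 : u * a * u⁻¹ ∈ cjj v.g (P v.i) ⊓ cjj w.g (P w.i) := by
        refine ⟨?_, hc⟩
        rw [e1 _ le_normalizer]
        exact cj_mem _ ha
      rw [e3, mem_cj] at h1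
      simpa [mul_assoc] using h1
  · -- noN
    intro v w hA hle
    obtain ⟨u, -, e1, e2, e3⟩ := edge_form D hA
    change cjj v.g (P v.i) ≤
      normalizer ((cjj v.g (ZP (P v.i) T) ⊔ cjj w.g (ZP (P w.i) T) : Subgroup G) : Set G) at hle
    rw [e1 _ le_normalizer, e1 _ (D.L v.i).Zn, e2 _ (D.L w.i).Zn, ← cjj_sup', ← cjj_normalizer,
      cjj_le_cjj_iff'] at hle
    exact D.noN v.i w.i hA.1 hle

theorem bgeo [Finite G] (hl : Loc1St G) : BGeoSt G := by
  intro P₁ P₂ T h hn₁ hn₂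
  have L₁ : Loc1 P₁ T := hl P₁ T h.syl₁ h.h6₁ h.hchar₁ h.hZ₁
  have L₂ : Loc1 P₂ T := hl P₂ T h.syl₂ h.h6₂ h.hchar₂ h.hZ₂
  have hPP : P₁ ⊓ P₂ = T := by
    apply le_antisymm _ (le_inf L₁.TP L₂.TP)
    intro a ha
    by_contra haT
    have h1 : P₁ ≤ P₁ ⊓ P₂ := L₁.max a ha.1 haT _ (le_inf L₁.TP L₂.TP) ha
    have h2 : P₂ ≤ P₁ ⊓ P₂ := L₂.max a ha.2 haT _ (le_inf L₁.TP L₂.TP) ha
    have h3 : P₁ = P₂ := le_antisymm (h1.trans inf_le_right) (h2.trans inf_le_left)
    have h4 : QQ P₁ = ⊥ := h.hcore _ L₁.QT (le_normalizer_pCoreOf 2 P₁)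
      (h3 ▸ le_normalizer_pCoreOf 2 P₁)
    exact L₁.Zne (le_bot_iff.mp (h4 ▸ L₁.ZQ))
  have D : BD (sel P₁ P₂) T := by
    refine ⟨?_, ?_, ?_, ?_⟩
    · intro i; cases i
      · exact L₁
      · exact L₂
    · intro i j hij
      cases i <;> cases j
      · exact absurd rfl hij
      · exact hPP
      · exact (inf_comm _ _).trans hPP
      · exact absurd rfl hij
    · intro i j hij N hN h1 h2
      cases i <;> cases j
      · exact absurd rfl hij
      · exact h.hcore N hN h1 h2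
      · exact h.hcore N hN h2 h1
      · exact absurd rfl hij
    · intro i j hij
      cases i <;> cases j
      · exact absurd rfl hij
      · exact hn₁
      · exact hn₂
      · exact absurd rfl hij
  exact bgeo_of D

end Cfsg.Agent.Lib.Helper56.BA
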