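import Cfsg.Agent.Lib.Helper53.JC2Asm
import Cfsg.Agent.Lib.Helper53.SA2Defs
import Cfsg.Agent.Lib.Helper53.PRed2
import Cfsg.Agent.Lib.Helper56.BALoc1
import Cfsg.Agent.Lib.Helper56.Basic

set_option autoImplicit false

/-! Ladder JC3 (helper53), rung X0. -/

namespace Cfsg.Agent.Lib.Helper56.JC3

open Cfsg Subgroup Cfsg.Agent.Lib.Helper53 Cfsg.Agent.Lib.Helper53.JC Cfsg.Agent.Lib.Helper53.JC2
open Cfsg.Agent.Lib.Helper53.SA (ZP)
open Cfsg.Agent.Lib.Helper53.SA2 (BHyp Loc1)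

variable {G : Type*} [Group G] [Finite G]

omit [Finite G] in
theorem x0_eq_one_of_odd {A : Subgroup G} (hA : IsPGroup 2 A) {x : G} (hx : x ∈ A)
    (ho : Odd (orderOf x)) : x = 1 := by
  obtain ⟨n, hn⟩ := hA ⟨x, hx⟩
  have h1 : x ^ (2 ^ n) = 1 := congrArg Subtype.val hn
  have h2 : orderOf x ∣ 2 ^ n := orderOf_dvd_of_pow_eq_one h1
  have h3 : (orderOf x).Coprime (2 ^ n) := Nat.Coprime.pow_right n (Nat.coprime_two_right.mpr ho)
  exact orderOf_eq_one_iff.mp (Nat.Coprime.eq_one_of_dvd h3 h2)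

omit [Finite G] in
/-- an element of odd order stabilizing the chain `1 ≤ D ≤ A` centralizes `A`. -/
theorem x0_stab {x : G} (ho : Odd (orderOf x)) {A D : Subgroup G} (hD2 : IsPGroup 2 D)
    (hc : ∀ d ∈ D, x * d = d * x) (h : ∀ a ∈ A, x * a * x⁻¹ * a⁻¹ ∈ D) :
    ∀ a ∈ A, x * a = a * x := by
  intro a ha
  obtain ⟨d, hd⟩ : ∃ d, d = x * a * x⁻¹ * a⁻¹ := ⟨_, rfl⟩
  have hdD : d ∈ D := hd ▸ h a ha
  have hxa : x * a * x⁻¹ = d * a := by rw [hd]; group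
  have key : ∀ n : ℕ, x ^ n * a * (x ^ n)⁻¹ = d ^ n * a := by
    intro n
    induction n with
    | zero => simp
    | succ n ih =>
      have hcn : x * d ^ n = d ^ n * x :=
        ((show Commute x d from hc d hdD).pow_right n).eq
      calc x ^ (n + 1) * a * (x ^ (n + 1))⁻¹ = x * (x ^ n * a * (x ^ n)⁻¹) * x⁻¹ := by
            rw [pow_succ']; group
        _ = x * (d ^ n * a) * x⁻¹ := by rw [ih]
        _ = (x * d ^ n) * a * x⁻¹ := by group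
        _ = d ^ n * (x * a * x⁻¹) := by rw [hcn]; group
        _ = d ^ (n + 1) * a := by rw [hxa, pow_succ]; group
  have h1 := key (orderOf x)
  rw [pow_orderOf_eq_one, one_mul, inv_one, mul_one] at h1
  have h2 : d ^ orderOf x = 1 := by
    have := congrArg (· * a⁻¹) h1
    simpa using this.symm
  have h3 : Odd (orderOf d) := Odd.of_dvd_nat ho (orderOf_dvd_of_pow_eq_one h2)
  have h4 : d = 1 := x0_eq_one_of_odd hD2 hdD h3
  rw [h4, one_mul] at hxa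
  calc x * a = x * a * x⁻¹ * x := by group
    _ = a * x := by rw [hxa]

omit [Finite G] in
theorem x0_K_le {K : Subgroup G} (hKo : closure {g : G | g ∈ K ∧ Odd (orderOf g)} = K)
    {A N : Subgroup G} (hA : IsPGroup 2 A) (hAN : A ≤ normalizer (N : Set G)) (h : K ≤ A ⊔ N) :
    K ≤ N := by
  have h1 := pRes_le_of_le_sup hAN hA h
  rw [pRes_eq_closure] at h1
  have e : {g : G | g ∈ K ∧ (orderOf g).Coprime 2} = {g : G | g ∈ K ∧ Odd (orderOf g)} := by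
    ext g
    simp only [Set.mem_ofPred_eq, Nat.coprime_two_right]
  rw [e, hKo] at h1
  exact h1

theorem x0 {P₁ P₂ T K : Subgroup G} (h : BHyp P₁ P₂ T)
    (hD : P₁ ≤ normalizer ((QQ P₁ ⊓ QQ P₂ : Subgroup G) : Set G)) (hKP : P₁ = K ⊔ T)
    (hKn : T ≤ normalizer (K : Set G)) (hK3 : (pCoreOf 2 K).relIndex K = 3)
    (hKo : closure {g : G | g ∈ K ∧ Odd (orderOf g)} = K) :
    IsSylowTwoIn (QQ P₂) (K ⊔ QQ P₂) ∧ pCoreOf 2 (K ⊔ QQ P₂) = QQ P₁ ⊓ QQ P₂ ∧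
      (QQ P₁ ⊓ QQ P₂).relIndex (K ⊔ QQ P₂) = 6 ∧
      (K ⊔ QQ P₂) ⊓ centralizer ((QQ P₁ ⊓ QQ P₂ : Subgroup G) : Set G) ≤ QQ P₁ ⊓ QQ P₂ ∧
      K ⊔ QQ P₂ ≤ ⨆ g : ↥(K ⊔ QQ P₂), cjj (g : G) (QQ P₂) := by
  have : Fact (Nat.Prime 2) := ⟨Nat.prime_two⟩
  have L₁ : Loc1 P₁ T := BA.loc1 P₁ T h.syl₁ h.h6₁ h.hchar₁ h.hZ₁
  have L₂ : Loc1 P₂ T := BA.loc1 P₂ T h.syl₂ h.h6₂ h.hchar₂ h.hZ₂
  obtain ⟨hQ1T, i21, i31⟩ := BA.indices h.syl₁ h.h6₁
  obtain ⟨hQ2T, i22, i32⟩ := BA.indices h.syl₂ h.h6₂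
  obtain ⟨Q₁, hQ₁⟩ : ∃ Q₁, Q₁ = QQ P₁ := ⟨_, rfl⟩
  obtain ⟨Q₂, hQ₂⟩ : ∃ Q₂, Q₂ = QQ P₂ := ⟨_, rfl⟩
  obtain ⟨R, hR⟩ : ∃ R, R = pCoreOf 2 K := ⟨_, rfl⟩
  rw [← hQ₁] at hD hQ1T i21 ⊢
  rw [← hQ₂] at hD hQ2T i22 ⊢
  rw [← hR] at hK3
  have hT2 : IsPGroup 2 T := h.syl₁.2.1
  have hQ12 : IsPGroup 2 Q₁ := hT2.to_le hQ1T
  have hQ22 : IsPGroup 2 Q₂ := hT2.to_le hQ2T
  have hD2 : IsPGroup 2 (Q₁ ⊓ Q₂ : Subgroup G) := hQ12.to_le inf_le_left
  have hKP₁ : K ≤ P₁ := hKP ▸ le_sup_left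
  have hTP₁ : T ≤ P₁ := L₁.TP
  have hPK : P₁ ≤ normalizer (K : Set G) := by
    rw [hKP]; exact sup_le le_normalizer hKn
  have hPQ₁ : P₁ ≤ normalizer (Q₁ : Set G) := hQ₁ ▸ le_normalizer_pCoreOf 2 P₁
  have hPQ₂ : P₂ ≤ normalizer (Q₂ : Set G) := hQ₂ ▸ le_normalizer_pCoreOf 2 P₂
  have hRK : R ≤ K := hR ▸ pCoreOf_le 2 K
  have hR2 : IsPGroup 2 R := hR ▸ pCoreOf_isPGroup 2 K
  have hPR : P₁ ≤ normalizer (R : Set G) :=
    hPK.trans (hR ▸ normalizer_le_normalizer_pCoreOf 2 K)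
  have hRQ₁ : R ≤ Q₁ := hQ₁ ▸ le_pCoreOf (hRK.trans hKP₁) hPR hR2
  -- F4
  have hKT : K ⊓ T = R := by
    rcases eq_or_eq_of_relIndex_prime Nat.prime_three (le_inf hRK (hRQ₁.trans hQ1T)) inf_le_left hK3
      with h1 | h1
    · exact h1
    · exfalso
      have h2 : K ≤ T := inf_eq_left.mp h1
      have h3 : P₁ ≤ T := by rw [hKP]; exact sup_le h2 le_rfl
      have h4 : T.relIndex P₁ = 1 := relIndex_eq_one.mpr h3
      omega
  -- F6
  have hne : ¬ Q₂ ≤ Q₁ := by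
    intro hle
    rcases eq_or_eq_of_relIndex_prime Nat.prime_two hle hQ1T i22 with h1 | h1
    · have h2 : Q₁ = ⊥ := h.hcore _ hQ1T hPQ₁ (h1 ▸ hPQ₂)
      exact L₁.Zne (le_bot_iff.mp (h2 ▸ hQ₁ ▸ L₁.ZQ))
    · rw [h1, relIndex_self] at i21
      omega
  -- F7
  have hcomm : ∀ a ∈ P₁, ∀ q ∈ Q₁, a * q * a⁻¹ * q⁻¹ ∈ Q₁ ⊓ Q₂ := by
    intro a ha q hq
    by_cases hqD : q ∈ Q₁ ⊓ Q₂
    · exact mul_mem ((mem_normalizer_iff.mp (hD ha) q).mp hqD) (inv_mem hqD)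
    · have h1 : a * q * a⁻¹ ∈ Q₁ := (mem_normalizer_iff.mp (hPQ₁ ha) q).mp hq
      have h2 : a * q * a⁻¹ ∉ Q₂ := fun hc =>
        hqD ((mem_normalizer_iff.mp (hD ha) q).mpr (mem_inf.mpr ⟨h1, hc⟩))
      have h3 : q⁻¹ ∉ Q₂ := fun hc => hqD (mem_inf.mpr ⟨hq, by simpa using inv_mem hc⟩)
      refine mem_inf.mpr ⟨mul_mem h1 (inv_mem hq), ?_⟩
      rw [hQ₂] at h2 h3 ⊢
      exact L₂.ind2 _ _ (hQ1T h1) (hQ1T (inv_mem hq)) h2 h3
  -- an odd-order element outside R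
  have hexk : ∃ k ∈ K, Odd (orderOf k) ∧ k ∉ R := by
    by_contra hcon
    push Not at hcon
    have h1 : K ≤ R := by
      rw [← hKo, closure_le]
      rintro g ⟨hg, hgo⟩
      exact hcon g hg hgo
    have h2 : R.relIndex K = 1 := relIndex_eq_one.mpr h1
    omega
  obtain ⟨k, hkK, hko, hkR⟩ := hexk
  have hRk : R ⊔ zpowers k = K := by
    rcases eq_or_eq_of_relIndex_prime Nat.prime_three (le_sup_left : R ≤ R ⊔ zpowers k)
      (sup_le hRK (zpowers_le.mpr hkK)) hK3 with h1 | h1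
    · exact absurd (h1 ▸ (mem_sup_right (mem_zpowers k) : k ∈ R ⊔ zpowers k)) hkR
    · exact h1
  -- F8
  have hRD : R ≤ Q₁ ⊓ Q₂ := by
    obtain ⟨R₀, hR₀⟩ : ∃ R₀, R₀ = R ⊓ (Q₁ ⊓ Q₂) := ⟨_, rfl⟩
    have hPR₀ : P₁ ≤ normalizer (R₀ : Set G) := hR₀ ▸ le_normalizer_inf hPR hD
    have hRM : R ≤ normalizer ((R₀ ⊔ zpowers k : Subgroup G) : Set G) := by
      intro r hr
      rw [← cj_eq_self_iff]
      apply cj_eq_of_le
      rw [cj_sup]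
      apply sup_le
      · rw [cj_eq_self_iff.mpr (hPR₀ (hKP₁ (hRK hr)))]
        exact le_sup_left
      · rw [MonoidHom.map_zpowers, zpowers_le]
        show r * k * r⁻¹ ∈ R₀ ⊔ zpowers k
        have h1 : r * k * r⁻¹ * k⁻¹ ∈ R₀ := by
          rw [hR₀]
          refine mem_inf.mpr ⟨?_, ?_⟩
          · have h2 : k * r⁻¹ * k⁻¹ ∈ R :=
              (mem_normalizer_iff.mp (hPR (hKP₁ hkK)) _).mp (inv_mem hr)
            have := mul_mem hr h2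
            rwa [← mul_assoc, ← mul_assoc] at this
          · have h2 := hcomm k (hKP₁ hkK) r⁻¹ (inv_mem (hRQ₁ hr))
            have h3 := (mem_normalizer_iff.mp (hD (hKP₁ (hRK hr))) _).mp h2
            have e : r * (k * r⁻¹ * k⁻¹ * r⁻¹⁻¹) * r⁻¹ = r * k * r⁻¹ * k⁻¹ := by group
            rwa [e] at h3
        have e : r * k * r⁻¹ = (r * k * r⁻¹ * k⁻¹) * k := by group
        rw [e]
        exact mul_mem (mem_sup_left h1) (mem_sup_right (mem_zpowers k))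
    have hKM : K ≤ R₀ ⊔ zpowers k := by
      apply x0_K_le hKo hR2 hRM
      rw [← hRk]
      exact sup_le le_sup_left (le_sup_right.trans le_sup_right)
    intro r hr
    have h1 : r ∈ R₀ ⊔ zpowers k := hKM (hRK hr)
    have hzn : zpowers k ≤ normalizer (R₀ : Set G) := zpowers_le.mpr (hPR₀ (hKP₁ hkK))
    rw [← SetLike.mem_coe, coe_mul_of_right_le_normalizer_left R₀ _ hzn, Set.mem_mul] at h1
    obtain ⟨r₀, hr₀, y, hy, rfl⟩ := h1
    have hr₀' : r₀ ∈ R₀ := hr₀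
    have hy' : y ∈ zpowers k := hy
    have hr₀R : r₀ ∈ R := by rw [hR₀] at hr₀'; exact hr₀'.1
    have hyR : y ∈ R := by
      have e : y = r₀⁻¹ * (r₀ * y) := by group
      rw [e]
      exact mul_mem (inv_mem hr₀R) hr
    have hyo : Odd (orderOf y) := by
      obtain ⟨i, rfl⟩ := mem_zpowers_iff.mp hy'
      exact Odd.of_dvd_nat hko (orderOf_dvd_of_pow_eq_one (by
        rw [← zpow_natCast, ← zpow_mul, mul_comm, zpow_mul, zpow_natCast, pow_orderOf_eq_one,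
          one_zpow]))
    rw [x0_eq_one_of_odd hR2 hyR hyo, mul_one]
    rw [hR₀] at hr₀'
    exact hr₀'.2
  -- F9
  have hKQ₂ : Q₂ ⊓ K = R := by
    apply le_antisymm
    · rw [← hKT, inf_comm]
      exact inf_le_inf_left K hQ2T
    · exact le_inf (hRD.trans inf_le_right) hRK
  have hQ₂K : Q₂ ≤ normalizer (K : Set G) := hQ2T.trans hKn
  have hXP : K ⊔ Q₂ ≤ P₁ := sup_le hKP₁ (hQ2T.trans hTP₁)
  -- F10
  have i3X : Q₂.relIndex (K ⊔ Q₂) = 3 := by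
    have h1 := Cfsg.Agent.Lib.Helper56.relIndex_sup_of_mul_eq Q₂ K (by
      rw [sup_comm]
      exact coe_mul_of_right_le_normalizer_left K Q₂ hQ₂K)
    rw [sup_comm] at h1
    rw [h1, ← inf_relIndex_right, hKQ₂, hK3]
  have hsyl : IsSylowTwoIn Q₂ (K ⊔ Q₂) := ⟨le_sup_right, hQ22, by rw [i3X]; decide⟩
  -- index of D in Q₂
  have i2D : (Q₁ ⊓ Q₂ : Subgroup G).relIndex Q₂ = 2 := by
    rw [inf_relIndex_right]
    have hn : Q₂ ≤ normalizer (Q₁ : Set G) := (hQ2T.trans hTP₁).trans hPQ₁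
    have h1 : Q₁.relIndex (Q₂ ⊔ Q₁) = Q₁.relIndex Q₂ := by
      let _ := Subgroup.normal_subgroupOf_of_le_normalizer hn
      let _ := Subgroup.normal_subgroupOf_sup_of_le_normalizer hn
      exact Nat.card_congr
        (QuotientGroup.quotientInfEquivProdNormalizerQuotient Q₂ Q₁ hn).toEquiv.symm
    have h2 : Q₂ ⊔ Q₁ = T := by
      rcases eq_or_eq_of_relIndex_prime Nat.prime_two (le_sup_right : Q₁ ≤ Q₂ ⊔ Q₁)
        (sup_le hQ2T hQ1T) i21 with h3 | h3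
      · exact absurd (h3 ▸ (le_sup_left : Q₂ ≤ Q₂ ⊔ Q₁)) hne
      · exact h3
    rw [← h1, h2, i21]
  -- F11
  have hnotn : ¬ K ⊔ Q₂ ≤ normalizer (Q₂ : Set G) := by
    intro hn
    apply hne
    rw [hQ₁]
    apply le_pCoreOf (hQ2T.trans hTP₁) _ hQ22
    rw [hKP]
    exact sup_le (le_sup_left.trans hn) (L₂.TP.trans hPQ₂)
  have hO2 : pCoreOf 2 (K ⊔ Q₂) = Q₁ ⊓ Q₂ := by
    have h1 : Q₁ ⊓ Q₂ ≤ pCoreOf 2 (K ⊔ Q₂) :=
      le_pCoreOf (inf_le_right.trans le_sup_right) (hXP.trans hD) hD2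
    have h2 : pCoreOf 2 (K ⊔ Q₂) ≤ Q₂ := pCoreOf_le_isSyl (isSylowTwoIn_iff.mp hsyl)
    rcases eq_or_eq_of_relIndex_prime Nat.prime_two h1 h2 i2D with h3 | h3
    · exact h3
    · exfalso
      apply hnotn
      have h4 := le_normalizer_pCoreOf 2 (K ⊔ Q₂)
      rwa [h3] at h4
  refine ⟨hsyl, hO2, ?_, ?_, ?_⟩
  · rw [← relIndex_mul_relIndex _ _ _ (inf_le_right : Q₁ ⊓ Q₂ ≤ Q₂) (le_sup_right : Q₂ ≤ K ⊔ Q₂),
      i2D, i3X]
  · -- F13
    obtain ⟨C, hC⟩ : ∃ C, C = (K ⊔ Q₂) ⊓ centralizer ((Q₁ ⊓ Q₂ : Subgroup G) : Set G) := ⟨_, rfl⟩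
    rw [← hC]
    have hXC : K ⊔ Q₂ ≤ normalizer (C : Set G) := by
      rw [hC]
      exact le_normalizer_inf le_normalizer
        ((hXP.trans hD).trans (normalizer_le_normalizer_cent _))
    by_cases hC2 : IsPGroup 2 C
    · rw [← hO2]
      exact le_pCoreOf (hC ▸ inf_le_left) hXC hC2
    exfalso
    -- an odd-order element of C
    have hexc : ∃ c ∈ C, Odd (orderOf c) ∧ c ≠ 1 := by
      by_contra hcon
      push Not at hcon
      apply hC2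
      intro x
      obtain ⟨n, hn⟩ := exists_pow_coprime (p := 2) (x : G)
      refine ⟨n, Subtype.ext ?_⟩
      exact hcon _ (pow_mem x.2 _) (Nat.coprime_two_right.mp hn)
    obtain ⟨c, hcC, hco, hc1⟩ := hexc
    have hcX : c ∈ K ⊔ Q₂ := by rw [hC] at hcC; exact hcC.1
    have hcK : c ∈ K := by
      have h1 := pRes_le_of_le_sup hQ₂K hQ22 (K := K ⊔ Q₂) (by rw [sup_comm])
      exact h1 (mem_pRes hcX (Nat.coprime_two_right.mpr hco))
    have hcR : c ∉ R := fun hc => hc1 (x0_eq_one_of_odd hR2 hc hco)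
    have hsup : R ⊔ (K ⊓ C) = K := by
      rcases eq_or_eq_of_relIndex_prime Nat.prime_three (le_sup_left : R ≤ R ⊔ (K ⊓ C))
        (sup_le hRK inf_le_left) hK3 with h1 | h1
      · exact absurd (h1 ▸ (mem_sup_right (mem_inf.mpr ⟨hcK, hcC⟩) : c ∈ R ⊔ (K ⊓ C))) hcR
      · exact h1
    have hKC : K ≤ K ⊓ C := by
      apply x0_K_le hKo hR2 _ hsup.ge
      exact le_normalizer_inf (hRK.trans le_normalizer) ((hRK.trans le_sup_left).trans hXC)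
    have hKcD : K ≤ centralizer ((Q₁ ⊓ Q₂ : Subgroup G) : Set G) := by
      refine (hKC.trans inf_le_right).trans ?_
      rw [hC]; exact inf_le_right
    -- k centralizes Q₁
    have h1 : ∀ a ∈ Q₁, k * a = a * k := by
      apply x0_stab hko hD2
      · intro d hd
        exact ((mem_centralizer_iff.mp (hKcD hkK)) d hd).symm
      · intro a ha
        exact hcomm k (hKP₁ hkK) a ha
    have h2 : k ∈ Q₁ := by
      rw [hQ₁]
      apply h.hchar₁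
      refine mem_inf.mpr ⟨hKP₁ hkK, ?_⟩
      rw [mem_centralizer_iff]
      intro a ha
      exact (h1 a (hQ₁ ▸ ha)).symm
    apply hkR
    rw [x0_eq_one_of_odd hQ12 h2 hko]
    exact one_mem _
  · -- F14
    have h1 : Q₂ ≤ ⨆ g : ↥(K ⊔ Q₂), cjj (g : G) Q₂ := le_iSup_cj Q₂ (K ⊔ Q₂)
    have h2 : (⨆ g : ↥(K ⊔ Q₂), cjj (g : G) Q₂) ≤ K ⊔ Q₂ :=
      iSup_le fun g => cj_le_of_le_of_mem le_sup_right g.2
    rcases eq_or_eq_of_relIndex_prime Nat.prime_three h1 h2 i3X with h3 | h3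
    · exfalso
      apply hnotn
      have := le_normalizer_iSup_cj Q₂ (K ⊔ Q₂)
      have h4 : (⨆ l : ↥(K ⊔ Q₂), Q₂.map (MulAut.conj (l : G)).toMonoidHom) = Q₂ := h3
      rwa [h4] at this
    · exact h3.ge

end Cfsg.Agent.Lib.Helper56.JC3
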