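import Mathlib
import Cfsg.Prelude.Def_LocalEven
import Cfsg.Agent.Lib.Helper40.IsSec
import Cfsg.Agent.Lib.Helper40.RelSylow
import Cfsg.Agent.Lib.Helper47.Polyhedral

/-!
`S₄` is involved in a group in which `S₃` acts suitably on a normal elementary abelian `2`-subgroup.
-/

set_option autoImplicit false

namespace Cfsg.Agent.Lib.Helper56

open Cfsg.Agent.Lib.Helper40

universe u

/-- `Involves` passes from a section to the group. -/
theorem involves_of_isSec {H : Type*} [Group H] {G Y : Type u} [Group G] [Group Y] (h : IsSec G Y)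
    (hY : Cfsg.Involves H Y) : Cfsg.Involves H G := by
  obtain ⟨K, R, hn, ⟨e⟩⟩ := hY
  obtain ⟨K', R', hn', ⟨e'⟩⟩ := (h.trans (isSec_section K R)).exists_equiv
  exact ⟨K', R', hn', ⟨e'.trans e⟩⟩

theorem involves_of_subgroup {H : Type*} [Group H] {G : Type u} [Group G] (K : Subgroup G)
    (hY : Cfsg.Involves H K) : Cfsg.Involves H G :=
  involves_of_isSec (isSec_subgroup K) hY

/-- if a section `Y` of `G` contains a copy of `H` then `H` is involved in `G`. -/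
theorem involves_of_isSec_of_injective {H : Type*} [Group H] {G Y : Type u} [Group G] [Group Y]
    (h : IsSec G Y) (f : H →* Y) (hf : Function.Injective f) : Cfsg.Involves H G := by
  obtain ⟨K, R, hn, ⟨e⟩⟩ := (h.sub f.range).exists_equiv
  exact ⟨K, R, hn, ⟨e.trans (MonoidHom.ofInjective hf).symm⟩⟩

/-- dihedral computation. -/
theorem dihedral_aux {Q : Type*} [Group Q] (α η : Q) (hα : α * α = 1) (hη : α * η * α⁻¹ = η⁻¹)
    (i : ℤ) : (η ^ i * α) * (η ^ i * α) = 1 ∧ (η ^ i * α) * η * (η ^ i * α)⁻¹ = η⁻¹ := by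
  have h1 : α * η ^ i * α⁻¹ = (η ^ i)⁻¹ := by
    rw [← conj_zpow, hη, inv_zpow]
  have hαi : α⁻¹ = α := inv_eq_of_mul_eq_one_left hα
  constructor
  · calc (η ^ i * α) * (η ^ i * α) = η ^ i * (α * η ^ i * α⁻¹) * (α * α) := by group
      _ = 1 := by rw [h1, hα]; group
  · calc (η ^ i * α) * η * (η ^ i * α)⁻¹ = η ^ i * (α * η * α⁻¹) * (η ^ i)⁻¹ := by group
      _ = η⁻¹ := by rw [hη]; group

section main

variable {M : Type u} [Group M] (E : Subgroup M)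

/-- the "norm" of `e` under `⟨g⟩` (of order `3` on `E`) is trivial. -/
def Nm (g : M) : Prop := ∀ e ∈ E, e * (g * e * g⁻¹) * (g * (g * e * g⁻¹) * g⁻¹) = 1

variable {E}

theorem comm_of_exp_two (hE : ∀ e ∈ E, e * e = 1) : ∀ e ∈ E, ∀ f ∈ E, e * f = f * e := by
  intro e he f hf
  have h1 := hE (e * f) (E.mul_mem he hf)
  have h2 := hE e he
  have h3 := hE f hf
  calc e * f = f * f * (e * f) * (e * e) := by rw [h2, h3]; group
    _ = f * (f * e) * (f * e) * e := by group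
    _ = f * ((f * e) * (f * e)) * e := by group
    _ = f * e := by rw [hE (f * e) (E.mul_mem hf he)]; group

theorem inv_eq_of_exp_two (hE : ∀ e ∈ E, e * e = 1) {e : M} (he : e ∈ E) : e⁻¹ = e :=
  inv_eq_of_mul_eq_one_left (hE e he)

theorem mem_centralizer_iff_conj {g : M} :
    g ∈ Subgroup.centralizer (E : Set M) ↔ ∀ e ∈ E, g * e * g⁻¹ = e := by
  rw [Subgroup.mem_centralizer_iff]
  constructor
  · intro h e he
    rw [← h e he]; group
  · intro h e he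
    have := h e he
    calc e * g = (g * e * g⁻¹) * g := by rw [this]
      _ = g * e := by group

theorem conj_eq_of_mk_eq [E.Normal] {g g' : M}
    (h : (g : M ⧸ Subgroup.centralizer (E : Set M)) = g') : ∀ e ∈ E, g * e * g⁻¹ = g' * e * g'⁻¹ := by
  intro e he
  rw [QuotientGroup.eq] at h
  have := mem_centralizer_iff_conj.1 h e he
  calc g * e * g⁻¹ = g * ((g⁻¹ * g') * e * (g⁻¹ * g')⁻¹) * g⁻¹ := by rw [this]
    _ = g' * e * g'⁻¹ := by group

theorem Nm.congr [hn : E.Normal] {g g' : M} (h : Nm E g)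
    (hg : (g : M ⧸ Subgroup.centralizer (E : Set M)) = g') : Nm E g' := by
  intro e he
  have h1 := conj_eq_of_mk_eq hg e he
  have h2 := conj_eq_of_mk_eq hg (g * e * g⁻¹) (hn.conj_mem e he g)
  rw [← h1, ← h2]
  exact h e he

theorem Nm.cube [hn : E.Normal] {g : M} (h : Nm E g) :
    ∀ e ∈ E, g * (g * (g * e * g⁻¹) * g⁻¹) * g⁻¹ = e := by
  intro e he
  have h1 := h e he
  have h2 := h (g * e * g⁻¹) (hn.conj_mem e he g)
  set e1 := g * e * g⁻¹ with he1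
  set e2 := g * e1 * g⁻¹ with he2
  set e3 := g * e2 * g⁻¹ with he3
  -- e e1 e2 = 1, e1 e2 e3 = 1
  have h3 : e1 * e2 = e⁻¹ := by
    have : e * (e1 * e2) = 1 := by rw [← mul_assoc]; exact h1
    exact (eq_inv_of_mul_eq_one_right this)
  rw [h3] at h2
  have : e3 = e := by
    have := eq_inv_of_mul_eq_one_right h2
    rw [inv_inv] at this
    exact this
  exact this

theorem Nm.sq [hn : E.Normal] (hE : ∀ e ∈ E, e * e = 1) {g : M} (h : Nm E g) : Nm E (g * g) := by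
  intro e he
  have h1 := h e he
  have h3 := h.cube e he
  have hc := comm_of_exp_two hE
  have e1m : g * e * g⁻¹ ∈ E := hn.conj_mem e he g
  have e2m : g * (g * e * g⁻¹) * g⁻¹ ∈ E := hn.conj_mem _ e1m g
  have a1 : g * g * e * (g * g)⁻¹ = g * (g * e * g⁻¹) * g⁻¹ := by group
  have a2 : g * g * (g * (g * e * g⁻¹) * g⁻¹) * (g * g)⁻¹
      = g * (g * (g * (g * e * g⁻¹) * g⁻¹) * g⁻¹) * g⁻¹ := by group
  rw [a1, a2, h3, mul_assoc, hc _ e2m _ e1m, ← mul_assoc]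
  exact h1

theorem Nm.eq_one (hE : ∀ e ∈ E, e * e = 1) {g : M} (h : Nm E g) {e : M} (he : e ∈ E)
    (hfix : g * e * g⁻¹ = e) : e = 1 := by
  have h1 := h e he
  rw [hfix, hfix, hE e he, one_mul] at h1
  exact h1

/-- **`S₄` from `S₃` on an elementary abelian normal `2`-subgroup.**  `E ≠ 1` normal of exponent `2`
in the finite group `M`; `a₁, a₂` act on `E` as involutions and `k = a₁ a₂` satisfies
`e · e^k · e^(k²) = 1` on `E`.  Then `S₄` is involved in `M`. -/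
theorem involves_S4_of_action [Finite M] [hn : E.Normal] (hE : ∀ e ∈ E, e * e = 1) (hne : E ≠ ⊥)
    (a₁ a₂ : M) (h1 : ∀ e ∈ E, a₁ * (a₁ * e * a₁⁻¹) * a₁⁻¹ = e)
    (h2 : ∀ e ∈ E, a₂ * (a₂ * e * a₂⁻¹) * a₂⁻¹ = e) (hN : Nm E (a₁ * a₂)) :
    Cfsg.Involves (Equiv.Perm (Fin 4)) M := by
  have hc := comm_of_exp_two hE
  obtain ⟨C, hC⟩ : ∃ C, C = Subgroup.centralizer (E : Set M) := ⟨_, rfl⟩
  have hCn : C.Normal := by rw [hC]; exact Subgroup.normal_centralizer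
  have memC : ∀ g : M, ((g : M ⧸ C) = 1) ↔ ∀ e ∈ E, g * e * g⁻¹ = e := by
    intro g
    rw [QuotientGroup.eq_one_iff, hC, mem_centralizer_iff_conj]
  have congrN : ∀ g g' : M, Nm E g → (g : M ⧸ C) = g' → Nm E g' := by
    subst hC
    intro g g' h h'
    exact h.congr h'
  obtain ⟨k, hk⟩ : ∃ k, k = a₁ * a₂ := ⟨_, rfl⟩
  rw [← hk] at hN
  have hα1 : ((a₁ : M ⧸ C)) * a₁ = 1 := by
    rw [← QuotientGroup.mk_mul, memC]
    intro e he
    calc a₁ * a₁ * e * (a₁ * a₁)⁻¹ = a₁ * (a₁ * e * a₁⁻¹) * a₁⁻¹ := by group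
      _ = e := h1 e he
  have hα2 : ((a₂ : M ⧸ C)) * a₂ = 1 := by
    rw [← QuotientGroup.mk_mul, memC]
    intro e he
    calc a₂ * a₂ * e * (a₂ * a₂)⁻¹ = a₂ * (a₂ * e * a₂⁻¹) * a₂⁻¹ := by group
      _ = e := h2 e he
  have cube : ∀ g : M, Nm E g → ((g : M ⧸ C)) ^ 3 = 1 := by
    intro g hg
    rw [pow_succ, pow_two, ← QuotientGroup.mk_mul, ← QuotientGroup.mk_mul, memC]
    intro e he
    calc g * g * g * e * (g * g * g)⁻¹ = g * (g * (g * e * g⁻¹) * g⁻¹) * g⁻¹ := by group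
      _ = e := hg.cube e he
  have hκ3 := cube k hN
  have hκinv : ((a₁ : M ⧸ C)) * k * (a₁ : M ⧸ C)⁻¹ = (k : M ⧸ C)⁻¹ := by
    have e1 : ((a₁ : M ⧸ C))⁻¹ = a₁ := inv_eq_of_mul_eq_one_left hα1
    have e2 : ((a₂ : M ⧸ C))⁻¹ = a₂ := inv_eq_of_mul_eq_one_left hα2
    rw [hk, QuotientGroup.mk_mul, mul_inv_rev, e1, e2, ← mul_assoc, hα1, one_mul]
  -- the 3-part of k
  obtain ⟨j, m, hm3, hord⟩ := Nat.exists_eq_pow_mul_and_not_dvd (orderOf_pos k).ne' 3 (by norm_num)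
  obtain ⟨y, hy⟩ : ∃ y, y = k ^ m := ⟨_, rfl⟩
  have hy3 : y ^ (3 ^ j) = 1 := by
    rw [hy, ← pow_mul, mul_comm, ← hord, pow_orderOf_eq_one]
  have hηinv : ((a₁ : M ⧸ C)) * y * (a₁ : M ⧸ C)⁻¹ = (y : M ⧸ C)⁻¹ := by
    rw [hy, QuotientGroup.mk_pow, ← conj_pow, hκinv, inv_pow]
  have hNy : Nm E y := by
    have hmod : ((y : M ⧸ C)) = (k : M ⧸ C) ^ (m % 3) := by
      rw [hy, QuotientGroup.mk_pow]
      exact pow_eq_pow_mod m hκ3
    have hcases : m % 3 = 1 ∨ m % 3 = 2 := by omega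
    rcases hcases with h | h
    · rw [h, pow_one] at hmod
      exact congrN _ _ hN hmod.symm
    · rw [h, pow_two, ← QuotientGroup.mk_mul] at hmod
      exact congrN _ _ (hN.sq hE) hmod.symm
  have hη3 := cube y hNy
  -- Frattini
  obtain ⟨L, hL⟩ : ∃ L, L = C ⊔ Subgroup.zpowers y := ⟨_, rfl⟩
  have hyL : Subgroup.zpowers y ≤ L := by rw [hL]; exact le_sup_right
  have hyp : IsPGroup 3 (Subgroup.zpowers y) := by
    rintro ⟨z, hz⟩
    obtain ⟨i, rfl⟩ := Subgroup.mem_zpowers_iff.1 hz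
    refine ⟨j, Subtype.ext ?_⟩
    change (y ^ i) ^ (3 ^ j) = 1
    rw [← zpow_natCast, ← zpow_mul, mul_comm, zpow_mul, zpow_natCast, hy3, one_zpow]
  have : Fact (Nat.Prime 3) := ⟨Nat.prime_three⟩
  have : Fact (Nat.Prime 2) := ⟨Nat.prime_two⟩
  obtain ⟨R, hyR, hR⟩ := exists_relSylow_ge hyL hyp
  have hyRm : y ∈ R := hyR (Subgroup.mem_zpowers y)
  have ha1L : cj a₁ L = L := by
    apply cj_eq_of_le_of_finite
    rw [hL, cj, Subgroup.map_sup]
    apply sup_le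
    · refine le_trans ?_ le_sup_left
      rintro _ ⟨c, hc', rfl⟩
      exact hCn.conj_mem c hc' a₁
    · rw [MonoidHom.map_zpowers, Subgroup.zpowers_le]
      change a₁ * y * a₁⁻¹ ∈ C ⊔ Subgroup.zpowers y
      have h3 : a₁ * y * a₁⁻¹ * y ∈ C := by
        rw [← QuotientGroup.eq_one_iff, QuotientGroup.mk_mul, QuotientGroup.mk_mul,
          QuotientGroup.mk_mul, QuotientGroup.mk_inv, hηinv, inv_mul_cancel]
      have h4 : a₁ * y * a₁⁻¹ = (a₁ * y * a₁⁻¹ * y) * y⁻¹ := by group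
      rw [h4]
      exact Subgroup.mul_mem_sup h3 (Subgroup.inv_mem _ (Subgroup.mem_zpowers y))
  have hR' : RelSylow 3 (cj a₁ R) L := by
    have := hR.conj a₁
    rwa [ha1L] at this
  obtain ⟨l, hlL, hl⟩ := hR.exists_conj_eq hR'
  obtain ⟨n, hn'⟩ : ∃ n, n = l * a₁ := ⟨_, rfl⟩
  have hnR : n ∈ Subgroup.normalizer (R : Set M) := by
    apply mem_normalizer_of_cj_eq
    rw [hn', cj_mul]; exact hl
  obtain ⟨i, hi⟩ : ∃ i : ℤ, ((l : M ⧸ C)) = (y : M ⧸ C) ^ i := by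
    have h3 : (QuotientGroup.mk' C) l ∈ L.map (QuotientGroup.mk' C) := ⟨l, hlL, rfl⟩
    rw [hL, Subgroup.map_sup, MonoidHom.map_zpowers] at h3
    have h4 : C.map (QuotientGroup.mk' C) = ⊥ := by
      rw [eq_bot_iff]
      rintro _ ⟨c, hc', rfl⟩
      rw [Subgroup.mem_bot]
      exact (QuotientGroup.eq_one_iff c).2 hc'
    rw [h4, bot_sup_eq] at h3
    obtain ⟨i, hi⟩ := Subgroup.mem_zpowers_iff.1 h3
    exact ⟨i, hi.symm⟩
  have hν : ((n : M ⧸ C)) = (y : M ⧸ C) ^ i * a₁ := by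
    rw [hn', QuotientGroup.mk_mul, hi]
  obtain ⟨hνsq, hνη⟩ := dihedral_aux (a₁ : M ⧸ C) (y : M ⧸ C) hα1 hηinv i
  rw [← hν] at hνsq hνη
  have hνi : ((n : M ⧸ C))⁻¹ = n := inv_eq_of_mul_eq_one_left hνsq
  -- the complement
  obtain ⟨M₁, hM₁⟩ : ∃ M₁, M₁ = Subgroup.normalizer (R : Set M) := ⟨_, rfl⟩
  rw [← hM₁] at hnR
  have hyM₁ : y ∈ M₁ := by rw [hM₁]; exact Subgroup.le_normalizer hyRm
  have hEM₁ : ∀ e ∈ E, e ∈ M₁ → e = 1 := by
    intro e he heM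
    rw [hM₁] at heM
    have hER : Disjoint E R := by
      apply IsPGroup.disjoint_of_ne 2 3 (by norm_num) E R _ hR.isPGroup
      rintro ⟨z, hz⟩
      exact ⟨1, Subtype.ext (by change z ^ 2 ^ 1 = 1; rw [pow_one, pow_two]; exact hE z hz)⟩
    have h3 : e * y * e⁻¹ * y⁻¹ ∈ R :=
      R.mul_mem ((Subgroup.mem_normalizer_iff.1 heM y).1 hyRm) (R.inv_mem hyRm)
    have h4 : e * y * e⁻¹ * y⁻¹ ∈ E := by
      have : e * y * e⁻¹ * y⁻¹ = e * (y * e⁻¹ * y⁻¹) := by group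
      rw [this]
      exact E.mul_mem he (hn.conj_mem _ (E.inv_mem he) y)
    have h5 : e * y * e⁻¹ * y⁻¹ = 1 := Subgroup.disjoint_def.1 hER h4 h3
    apply hNy.eq_one hE he
    calc y * e * y⁻¹ = (e * y * e⁻¹ * y⁻¹)⁻¹ * e := by group
      _ = e := by rw [h5]; group
  have hnsqC : ∀ e ∈ E, n * (n * e * n⁻¹) * n⁻¹ = e := by
    intro e he
    have := (memC (n * n)).1 (by rw [QuotientGroup.mk_mul]; exact hνsq) e he
    calc n * (n * e * n⁻¹) * n⁻¹ = n * n * e * (n * n)⁻¹ := by group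
      _ = e := this
  -- a fixed point of n on E
  obtain ⟨e₀, he₀, he₀1, he₀n⟩ : ∃ e₀ ∈ E, e₀ ≠ 1 ∧ n * e₀ * n⁻¹ = e₀ := by
    obtain ⟨f, hf, hf1⟩ : ∃ f ∈ E, f ≠ 1 := by
      by_contra hcon
      push Not at hcon
      exact hne ((Subgroup.eq_bot_iff_forall E).2 hcon)
    have hf' : n * f * n⁻¹ ∈ E := hn.conj_mem f hf n
    by_cases hff : f * (n * f * n⁻¹) = 1
    · refine ⟨f, hf, hf1, ?_⟩
      have := eq_inv_of_mul_eq_one_right hff
      rw [this, inv_eq_of_exp_two hE hf]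
    · refine ⟨f * (n * f * n⁻¹), E.mul_mem hf hf', hff, ?_⟩
      calc n * (f * (n * f * n⁻¹)) * n⁻¹ = (n * f * n⁻¹) * (n * (n * f * n⁻¹) * n⁻¹) := by group
        _ = (n * f * n⁻¹) * f := by rw [hnsqC f hf]
        _ = f * (n * f * n⁻¹) := hc _ hf' _ hf
  have hne₀ : n * e₀ = e₀ * n := by
    calc n * e₀ = (n * e₀ * n⁻¹) * n := by group
      _ = e₀ * n := by rw [he₀n]
  -- the section
  obtain ⟨K, hK⟩ : ∃ K, K = E ⊔ M₁ := ⟨_, rfl⟩
  obtain ⟨N, hNdef⟩ : ∃ N, N = M₁ ⊓ C := ⟨_, rfl⟩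
  have hNK : N ≤ K := by rw [hNdef, hK]; exact inf_le_left.trans le_sup_right
  have hKN : K ≤ Subgroup.normalizer (N : Set M) := by
    rw [hK]
    apply sup_le
    · refine le_trans ?_ (Subgroup.centralizer_le_normalizer _)
      rw [Subgroup.le_centralizer_iff, hNdef, ← hC]
      exact inf_le_right
    · intro g hg
      rw [Subgroup.mem_normalizer_iff, hNdef]
      intro x
      constructor
      · rintro ⟨hx1, hx2⟩
        exact ⟨M₁.mul_mem (M₁.mul_mem hg hx1) (M₁.inv_mem hg), hCn.conj_mem x hx2 g⟩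
      · rintro ⟨hx1, hx2⟩
        have e1 : x = g⁻¹ * (g * x * g⁻¹) * g := by group
        have e2 : x = g⁻¹ * (g * x * g⁻¹) * g⁻¹⁻¹ := by group
        refine ⟨?_, ?_⟩
        · rw [e1]; exact M₁.mul_mem (M₁.mul_mem (M₁.inv_mem hg) hx1) hg
        · rw [e2]; exact hCn.conj_mem _ hx2 g⁻¹
  have hNn : (N.subgroupOf K).Normal := (Subgroup.normal_subgroupOf_iff_le_normalizer hNK).2 hKN
  have hnK : n ∈ K := by rw [hK]; exact Subgroup.mem_sup_right hnR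
  have hyK : y ∈ K := by rw [hK]; exact Subgroup.mem_sup_right hyM₁
  have he₀K : e₀ ∈ K := by rw [hK]; exact Subgroup.mem_sup_left he₀
  have mkone : ∀ (g : K), (g : M) ∈ N → ((g : K) : ↥K ⧸ N.subgroupOf K) = 1 := by
    intro g hgN
    rw [QuotientGroup.eq_one_iff]
    exact Subgroup.mem_subgroupOf.2 hgN
  have memN : ∀ g : M, g ∈ M₁ → ((g : M ⧸ C) = 1) → g ∈ N := by
    intro g h h'
    rw [hNdef]
    exact ⟨h, (QuotientGroup.eq_one_iff g).1 h'⟩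
  have hNM₁ : N ≤ M₁ := by rw [hNdef]; exact inf_le_left
  have ht : y * n * y⁻¹ ∈ M₁ := M₁.mul_mem (M₁.mul_mem hyM₁ hnR) (M₁.inv_mem hyM₁)
  have r1 : n * n ∈ N := by
    refine memN _ (M₁.mul_mem hnR hnR) ?_
    rw [QuotientGroup.mk_mul]; exact hνsq
  have r2 : (y * n * y⁻¹) * (y * n * y⁻¹) ∈ N := by
    refine memN _ (M₁.mul_mem ht ht) ?_
    have : (y * n * y⁻¹) * (y * n * y⁻¹) = y * (n * n) * y⁻¹ := by group
    rw [this, QuotientGroup.mk_mul, QuotientGroup.mk_mul, QuotientGroup.mk_mul, hνsq,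
      QuotientGroup.mk_inv]
    group
  have r3 : (n * e₀) * (n * e₀) ∈ N := by
    have : (n * e₀) * (n * e₀) = n * n := by
      calc (n * e₀) * (n * e₀) = n * (e₀ * n) * e₀ := by group
        _ = n * (n * e₀) * e₀ := by rw [hne₀]
        _ = n * n * (e₀ * e₀) := by group
        _ = n * n := by rw [hE e₀ he₀, mul_one]
    rw [this]; exact r1
  have hνη' : ((n : M ⧸ C)) * y * n = (y : M ⧸ C)⁻¹ := by
    rw [← hνη, hνi]
  have hy6 : ((y : M ⧸ C)) ^ 6 = 1 := by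
    have : (6 : ℕ) = 3 * 2 := by norm_num
    rw [this, pow_mul, hη3, one_pow]
  have r12 : (n * (y * n * y⁻¹)) * (n * (y * n * y⁻¹)) * (n * (y * n * y⁻¹)) ∈ N := by
    have hm : n * (y * n * y⁻¹) ∈ M₁ := M₁.mul_mem hnR ht
    refine memN _ (M₁.mul_mem (M₁.mul_mem hm hm) hm) ?_
    have : ((n * (y * n * y⁻¹) : M) : M ⧸ C) = (y : M ⧸ C)⁻¹ * (y : M ⧸ C)⁻¹ := by
      rw [QuotientGroup.mk_mul, QuotientGroup.mk_mul, QuotientGroup.mk_mul, QuotientGroup.mk_inv,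
        ← mul_assoc, ← mul_assoc, hνη']
    rw [QuotientGroup.mk_mul, QuotientGroup.mk_mul, this]
    calc (y : M ⧸ C)⁻¹ * (y : M ⧸ C)⁻¹ * ((y : M ⧸ C)⁻¹ * (y : M ⧸ C)⁻¹) *
          ((y : M ⧸ C)⁻¹ * (y : M ⧸ C)⁻¹) = ((y : M ⧸ C) ^ 6)⁻¹ := by group
      _ = 1 := by rw [hy6, inv_one]
  obtain ⟨c, hcdef⟩ : ∃ c, c = y * n * y⁻¹ * n := ⟨_, rfl⟩
  have hcM₁ : c ∈ M₁ := by rw [hcdef]; exact M₁.mul_mem ht hnR
  have hcq : ((c : M ⧸ C)) = (y : M ⧸ C) * y := by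
    have h3 : ((n : M ⧸ C)) * (y : M ⧸ C)⁻¹ * n = y := by
      have := congrArg (fun z => z⁻¹) hνη'
      simp only [mul_inv_rev, inv_inv, hνi] at this
      rw [← mul_assoc] at this
      exact this
    rw [hcdef, QuotientGroup.mk_mul, QuotientGroup.mk_mul, QuotientGroup.mk_mul,
      QuotientGroup.mk_inv, mul_assoc, mul_assoc, ← mul_assoc (n : M ⧸ C), h3]
  have hcinv : ((y : M ⧸ C)) = ((c⁻¹ : M) : M ⧸ C) := by
    rw [QuotientGroup.mk_inv, hcq, eq_inv_iff_mul_eq_one, ← mul_assoc, ← pow_two, ← pow_succ, hη3]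
  have hNc : Nm E c⁻¹ := congrN _ _ hNy hcinv
  have r23 : ((y * n * y⁻¹) * (n * e₀)) * ((y * n * y⁻¹) * (n * e₀)) * ((y * n * y⁻¹) * (n * e₀))
      ∈ N := by
    have e1 : ((y * n * y⁻¹) * (n * e₀)) * ((y * n * y⁻¹) * (n * e₀)) * ((y * n * y⁻¹) * (n * e₀))
        = c * c * c * ((c⁻¹ * (c⁻¹ * e₀ * c⁻¹⁻¹) * c⁻¹⁻¹) * (c⁻¹ * e₀ * c⁻¹⁻¹) * e₀) := by
      rw [hcdef]; group
    have m1 : c⁻¹ * e₀ * c⁻¹⁻¹ ∈ E := hn.conj_mem e₀ he₀ _
    have m2 : c⁻¹ * (c⁻¹ * e₀ * c⁻¹⁻¹) * c⁻¹⁻¹ ∈ E := hn.conj_mem _ m1 _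
    have e2 : (c⁻¹ * (c⁻¹ * e₀ * c⁻¹⁻¹) * c⁻¹⁻¹) * (c⁻¹ * e₀ * c⁻¹⁻¹) * e₀ = 1 := by
      rw [hc _ (E.mul_mem m2 m1) _ he₀, hc _ m2 _ m1, ← mul_assoc]
      exact hNc e₀ he₀
    rw [e1, e2, mul_one]
    refine memN _ (M₁.mul_mem (M₁.mul_mem hcM₁ hcM₁) hcM₁) ?_
    rw [QuotientGroup.mk_mul, QuotientGroup.mk_mul, hcq]
    calc (y : M ⧸ C) * y * (y * y) * (y * y) = (y : M ⧸ C) ^ 6 := by
          simp only [pow_succ, pow_zero, one_mul, mul_assoc]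
      _ = 1 := hy6
  have hn2e : n * n * e₀ = e₀ * (n * n) := by
    calc n * n * e₀ = n * (n * e₀) := by group
      _ = n * (e₀ * n) := by rw [hne₀]
      _ = (n * e₀) * n := by group
      _ = e₀ * (n * n) := by rw [hne₀]; group
  have r13 : (n * (n * e₀)) * (n * (n * e₀)) ∈ N := by
    have : (n * (n * e₀)) * (n * (n * e₀)) = (n * n) * (n * n) := by
      calc (n * (n * e₀)) * (n * (n * e₀)) = n * n * (e₀ * (n * n)) * e₀ := by group
        _ = n * n * (n * n * e₀) * e₀ := by rw [hn2e]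
        _ = (n * n) * (n * n) * (e₀ * e₀) := by group
        _ = (n * n) * (n * n) := by rw [hE e₀ he₀, mul_one]
    rw [this]; exact N.mul_mem r1 r1
  have rne : n * (n * e₀) ∉ N := by
    intro h
    apply he₀1
    apply hEM₁ e₀ he₀
    have : e₀ = (n * n)⁻¹ * (n * (n * e₀)) := by group
    rw [this]
    exact M₁.mul_mem (M₁.inv_mem (hNM₁ r1)) (hNM₁ h)
  obtain ⟨s₁, hs₁⟩ : ∃ s : K, (s : M) = n := ⟨⟨n, hnK⟩, rfl⟩
  obtain ⟨s₂, hs₂⟩ : ∃ s : K, (s : M) = y * n * y⁻¹ :=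
    ⟨⟨y * n * y⁻¹, K.mul_mem (K.mul_mem hyK hnK) (K.inv_mem hyK)⟩, rfl⟩
  obtain ⟨s₃, hs₃⟩ : ∃ s : K, (s : M) = n * e₀ := ⟨⟨n * e₀, K.mul_mem hnK he₀K⟩, rfl⟩
  obtain ⟨f, hf, -⟩ := Cfsg.Agent.Lib.Helper47.exists_injective_hom_S4
    (G := ↥K ⧸ N.subgroupOf K) (s₁ : ↥K ⧸ N.subgroupOf K) s₂ s₃
    (by
      rw [pow_two, ← QuotientGroup.mk_mul]
      apply mkone
      rw [Subgroup.coe_mul, hs₁]; exact r1)
    (by
      rw [pow_two, ← QuotientGroup.mk_mul]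
      apply mkone
      rw [Subgroup.coe_mul, hs₂]; exact r2)
    (by
      rw [pow_two, ← QuotientGroup.mk_mul]
      apply mkone
      rw [Subgroup.coe_mul, hs₃]; exact r3)
    (by
      rw [pow_succ, pow_two, ← QuotientGroup.mk_mul, ← QuotientGroup.mk_mul, ← QuotientGroup.mk_mul]
      apply mkone
      simp only [Subgroup.coe_mul, hs₁, hs₂]; exact r12)
    (by
      rw [pow_succ, pow_two, ← QuotientGroup.mk_mul, ← QuotientGroup.mk_mul, ← QuotientGroup.mk_mul]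
      apply mkone
      simp only [Subgroup.coe_mul, hs₂, hs₃]; exact r23)
    (by
      rw [pow_two, ← QuotientGroup.mk_mul, ← QuotientGroup.mk_mul]
      apply mkone
      simp only [Subgroup.coe_mul, hs₁, hs₃]; exact r13)
    (by
      rw [← QuotientGroup.mk_mul]
      intro h
      rw [QuotientGroup.eq_one_iff] at h
      have h' := Subgroup.mem_subgroupOf.1 h
      rw [Subgroup.coe_mul, hs₁, hs₃] at h'
      exact rne h')
  exact involves_of_isSec_of_injective (isSec_section K N) f hf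

end main

end Cfsg.Agent.Lib.Helper56
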