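import Mathlib
import Cfsg.Agent.Lib.Helper56.Basic
import Cfsg.Agent.Lib.Helper56.S4Sec
import Cfsg.Agent.Lib.Helper52.Stab
import Cfsg.Agent.S0200

/-!
The transvection lemma: in an `S₄`-free group a `2`-element inducing a transvection on a normal
abelian `2`-subgroup `V` lies in `O₂` modulo `C(V)`.
-/

set_option autoImplicit false

namespace Cfsg.Agent.Lib.Helper56

universe u

section

variable {H : Type u} [Group H]

/-- `a` acts on `V` as a transvection with centre `u` (or trivially). -/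
def Tv (V : Subgroup H) (a u : H) : Prop :=
  u ∈ V ∧ u * u = 1 ∧ a * u * a⁻¹ = u ∧ ∀ v ∈ V, a * v * a⁻¹ = v ∨ a * v * a⁻¹ = u * v

theorem conj_mul' (a x y : H) : a * (x * y) * a⁻¹ = (a * x * a⁻¹) * (a * y * a⁻¹) := by group

variable {V : Subgroup H}

theorem Tv.conj [hn : V.Normal] {a u : H} (h : Tv V a u) (g : H) :
    Tv V (g * a * g⁻¹) (g * u * g⁻¹) := by
  obtain ⟨h1, h2, h3, h4⟩ := h
  refine ⟨hn.conj_mem u h1 g, ?_, ?_, ?_⟩
  · calc g * u * g⁻¹ * (g * u * g⁻¹) = g * (u * u) * g⁻¹ := by group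
      _ = 1 := by rw [h2]; group
  · calc g * a * g⁻¹ * (g * u * g⁻¹) * (g * a * g⁻¹)⁻¹ = g * (a * u * a⁻¹) * g⁻¹ := by group
      _ = g * u * g⁻¹ := by rw [h3]
  · intro v hv
    have hv' : g⁻¹ * v * g⁻¹⁻¹ ∈ V := hn.conj_mem v hv g⁻¹
    have e : g * a * g⁻¹ * v * (g * a * g⁻¹)⁻¹ = g * (a * (g⁻¹ * v * g⁻¹⁻¹) * a⁻¹) * g⁻¹ := by group
    rcases h4 _ hv' with h | h
    · left
      rw [e, h]; group
    · right
      rw [e, h]; group

theorem Tv.sq {a u : H} (h : Tv V a u) : ∀ v ∈ V, a * (a * v * a⁻¹) * a⁻¹ = v := by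
  obtain ⟨h1, h2, h3, h4⟩ := h
  intro v hv
  rcases h4 v hv with h | h
  · rw [h, h]
  · rw [h, conj_mul', h3, h, ← mul_assoc, h2, one_mul]

/-- index `≤ 2` of the centralizer gives a transvection. -/
theorem exists_tv [Finite H] [hn : V.Normal] (hab : ∀ a ∈ V, ∀ b ∈ V, a * b = b * a) (d : H)
    (hidx : (V ⊓ Subgroup.centralizer {d}).relIndex V ≤ 2) : ∃ u, Tv V d u := by
  by_cases hcen : ∀ v ∈ V, d * v * d⁻¹ = v
  · exact ⟨1, V.one_mem, one_mul 1, by group, fun v hv => Or.inl (hcen v hv)⟩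
  push Not at hcen
  obtain ⟨v₀, hv₀, hv₀d⟩ := hcen
  set C₁ := V ⊓ Subgroup.centralizer {d} with hC₁
  have memC₁ : ∀ v, v ∈ C₁ ↔ v ∈ V ∧ d * v * d⁻¹ = v := by
    intro v
    rw [hC₁, Subgroup.mem_inf, Subgroup.mem_centralizer_singleton_iff]
    constructor
    · rintro ⟨h1, h2⟩
      exact ⟨h1, by rw [← h2]; group⟩
    · rintro ⟨h1, h2⟩
      refine ⟨h1, ?_⟩
      calc v * d = (d * v * d⁻¹) * d := by rw [h2]
        _ = d * v := by group
  have hv₀C : v₀ ∉ C₁ := fun h => hv₀d ((memC₁ v₀).1 h).2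
  have h2 : C₁.relIndex V = 2 := by
    have h0 : C₁.relIndex V ≠ 0 := by
      unfold Subgroup.relIndex
      exact Subgroup.index_ne_zero_of_finite
    have h1 : C₁.relIndex V ≠ 1 := by
      intro h
      exact hv₀C (Subgroup.relIndex_eq_one.1 h hv₀)
    omega
  have key : ∀ v ∈ V, v ∉ C₁ → v * v₀⁻¹ ∈ C₁ := by
    intro v hv hvC
    have := Subgroup.mul_mem_iff_of_index_two (H := C₁.subgroupOf V) h2
      (a := ⟨v, hv⟩) (b := ⟨v₀⁻¹, V.inv_mem hv₀⟩)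
    simp only [Subgroup.mem_subgroupOf, Subgroup.coe_mul] at this
    rw [this]
    constructor
    · intro h; exact absurd h hvC
    · intro h; exact absurd ((Subgroup.inv_mem_iff C₁).1 h) hv₀C
  set u := d * v₀ * d⁻¹ * v₀⁻¹ with hu
  have hdv₀ : d * v₀ * d⁻¹ ∈ V := hn.conj_mem v₀ hv₀ d
  have huV : u ∈ V := V.mul_mem hdv₀ (V.inv_mem hv₀)
  have hu1 : u ≠ 1 := by
    intro h
    apply hv₀d
    calc d * v₀ * d⁻¹ = u * v₀ := by rw [hu]; group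
      _ = v₀ := by rw [h, one_mul]
  have h4 : ∀ v ∈ V, d * v * d⁻¹ = v ∨ d * v * d⁻¹ = u * v := by
    intro v hv
    by_cases hvC : v ∈ C₁
    · exact Or.inl ((memC₁ v).1 hvC).2
    · right
      have h5 := ((memC₁ _).1 (key v hv hvC)).2
      calc d * v * d⁻¹ = (d * (v * v₀⁻¹) * d⁻¹) * (d * v₀ * d⁻¹) := by group
        _ = (v * v₀⁻¹) * (d * v₀ * d⁻¹) := by rw [h5]
        _ = v * (v₀⁻¹ * (d * v₀ * d⁻¹)) := by group
        _ = v * ((d * v₀ * d⁻¹) * v₀⁻¹) := by rw [hab _ (V.inv_mem hv₀) _ hdv₀]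
        _ = v * u := by rw [hu]
        _ = u * v := hab _ hv _ huV
  refine ⟨u, huV, ?_, ?_, h4⟩
  · -- u * u = 1
    have e1 : d * v₀ * d⁻¹ = u * v₀ := by rw [hu]; group
    have e2 : d * (v₀ * v₀) * d⁻¹ = u * u * (v₀ * v₀) := by
      rw [conj_mul', e1]
      calc u * v₀ * (u * v₀) = u * (v₀ * u) * v₀ := by group
        _ = u * (u * v₀) * v₀ := by rw [hab _ hv₀ _ huV]
        _ = u * u * (v₀ * v₀) := by group
    rcases h4 _ (V.mul_mem hv₀ hv₀) with h | h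
    · rw [e2] at h
      exact mul_eq_right.1 h
    · rw [e2] at h
      have : u * u = u := mul_right_cancel h
      exact absurd (mul_eq_left.1 this) hu1
  · -- d u d⁻¹ = u
    have e1 : d * u * d⁻¹ = d * (d * v₀ * d⁻¹) * d⁻¹ * (d * v₀ * d⁻¹)⁻¹ := by rw [hu]; group
    rcases h4 _ hdv₀ with h | h
    · exfalso
      rw [h, mul_inv_cancel] at e1
      apply hu1
      calc u = d⁻¹ * (d * u * d⁻¹) * d := by group
        _ = 1 := by rw [e1]; group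
    · rw [e1, h]; group

/-- if `a₂` fixes the centre of `a₁` then a `2`-power of `a₁ a₂` centralizes `V`. -/
theorem Tv.pow_mem_centralizer [Finite H] [hn : V.Normal] (hV : IsPGroup 2 V) {a₁ a₂ u₁ u₂ : H}
    (h₁ : Tv V a₁ u₁) (h₂ : Tv V a₂ u₂) (hfix : a₂ * u₁ * a₂⁻¹ = u₁) :
    ∃ s : ℕ, (a₁ * a₂) ^ (2 ^ s) ∈ Subgroup.centralizer (V : Set H) := by
  have : Fact (Nat.Prime 2) := ⟨Nat.prime_two⟩
  obtain ⟨k, hk⟩ : ∃ k, k = a₁ * a₂ := ⟨_, rfl⟩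
  rw [← hk]
  have kconj : ∀ x, k * x * k⁻¹ = a₁ * (a₂ * x * a₂⁻¹) * a₁⁻¹ := by
    intro x; rw [hk]; group
  have ku₁ : k * u₁ * k⁻¹ = u₁ := by rw [kconj, hfix, h₁.2.2.1]
  have ku₂ : k * u₂ * k⁻¹ = a₁ * u₂ * a₁⁻¹ := by rw [kconj, h₂.2.2.1]
  set F : Subgroup H := V ⊓ Subgroup.centralizer {k * k} with hF
  have memF : ∀ v, v ∈ F ↔ v ∈ V ∧ k * (k * v * k⁻¹) * k⁻¹ = v := by
    intro v
    rw [hF, Subgroup.mem_inf, Subgroup.mem_centralizer_singleton_iff]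
    constructor
    · rintro ⟨h1, h2⟩
      refine ⟨h1, ?_⟩
      calc k * (k * v * k⁻¹) * k⁻¹ = (k * k * v) * (k * k)⁻¹ := by group
        _ = v := by rw [← h2]; group
    · rintro ⟨h1, h2⟩
      refine ⟨h1, ?_⟩
      calc v * (k * k) = (k * (k * v * k⁻¹) * k⁻¹) * (k * k) := by rw [h2]
        _ = k * k * v := by group
  have hu₁F : u₁ ∈ F := (memF u₁).2 ⟨h₁.1, by rw [ku₁, ku₁]⟩
  have hu₂F : u₂ ∈ F := by
    refine (memF u₂).2 ⟨h₂.1, ?_⟩
    rcases h₁.2.2.2 u₂ h₂.1 with h | h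
    · rw [ku₂, h, ku₂, h]
    · rw [ku₂, h, conj_mul', ku₁, ku₂, h, ← mul_assoc, h₁.2.1, one_mul]
  have ha₁u₂F : a₁ * u₂ * a₁⁻¹ ∈ F := by
    rcases h₁.2.2.2 u₂ h₂.1 with h | h
    · rw [h]; exact hu₂F
    · rw [h]; exact F.mul_mem hu₁F hu₂F
  have hθ : ∀ v ∈ V, k * v * k⁻¹ * v⁻¹ ∈ F := by
    intro v hv
    rw [kconj]
    rcases h₂.2.2.2 v hv with h | h
    · rw [h]
      rcases h₁.2.2.2 v hv with h' | h'
      · rw [h', mul_inv_cancel]; exact F.one_mem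
      · rw [h', mul_inv_cancel_right]; exact hu₁F
    · rw [h, conj_mul']
      rcases h₁.2.2.2 v hv with h' | h'
      · rw [h', mul_inv_cancel_right]; exact ha₁u₂F
      · rw [h', ← mul_assoc, mul_inv_cancel_right]; exact F.mul_mem ha₁u₂F hu₁F
  have hkF : ∀ f ∈ F, k * f * k⁻¹ ∈ F := by
    intro f hf
    obtain ⟨h1, h2⟩ := (memF f).1 hf
    exact (memF _).2 ⟨hn.conj_mem f h1 k, by rw [h2]⟩
  have hFV : F ≤ V := inf_le_left
  have h5 := Cfsg.Agent.Lib.Helper52.pow_centralizes (k * k) V F (2 ^ Nat.card H)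
    (by
      intro v hv
      have e : k * k * v * (k * k)⁻¹ * v⁻¹ = (k * (k * v * k⁻¹ * v⁻¹) * k⁻¹) * (k * v * k⁻¹ * v⁻¹) := by
        group
      rw [e]
      exact F.mul_mem (hkF _ (hθ v hv)) (hθ v hv))
    (by
      intro b hb
      have := ((memF b).1 hb).2
      calc k * k * b = (k * (k * b * k⁻¹) * k⁻¹) * (k * k) := by group
        _ = b * (k * k) := by rw [this])
    (fun b hb => Cfsg.Agent.Lib.Helper52.pow_card_eq_one_of_isPGroup hV b (hFV hb))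
  refine ⟨Nat.card H + 1, ?_⟩
  rw [Subgroup.mem_centralizer_iff]
  intro v hv
  have e : k ^ 2 ^ (Nat.card H + 1) = (k * k) ^ (2 ^ Nat.card H) := by
    rw [← pow_two, ← pow_mul, pow_succ, mul_comm]
  rw [e]
  exact (h5 v hv).symm

/-- the Klein four group generated by two commuting involutions. -/
def four (u₁ u₂ : H) (h11 : u₁ * u₁ = 1) (h22 : u₂ * u₂ = 1) (h21 : u₂ * u₁ = u₁ * u₂) :
    Subgroup H where
  carrier := {x | x = 1 ∨ x = u₁ ∨ x = u₂ ∨ x = u₁ * u₂}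
  one_mem' := Or.inl rfl
  mul_mem' := by
    have r1 : ∀ x, u₁ * (u₁ * x) = x := fun x => by rw [← mul_assoc, h11, one_mul]
    have r3 : ∀ x, u₂ * (u₁ * x) = u₁ * (u₂ * x) := fun x => by
      rw [← mul_assoc, h21, mul_assoc]
    rintro a b (rfl | rfl | rfl | rfl) (rfl | rfl | rfl | rfl) <;>
      simp only [Set.mem_ofPred_eq, mul_assoc, mul_one, one_mul, h11, h22, h21, r1, r3, true_or,
        or_true]
  inv_mem' := by
    have i1 : u₁⁻¹ = u₁ := inv_eq_of_mul_eq_one_left h11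
    have i2 : u₂⁻¹ = u₂ := inv_eq_of_mul_eq_one_left h22
    rintro a (rfl | rfl | rfl | rfl) <;>
      simp only [Set.mem_ofPred_eq, inv_one, mul_inv_rev, i1, i2, h21, true_or, or_true]

theorem mem_four {u₁ u₂ : H} {h11 : u₁ * u₁ = 1} {h22 : u₂ * u₂ = 1} {h21 : u₂ * u₁ = u₁ * u₂}
    {x : H} : x ∈ four u₁ u₂ h11 h22 h21 ↔ x = 1 ∨ x = u₁ ∨ x = u₂ ∨ x = u₁ * u₂ := Iff.rfl

/-- two transvections moving each other's centres generate `S₃` on a four-group: `S₄` is involved. -/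
theorem Tv.involves_S4 [Finite H] (hab : ∀ a ∈ V, ∀ b ∈ V, a * b = b * a)
    {a₁ a₂ u₁ u₂ : H} (h₁ : Tv V a₁ u₁) (h₂ : Tv V a₂ u₂) (hn1 : a₂ * u₁ * a₂⁻¹ ≠ u₁)
    (hn2 : a₁ * u₂ * a₁⁻¹ ≠ u₂) : Cfsg.Involves (Equiv.Perm (Fin 4)) H := by
  have h11 := h₁.2.1
  have h22 := h₂.2.1
  have h21 : u₂ * u₁ = u₁ * u₂ := hab _ h₂.1 _ h₁.1
  have A11 := h₁.2.2.1
  have A22 := h₂.2.2.1
  have A12 : a₁ * u₂ * a₁⁻¹ = u₁ * u₂ := (h₁.2.2.2 u₂ h₂.1).resolve_left hn2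
  have A21 : a₂ * u₁ * a₂⁻¹ = u₁ * u₂ := by
    rw [← h21]; exact (h₂.2.2.2 u₁ h₁.1).resolve_left hn1
  have r1 : ∀ x, u₁ * (u₁ * x) = x := fun x => by rw [← mul_assoc, h11, one_mul]
  have r2 : ∀ x, u₂ * (u₂ * x) = x := fun x => by rw [← mul_assoc, h22, one_mul]
  have r3 : ∀ x, u₂ * (u₁ * x) = u₁ * (u₂ * x) := fun x => by rw [← mul_assoc, h21, mul_assoc]
  have hu₁1 : u₁ ≠ 1 := by
    intro h
    apply hn1
    rw [h]; group
  obtain ⟨E, hE⟩ : ∃ E, E = four u₁ u₂ h11 h22 h21 := ⟨_, rfl⟩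
  have memE : ∀ x, x ∈ E ↔ x = 1 ∨ x = u₁ ∨ x = u₂ ∨ x = u₁ * u₂ := by
    intro x; rw [hE]; exact mem_four
  have hEV : E ≤ V := by
    intro x hx
    rcases (memE x).1 hx with rfl | rfl | rfl | rfl
    · exact V.one_mem
    · exact h₁.1
    · exact h₂.1
    · exact V.mul_mem h₁.1 h₂.1
  have A1p : a₁ * (u₁ * u₂) * a₁⁻¹ = u₂ := by rw [conj_mul', A11, A12, r1]
  have A2p : a₂ * (u₁ * u₂) * a₂⁻¹ = u₁ := by rw [conj_mul', A21, A22, mul_assoc, h22, mul_one]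
  have ha₁ : a₁ ∈ Subgroup.normalizer (E : Set H) := by
    apply mem_normalizer_of_map_le
    rintro _ ⟨x, hx, rfl⟩
    change a₁ * x * a₁⁻¹ ∈ E
    rw [memE]
    rcases (memE x).1 hx with rfl | rfl | rfl | rfl
    · left; group
    · right; left; exact A11
    · right; right; right; exact A12
    · right; right; left; exact A1p
  have ha₂ : a₂ ∈ Subgroup.normalizer (E : Set H) := by
    apply mem_normalizer_of_map_le
    rintro _ ⟨x, hx, rfl⟩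
    change a₂ * x * a₂⁻¹ ∈ E
    rw [memE]
    rcases (memE x).1 hx with rfl | rfl | rfl | rfl
    · left; group
    · right; right; right; exact A21
    · right; right; left; exact A22
    · right; left; exact A2p
  have F1 : ∀ x ∈ E, x * x = 1 := by
    intro x hx
    rcases (memE x).1 hx with rfl | rfl | rfl | rfl
    · exact one_mul 1
    · exact h11
    · exact h22
    · rw [mul_assoc, r3, h22, mul_one, h11]
  have kconj : ∀ x, a₁ * a₂ * x * (a₁ * a₂)⁻¹ = a₁ * (a₂ * x * a₂⁻¹) * a₁⁻¹ := by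
    intro x; group
  have k1 : a₁ * a₂ * u₁ * (a₁ * a₂)⁻¹ = u₂ := by rw [kconj, A21, A1p]
  have k2 : a₁ * a₂ * u₂ * (a₁ * a₂)⁻¹ = u₁ * u₂ := by rw [kconj, A22, A12]
  have k3 : a₁ * a₂ * (u₁ * u₂) * (a₁ * a₂)⁻¹ = u₁ := by rw [kconj, A2p, A11]
  have F4 : ∀ x ∈ E, x * (a₁ * a₂ * x * (a₁ * a₂)⁻¹) *
      (a₁ * a₂ * (a₁ * a₂ * x * (a₁ * a₂)⁻¹) * (a₁ * a₂)⁻¹) = 1 := by
    intro x hx
    rcases (memE x).1 hx with rfl | rfl | rfl | rfl
    · group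
    · rw [k1, k2, mul_assoc, r3, h22, mul_one, h11]
    · rw [k2, k3, mul_assoc, mul_assoc, h21, r1, h22]
    · rw [k3, k1, mul_assoc, mul_assoc, r3, h22, mul_one, h11]
  apply involves_of_subgroup (Subgroup.normalizer (E : Set H))
  have hnorm : (E.subgroupOf (Subgroup.normalizer (E : Set H))).Normal := Subgroup.normal_in_normalizer
  apply involves_S4_of_action (E := E.subgroupOf (Subgroup.normalizer (E : Set H)))
    (fun e he => Subtype.ext (F1 _ (Subgroup.mem_subgroupOf.1 he))) _ ⟨a₁, ha₁⟩ ⟨a₂, ha₂⟩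
    (fun e he => Subtype.ext (h₁.sq _ (hEV (Subgroup.mem_subgroupOf.1 he))))
    (fun e he => Subtype.ext (h₂.sq _ (hEV (Subgroup.mem_subgroupOf.1 he))))
    (fun e he => Subtype.ext (F4 _ (Subgroup.mem_subgroupOf.1 he)))
  intro hbot
  apply hu₁1
  have hu₁E : u₁ ∈ E := (memE u₁).2 (Or.inr (Or.inl rfl))
  have : (⟨u₁, Subgroup.le_normalizer hu₁E⟩ : Subgroup.normalizer (E : Set H)) ∈
      E.subgroupOf (Subgroup.normalizer (E : Set H)) := Subgroup.mem_subgroupOf.2 hu₁E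
  rw [hbot, Subgroup.mem_bot] at this
  exact congrArg Subtype.val this

/-- **Transvection lemma.** -/
theorem transvection_mem_normal [Finite H] (V : Subgroup H) [hn : V.Normal]
    (hab : ∀ a ∈ V, ∀ b ∈ V, a * b = b * a) (hV : IsPGroup 2 V) (d : H)
    (hd : ∃ k, d ^ (2 ^ k) = 1)
    (hidx : (V ⊓ Subgroup.centralizer {d}).relIndex V ≤ 2)
    (hfree : ¬ Cfsg.Involves (Equiv.Perm (Fin 4)) H) :
    ∃ N : Subgroup H, N.Normal ∧ d ∈ N ∧
      ∀ n ∈ N, ∃ k, n ^ (2 ^ k) ∈ Subgroup.centralizer (V : Set H) := by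
  have : Fact (Nat.Prime 2) := ⟨Nat.prime_two⟩
  obtain ⟨u, hu⟩ := exists_tv hab d hidx
  obtain ⟨C, hC⟩ : ∃ C, C = Subgroup.centralizer (V : Set H) := ⟨_, rfl⟩
  rw [← hC]
  have hCn : C.Normal := by rw [hC]; exact Subgroup.normal_centralizer
  by_cases hdC : d ∈ C
  · exact ⟨C, hCn, hdC, fun n hn' => ⟨0, by simpa using hn'⟩⟩
  by_contra hno
  push Not at hno
  have memC : ∀ g : H, g ∈ C ↔ ∀ v ∈ V, g * v * g⁻¹ = v := by
    intro g; rw [hC]; exact mem_centralizer_iff_conj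
  have hd2 : ((d : H ⧸ C)) * d = 1 := by
    rw [← QuotientGroup.mk_mul, QuotientGroup.eq_one_iff, memC]
    intro v hv
    calc d * d * v * (d * d)⁻¹ = d * (d * v * d⁻¹) * d⁻¹ := by group
      _ = v := hu.sq v hv
  have hd1 : ((d : H ⧸ C)) ≠ 1 := fun h => hdC ((QuotientGroup.eq_one_iff d).1 h)
  have hord : orderOf (d : H ⧸ C) = 2 := orderOf_eq_prime (by rw [pow_two]; exact hd2) hd1
  obtain ⟨hbar, hh1, hhodd, hhinv⟩ := Cfsg.Agent.S0200.result (d : H ⧸ C) hord (by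
    intro Nb hNb hNp hdN
    obtain ⟨n, hnN, hn2⟩ := hno (Nb.comap (QuotientGroup.mk' C)) (hNb.comap _) hdN
    obtain ⟨k, hk⟩ := hNp ⟨(n : H ⧸ C), hnN⟩
    apply hn2 k
    rw [← QuotientGroup.eq_one_iff, QuotientGroup.mk_pow]
    exact congrArg Subtype.val hk)
  obtain ⟨h, rfl⟩ := QuotientGroup.mk_surjective hbar
  have hu₂ := hu.conj h
  have hdi : ((d : H ⧸ C))⁻¹ = d := inv_eq_of_mul_eq_one_left hd2
  -- the class of `k = d * (h d h⁻¹)` is `h⁻²`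
  have hkq : ((d * (h * d * h⁻¹) : H) : H ⧸ C) = ((h : H ⧸ C) * h)⁻¹ := by
    rw [QuotientGroup.mk_mul, QuotientGroup.mk_mul, QuotientGroup.mk_mul, QuotientGroup.mk_inv]
    calc (d : H ⧸ C) * ((h : H ⧸ C) * d * (h : H ⧸ C)⁻¹)
        = ((d : H ⧸ C) * h * (d : H ⧸ C)⁻¹) * ((d : H ⧸ C) * d) * (h : H ⧸ C)⁻¹ := by group
      _ = ((h : H ⧸ C) * h)⁻¹ := by rw [hhinv, hd2]; group
  have hcontra : ∀ s : ℕ, (d * (h * d * h⁻¹)) ^ (2 ^ s) ∉ C := by
    intro s hs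
    rw [← QuotientGroup.eq_one_iff, QuotientGroup.mk_pow, hkq, inv_pow, inv_eq_one, ← pow_two,
      ← pow_mul, ← pow_succ'] at hs
    have h3 := orderOf_dvd_of_pow_eq_one hs
    have h4 : (orderOf (h : H ⧸ C)).Coprime (2 ^ (s + 1)) :=
      Nat.Coprime.pow_right _ hhodd.coprime_two_right
    have h5 := Nat.Coprime.eq_one_of_dvd h4 h3
    exact hh1 (orderOf_eq_one_iff.1 h5)
  by_cases c1 : (h * d * h⁻¹) * u * (h * d * h⁻¹)⁻¹ = u
  · obtain ⟨s, hs⟩ := hu.pow_mem_centralizer hV hu₂ c1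
    rw [← hC] at hs
    exact hcontra s hs
  by_cases c2 : d * (h * u * h⁻¹) * d⁻¹ = h * u * h⁻¹
  · obtain ⟨s, hs⟩ := hu₂.pow_mem_centralizer hV hu c2
    rw [← hC] at hs
    apply hcontra s
    have e : (d * (h * d * h⁻¹)) ^ (2 ^ s) = d * ((h * d * h⁻¹) * d) ^ (2 ^ s) * d⁻¹ := by
      rw [← conj_pow]; group
    rw [e]
    exact hCn.conj_mem _ hs d
  exact hfree (hu.involves_S4 hab hu₂ c1 c2)

end

end Cfsg.Agent.Lib.Helper56
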