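import Cfsg.Agent.Lib.Helper39.BG11Defs
import Cfsg.Agent.S1415

/-!
B-G S1417 ladder, rung 8.
-/

set_option autoImplicit false

namespace Cfsg.Agent.Lib.Helper56.BG11

open Subgroup Cfsg.Agent.Lib.Helper30 Cfsg.Agent.Lib.Helper39.BG11

universe u

variable {G : Type u} [Group G] [Finite G] {M A A₀ : Subgroup G} {p : ℕ} [Fact p.Prime]

/-- In a finite cyclic group a subgroup is the set of solutions of `x ^ card = 1`. -/
theorem mem_iff_pow_card_of_cyclic {C : Type*} [Group C] [Finite C] [IsCyclic C]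
    (L : Subgroup C) (x : C) : x ∈ L ↔ x ^ Nat.card L = 1 := by
  classical
  have : Fintype C := Fintype.ofFinite C
  have key : (L : Set C) = {x : C | x ^ Nat.card L = 1} := by
    apply Set.eq_of_subset_of_ncard_le _ _ (Set.toFinite _)
    · intro x hx
      have : (⟨x, hx⟩ : L) ^ Nat.card L = 1 := pow_card_eq_one'
      exact congrArg Subtype.val this
    · have h1 := IsCyclic.card_pow_eq_one_le (α := C) (n := Nat.card L) Nat.card_pos
      have h2 : ({x : C | x ^ Nat.card L = 1} : Set C).ncard =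
          (Finset.univ.filter fun a : C => a ^ Nat.card L = 1).card := by
        rw [← Set.ncard_coe_finset]
        congr 1
        ext x
        simp
      rw [h2]
      exact h1
  have := Set.ext_iff.mp key x
  exact this

/-- the normalizer of a cyclic subgroup normalizes all its subgroups. -/
theorem normalizer_le_normalizer_of_cyclic {C R : Subgroup G} (hC : IsCyclic C) (hRC : R ≤ C) :
    normalizer (C : Set G) ≤ normalizer (R : Set G) := by
  intro g hg
  apply Cfsg.Agent.Lib.Helper28.BG12.mem_normalizer_of_cj_le'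
  intro y hy
  rw [mem_cj] at hy
  -- `y = g x g⁻¹` with `x = g⁻¹ y g ∈ R`
  have hyC : y ∈ C := by
    have h1 := (mem_normalizer_iff.mp hg (g⁻¹ * y * g)).mp (hRC hy)
    have h2 : g * (g⁻¹ * y * g) * g⁻¹ = y := by group
    rwa [h2] at h1
  have hx : (⟨g⁻¹ * y * g, hRC hy⟩ : C) ∈ R.subgroupOf C := mem_subgroupOf.mpr hy
  rw [mem_iff_pow_card_of_cyclic] at hx
  have hx' : (g⁻¹ * y * g) ^ Nat.card (R.subgroupOf C) = 1 := by
    simpa using congrArg Subtype.val hx
  have hy' : y ^ Nat.card (R.subgroupOf C) = 1 := by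
    have h2 : y = g * (g⁻¹ * y * g) * g⁻¹ := by group
    rw [h2, conj_pow, hx']; group
  have : (⟨y, hyC⟩ : C) ∈ R.subgroupOf C := by
    rw [mem_iff_pow_card_of_cyclic]
    apply Subtype.ext
    simpa using hy'
  exact mem_subgroupOf.mp this

theorem s8 (hG : Cfsg.IsMinSimpleOddOrder G) : S8 G := by
  intro M r _ R hM hr hRM hR hRc
  by_contra hR1
  have hrP : r.Prime := Fact.out
  obtain ⟨-, hrs, hrd, hrk⟩ := hr
  have hr3 : r ∈ Cfsg.tau3 M := ⟨hrP, hrs, hrd, hrk⟩
  obtain ⟨E, hE, hRE⟩ := Cfsg.Agent.Lib.Helper28.BG12.exists_compl_ge hG hM hRM (fun q hq hqd => by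
    rw [Cfsg.Agent.Lib.Helper28.BG12.prime_dvd_card_isPGroup hR hq hqd]; exact hrs)
  have hEs : Group.IsSolvable E := isSolvable_of_le hE.1 (solvable_of_ne_top hG hM.1)
  obtain ⟨E₃, hE₃, -, hRE₃⟩ := Cfsg.Agent.Lib.Helper66.exists_invariant_isPiHallOf_ge
    (π := Cfsg.tau3 M) (A := ⊥) (G := E) (U := R) bot_le (by simp) hEs hRE bot_le (fun q hq hqd => by
      rw [Cfsg.Agent.Lib.Helper28.BG12.prime_dvd_card_isPGroup hR hq hqd]; exact hr3)
  obtain ⟨hcyc, -, hEN⟩ := (Cfsg.Agent.S1415.result hG M hM E hE).2.2 E₃ hE₃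
  have hER : E ≤ normalizer (R : Set G) := hEN.trans (normalizer_le_normalizer_of_cyclic hcyc hRE₃)
  have hSR : Cfsg.sigmaCore M ≤ normalizer (R : Set G) := by
    have h1 : Cfsg.sigmaCore M ≤ centralizer (R : Set G) := by
      intro s hs
      rw [mem_centralizer_iff]
      intro x hx
      exact ((mem_centralizer_iff.mp (hRc hx)) s hs).symm
    exact h1.trans (centralizer_le_normalizer' R)
  have hMR : M ≤ normalizer (R : Set G) := by
    intro m hm
    obtain ⟨a, ha, b, hb, rfl⟩ := hE.2.2.2 m hm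
    exact mul_mem (hER ha) (hSR hb)
  have hRtop : R ≠ ⊤ := fun h => hM.1 (top_le_iff.mp (h ▸ hRM))
  have hNM : normalizer (R : Set G) = M := by
    rcases eq_or_lt_of_le hMR with h | h
    · exact h.symm
    · exact absurd (hM.2 _ h) (normalizer_ne_top hG hR1 hRtop)
  obtain ⟨T, hT, hRT⟩ := exists_isSylowIn_ge hRM hR
  have hT1 : T ≠ ⊥ := fun h => hR1 (le_bot_iff.mp (h ▸ hRT))
  have hTc : IsCyclic T := by
    by_contra hnc
    obtain ⟨B, hBT, hB, hBc⟩ := Cfsg.Agent.Lib.Helper28.BG12.exists_ea_sq_of_not_cyclic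
      (Cfsg.Agent.Lib.Helper28.BG12.ne_two_of_isPGroup hG hR hR1) hT.isPGroup hnc
    have hBM : B ≤ M := hBT.trans hT.le
    have h1 := hrk (B.subgroupOf M) (by
      have := hB.1
      exact ⟨⟨fun a b => by
        have h2 := this.is_comm.comm ⟨a.1.1, a.2⟩ ⟨b.1.1, b.2⟩
        apply Subtype.ext; apply Subtype.ext
        simpa using congrArg Subtype.val h2⟩⟩) (fun a ha => by
        apply Subtype.ext
        simpa using hB.2 a.1 ha)
    rw [card_subgroupOf hBM, hBc, pow_one] at h1
    have := hrP.one_lt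
    nlinarith
  exact hrs (Cfsg.Agent.Lib.Helper68.mem_sigma_of_normalizer_le hT hT1
    ((normalizer_le_normalizer_of_cyclic hTc hRT).trans hNM.le))

end Cfsg.Agent.Lib.Helper56.BG11
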