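import Cfsg.Agent.Lib.Helper39.BG11Defs
import Cfsg.Agent.S1414

/-!
B-G S1417 ladder, rung 9.
-/

set_option autoImplicit false

namespace Cfsg.Agent.Lib.Helper56.BG11

open Subgroup Cfsg.Agent.Lib.Helper30 Cfsg.Agent.Lib.Helper39.BG11

universe u

variable {G : Type u} [Group G] [Finite G] {M A A₀ : Subgroup G} {p : ℕ} [Fact p.Prime]

/-- an element killed by two coprime exponents modulo a subgroup lies in it. -/
theorem mem_of_pow_mem_of_coprime {S : Type*} [Group S] (N : Subgroup S) {x : S} {a b : ℕ}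
    (hab : Nat.Coprime a b) (ha : x ^ a ∈ N) (hb : x ^ b ∈ N) : x ∈ N := by
  have h := Nat.gcd_eq_gcd_ab a b
  rw [hab] at h
  have h2 : x = (x ^ a) ^ (Nat.gcdA a b) * (x ^ b) ^ (Nat.gcdB a b) := by
    rw [← zpow_natCast x a, ← zpow_natCast x b, ← zpow_mul, ← zpow_mul, ← zpow_add, ← h]
    simp
  rw [h2]
  exact N.mul_mem (N.zpow_mem ha _) (N.zpow_mem hb _)

theorem s9 (hG : Cfsg.IsMinSimpleOddOrder G) : S9 G := by
  intro L p r _ _ X Y hL hp hr hrp hid hXL hYL hX hY hXY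
  have hpP : p.Prime := Fact.out
  have hrP : r.Prime := Fact.out
  have hrb : r ∉ Cfsg.beta L := fun h => hid h.2
  obtain ⟨P, N, hN, hc⟩ := ((Cfsg.Agent.S1414.result hG L hL).2.2.2.2 r hrP hr.2.1 hrb).2.1
  have hXS := Cfsg.Agent.Lib.Helper28.BG12.isPGroup_le_sigmaCore hG hL hp hXL hX
  have hYS := Cfsg.Agent.Lib.Helper28.BG12.isPGroup_le_sigmaCore hG hL hr hYL hY
  -- index of `N` is a power of `r`, order of `N` prime to `r`
  have hidx : N.index = Nat.card (P : Subgroup (Cfsg.sigmaCore L)) := hc.symm.index_eq_card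
  obtain ⟨k, hk⟩ := IsPGroup.iff_card.mp P.2
  have hcard : Nat.card N = (P : Subgroup (Cfsg.sigmaCore L)).index := (hc.index_eq_card).symm
  have hcop : Nat.Coprime (Nat.card N) r := by
    rw [hcard]
    exact ((Nat.Prime.coprime_iff_not_dvd hrP).mpr P.not_dvd_index).symm
  intro y hy
  rw [mem_centralizer_iff]
  intro x hx
  have hx : x ∈ X := hx
  obtain ⟨j, hj⟩ := (IsPGroup.iff_orderOf.mp hX) ⟨x, hx⟩
  have hxj : x ^ (p ^ j) = 1 := by
    have := pow_orderOf_eq_one (⟨x, hx⟩ : X)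
    rw [hj] at this
    simpa using congrArg Subtype.val this
  have hxN : (⟨x, hXS hx⟩ : Cfsg.sigmaCore L) ∈ N := by
    apply mem_of_pow_mem_of_coprime N (a := p ^ j) (b := r ^ k)
    · exact Nat.Coprime.pow _ _ ((Nat.coprime_primes hpP hrP).mpr (Ne.symm hrp))
    · have : (⟨x, hXS hx⟩ : Cfsg.sigmaCore L) ^ (p ^ j) = 1 := by
        apply Subtype.ext; simpa using hxj
      rw [this]; exact N.one_mem
    · rw [← hk, ← hidx]
      exact N.pow_index_mem _
  -- the commutator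
  have hcY : y * (x * y⁻¹ * x⁻¹) ∈ Y := by
    apply Y.mul_mem hy
    have := (mem_normalizer_iff.mp (hXY hx) y⁻¹).mp (Y.inv_mem hy)
    exact this
  obtain ⟨m, hm⟩ := (IsPGroup.iff_orderOf.mp hY) ⟨_, hcY⟩
  have hcm : (y * (x * y⁻¹ * x⁻¹)) ^ (r ^ m) = 1 := by
    have := pow_orderOf_eq_one (⟨_, hcY⟩ : Y)
    rw [hm] at this
    simpa using congrArg Subtype.val this
  have hcN : ((⟨y, hYS hy⟩ : Cfsg.sigmaCore L) * ⟨x, hXS hx⟩ * (⟨y, hYS hy⟩ : Cfsg.sigmaCore L)⁻¹)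
      * (⟨x, hXS hx⟩ : Cfsg.sigmaCore L)⁻¹ ∈ N :=
    N.mul_mem (hN.conj_mem _ hxN _) (N.inv_mem hxN)
  have hcN1 : (y * (x * y⁻¹ * x⁻¹)) ^ (Nat.card N) = 1 := by
    have := pow_card_eq_one' (G := N) (x := ⟨_, hcN⟩)
    have h2 := congrArg (fun z : N => ((z : Cfsg.sigmaCore L) : G)) this
    simp only [SubmonoidClass.coe_pow, Subgroup.coe_mul, Subgroup.coe_inv, OneMemClass.coe_one] at h2
    rw [← h2]
    congr 1
    group
  have hone : y * (x * y⁻¹ * x⁻¹) ∈ (⊥ : Subgroup G) := by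
    apply mem_of_pow_mem_of_coprime ⊥ (a := Nat.card N) (b := r ^ m)
    · exact Nat.Coprime.pow_right _ hcop
    · rw [hcN1]; exact one_mem _
    · rw [hcm]; exact one_mem _
  rw [mem_bot] at hone
  -- goal : x * y = y * x
  have : y * x * y⁻¹ * x⁻¹ = 1 := by rw [← hone]; group
  have h3 : y * x = x * y := by
    have := congrArg (fun z => z * x * y) this
    simpa [mul_assoc] using this
  exact h3.symm

end Cfsg.Agent.Lib.Helper56.BG11
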