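import Cfsg.Prelude.Def_BaumannBlocks
import Cfsg.Agent.Lib.Helper53.JCBasic
import Cfsg.Agent.Lib.Helper55.SupNormal
import Cfsg.Agent.Lib.Helper55.Isolated

set_option autoImplicit false

/-! Basic API for the Baumann subgroup `B(T)` and for `B(T)`-blocks. -/

namespace Cfsg.Agent.Lib.Helper56.Bau

open Cfsg Subgroup
open Cfsg.Agent.Lib.Helper53 Cfsg.Agent.Lib.Helper53.JC
open Cfsg.Agent.Lib.Helper15.ZJ (AE PE)
open scoped commutatorElement

variable {G : Type*} [Group G]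

theorem J_cj (p : ℕ) (g : G) (T : Subgroup G) :
    cjj g (thompsonSubgroupOf p T) = thompsonSubgroupOf p (cjj g T) :=
  Helper55.cj_thompsonSubgroupOf p g T

theorem J_le (p : ℕ) (T : Subgroup G) : thompsonSubgroupOf p T ≤ T :=
  Helper55.thompsonSubgroupOf_le p T

theorem le_J {p : ℕ} {T A : Subgroup G} (hA : A ∈ AE p T) : A ≤ thompsonSubgroupOf p T := by
  rw [Helper15.ZJ.thompsonSubgroupOf_eq]; exact le_sSup hA

theorem J_le_iff {p : ℕ} {T X : Subgroup G} :
    thompsonSubgroupOf p T ≤ X ↔ ∀ A ∈ AE p T, A ≤ X := by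
  rw [Helper15.ZJ.thompsonSubgroupOf_eq, sSup_le_iff]

theorem centerThompsonOf_cj (p : ℕ) (g : G) (T : Subgroup G) :
    cjj g (centerThompsonOf p T) = centerThompsonOf p (cjj g T) := by
  unfold centerThompsonOf
  rw [← J_cj]
  exact Helper14.map_inf_centralizer_of_injective _ _ (MulAut.conj g).injective

theorem baumann_cj (p : ℕ) (g : G) (T : Subgroup G) :
    cjj g (baumannSubgroupOf p T) = baumannSubgroupOf p (cjj g T) := by
  unfold baumannSubgroupOf
  rw [← centerThompsonOf_cj]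
  show (_ ⊓ _ : Subgroup G).map _ = _
  rw [cj_inf, ← centralizer_cj]
  congr 3
  exact Helper14.map_omegaOne_of_injective p _ _ (MulAut.conj g).injective

theorem baumann_le (p : ℕ) (T : Subgroup G) : baumannSubgroupOf p T ≤ T := inf_le_left

theorem J_le_baumann (p : ℕ) (T : Subgroup G) :
    thompsonSubgroupOf p T ≤ baumannSubgroupOf p T := by
  refine le_inf (J_le p T) ?_
  rw [le_centralizer_iff]
  exact (Helper14.omegaOne_le p _).trans inf_le_right

theorem normalizer_le_normalizer_baumann (p : ℕ) (T : Subgroup G) :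
    normalizer (T : Set G) ≤ normalizer (baumannSubgroupOf p T : Set G) := by
  intro g hg
  rw [← cj_eq_self_iff]
  show cjj g _ = _
  rw [baumann_cj]
  congr 1
  exact cj_eq_self_iff.2 hg

theorem J_eq_of_cj [Finite G] {p : ℕ} {T : Subgroup G} {g : G}
    (h : thompsonSubgroupOf p T ≤ cjj g T) :
    thompsonSubgroupOf p (cjj g T) = thompsonSubgroupOf p T := by
  have h1 : thompsonSubgroupOf p T ≤ thompsonSubgroupOf p (cjj g T) := by
    rw [J_le_iff]
    intro A hA
    apply le_J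
    have h2 := AE_cj g hA
    refine ⟨(le_J hA).trans h, hA.2.1, fun B hB hB2 => ?_⟩
    have := h2.2.2 B hB hB2
    rwa [show Nat.card (cjj g A) = Nat.card A from card_cj A g] at this
  refine (Subgroup.eq_of_le_of_card_ge h1 ?_).symm
  rw [← J_cj]
  exact (card_cj _ g).le

theorem baumann_eq_of_cj [Finite G] {p : ℕ} {T : Subgroup G} {g : G}
    (h : baumannSubgroupOf p T ≤ cjj g T) :
    baumannSubgroupOf p (cjj g T) = baumannSubgroupOf p T := by
  have hJ := J_eq_of_cj ((J_le_baumann p T).trans h)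
  have h1 : baumannSubgroupOf p T ≤ baumannSubgroupOf p (cjj g T) := by
    refine le_inf h ?_
    unfold centerThompsonOf
    rw [hJ]
    exact inf_le_right
  refine (Subgroup.eq_of_le_of_card_ge h1 ?_).symm
  rw [← baumann_cj]
  exact (card_cj _ g).le

/-- a `p`-subgroup containing `B(T)`, `T` a Sylow `p`-subgroup, normalizes `B(T)`. -/
theorem le_normalizer_baumann_of_isPGroup [Finite G] {p : ℕ} [Fact p.Prime] (T : Sylow p G)
    {P : Subgroup G} (hP : IsPGroup p P) (h : baumannSubgroupOf p (T : Subgroup G) ≤ P) :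
    P ≤ normalizer (baumannSubgroupOf p (T : Subgroup G) : Set G) := by
  obtain ⟨T', hT', hPT'⟩ := exists_isSyl_ge (le_top : P ≤ ⊤) hP
  obtain ⟨g, -, hg⟩ := (isSyl_top_of_sylow T).exists_conj hT'
  have h1 : baumannSubgroupOf p (cjj g (T : Subgroup G)) = baumannSubgroupOf p (T : Subgroup G) :=
    baumann_eq_of_cj (by rw [← show T' = cjj g (T : Subgroup G) from hg]; exact h.trans hPT')
  rw [← h1, ← show T' = cjj g (T : Subgroup G) from hg]
  exact hPT'.trans (le_normalizer.trans (normalizer_le_normalizer_baumann p T'))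

/-- the argument of S2941 for an arbitrary prime. -/
theorem le_normalizer_of_sup_le {p : ℕ} {K J Q : Subgroup G}
    (hgen : Subgroup.closure {g : G | g ∈ K ∧ (orderOf g).Coprime p} = K)
    (hcomm : ⁅K, J⁆ = K) (hJ2 : IsPGroup p ↥J)
    (hQ1 : K ⊔ J ≤ Subgroup.normalizer (Q : Set G)) (hQ2 : Q ≤ Subgroup.normalizer (J : Set G)) :
    Q ≤ Subgroup.normalizer (K : Set G) := by
  have hJK : J ≤ Subgroup.normalizer (K : Set G) :=
    Helper55.le_normalizer_of_commutator_le hcomm.le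
  have hKQ : ∀ k ∈ K, ∀ q ∈ Q, k * q * k⁻¹ ∈ Q :=
    Subgroup.le_normalizer_iff.1 (le_sup_left.trans hQ1)
  have hQJ : ∀ q ∈ Q, ∀ j ∈ J, q * j * q⁻¹ ∈ J := Subgroup.le_normalizer_iff.1 hQ2
  have step2 : ∀ q ∈ Q, K ≤ (K ⊔ J).comap (MulAut.conj q).toMonoidHom := by
    intro q hq
    conv_lhs => rw [← hcomm]
    rw [Subgroup.commutator_le]
    intro k hk j hj
    show q * ⁅k, j⁆ * q⁻¹ ∈ K ⊔ J
    have hq' : k⁻¹ * q * k * q⁻¹ ∈ Q := by
      have := hKQ k⁻¹ (K.inv_mem hk) q hq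
      exact Q.mul_mem (by simpa using this) (Q.inv_mem hq)
    have hj' : q * j * q⁻¹ ∈ J := hQJ q hq j hj
    have hj'' : (k⁻¹ * q * k * q⁻¹) * (q * j * q⁻¹) * (k⁻¹ * q * k * q⁻¹)⁻¹ ∈ J := hQJ _ hq' _ hj'
    have h1 : ⁅k, (k⁻¹ * q * k * q⁻¹) * (q * j * q⁻¹) * (k⁻¹ * q * k * q⁻¹)⁻¹⁆ ∈ K := by
      rw [← hcomm]
      exact Subgroup.commutator_mem_commutator hk hj''
    have h2 : q * ⁅k, j⁆ * q⁻¹ = ⁅k, (k⁻¹ * q * k * q⁻¹) * (q * j * q⁻¹) * (k⁻¹ * q * k * q⁻¹)⁻¹⁆ *
        (((k⁻¹ * q * k * q⁻¹) * (q * j * q⁻¹) * (k⁻¹ * q * k * q⁻¹)⁻¹) * (q * j * q⁻¹)⁻¹) := by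
      simp only [commutatorElement_def]
      group
    rw [h2]
    exact Subgroup.mul_mem_sup h1 (J.mul_mem hj'' (J.inv_mem hj'))
  have hnorm : Q ≤ Subgroup.normalizer
      ((Subgroup.closure {g : G | g ∈ K ∧ (orderOf g).Coprime p} : Subgroup G) : Set G) := by
    rw [Subgroup.le_normalizer_closure_iff]
    intro q hq g hg
    apply Subgroup.subset_closure
    have h1 : q * g * q⁻¹ ∈ K ⊔ J := step2 q hq hg.1
    have h2 : (orderOf (q * g * q⁻¹)).Coprime p := by rw [Helper55.orderOf_conj']; exact hg.2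
    exact ⟨Helper55.mem_of_mem_sup_of_coprime hJK hJ2 h1 h2, h2⟩
  rw [hgen] at hnorm
  exact hnorm

theorem pResidualOf_eq_closure (p : ℕ) (E : Subgroup G) :
    pResidualOf p E = Subgroup.closure {g : G | g ∈ E ∧ (orderOf g).Coprime p} :=
  pRes_eq_closure p E

/-- S2983. -/
theorem block_normalized [Finite G] {p : ℕ} [Fact p.Prime] (T : Sylow p G) (E : Subgroup G)
    (hE1 : pResidualOf p E = E) (hE2 : ⁅E, baumannSubgroupOf p (T : Subgroup G)⁆ = E)
    (Q : Subgroup G) (hQ : IsPGroup p ↥Q)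
    (hBQ : baumannSubgroupOf p (T : Subgroup G) ≤ Subgroup.normalizer (Q : Set G))
    (hEQ : E ≤ Subgroup.normalizer (Q : Set G)) : Q ≤ Subgroup.normalizer (E : Set G) := by
  have hBp : IsPGroup p (baumannSubgroupOf p (T : Subgroup G)) :=
    T.isPGroup'.to_le (baumann_le p _)
  have hP : IsPGroup p (baumannSubgroupOf p (T : Subgroup G) ⊔ Q : Subgroup G) :=
    hBp.to_sup_of_normal_right' hQ hBQ
  have h1 := le_normalizer_baumann_of_isPGroup T hP le_sup_left
  exact le_normalizer_of_sup_le (by rw [← pResidualOf_eq_closure, hE1]) hE2 hBp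
    (sup_le hEQ hBQ) (le_sup_right.trans h1)

end Cfsg.Agent.Lib.Helper56.Bau
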