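import Mathlib
import Cfsg.Agent.Lib.Helper56.Basic

set_option autoImplicit false
open scoped Pointwise

namespace Cfsg.Agent.Lib.Helper56

variable {G : Type*} [Group G]

theorem centralizer_sup (H K : Subgroup G) :
    Subgroup.centralizer ((H ⊔ K : Subgroup G) : Set G) =
      Subgroup.centralizer (H : Set G) ⊓ Subgroup.centralizer (K : Set G) := by
  apply le_antisymm
  · exact le_inf (Subgroup.centralizer_le (SetLike.coe_subset_coe.mpr le_sup_left))
      (Subgroup.centralizer_le (SetLike.coe_subset_coe.mpr le_sup_right))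
  · rw [Subgroup.le_centralizer_iff]
    apply sup_le
    · rw [Subgroup.le_centralizer_iff]; exact inf_le_left
    · rw [Subgroup.le_centralizer_iff]; exact inf_le_right

theorem centralizer_anti {H K : Subgroup G} (h : H ≤ K) :
    Subgroup.centralizer (K : Set G) ≤ Subgroup.centralizer (H : Set G) :=
  Subgroup.centralizer_le (SetLike.coe_subset_coe.mpr h)

theorem sup_centralizer_le_centralizer_inf (H K : Subgroup G) :
    Subgroup.centralizer (H : Set G) ⊔ Subgroup.centralizer (K : Set G) ≤
      Subgroup.centralizer ((H ⊓ K : Subgroup G) : Set G) :=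
  sup_le (centralizer_anti inf_le_left) (centralizer_anti inf_le_right)

theorem le_centralizer_centralizer (H : Subgroup G) :
    H ≤ Subgroup.centralizer ((Subgroup.centralizer (H : Set G) : Subgroup G) : Set G) := by
  rw [Subgroup.le_centralizer_iff]

theorem map_conj_centralizer (H : Subgroup G) (g : G) :
    (Subgroup.centralizer (H : Set G)).map (MulAut.conj g).toMonoidHom =
      Subgroup.centralizer ((H.map (MulAut.conj g).toMonoidHom : Subgroup G) : Set G) := by
  ext x
  constructor
  · rintro ⟨c, hc, rfl⟩
    rw [Subgroup.mem_centralizer_iff]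
    rintro _ ⟨h, hh, rfl⟩
    have := (Subgroup.mem_centralizer_iff.mp hc) h hh
    simp only [MulEquiv.coe_toMonoidHom, MulAut.conj_apply]
    calc g * h * g⁻¹ * (g * c * g⁻¹) = g * (h * c) * g⁻¹ := by group
      _ = g * (c * h) * g⁻¹ := by rw [this]
      _ = _ := by group
  · intro hx
    refine ⟨g⁻¹ * x * g, ?_, by simp [mul_assoc]⟩
    rw [SetLike.mem_coe, Subgroup.mem_centralizer_iff]
    intro h hh
    have := (Subgroup.mem_centralizer_iff.mp hx) (g * h * g⁻¹) ⟨h, hh, rfl⟩
    calc h * (g⁻¹ * x * g) = g⁻¹ * (g * h * g⁻¹ * x) * g := by group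
      _ = g⁻¹ * (x * (g * h * g⁻¹)) * g := by rw [this]
      _ = _ := by group

theorem map_conj_eq_of_mem_normalizer {H : Subgroup G} {g : G}
    (hg : g ∈ Subgroup.normalizer (H : Set G)) : H.map (MulAut.conj g).toMonoidHom = H :=
  Subgroup.mem_normalizer_iff_map_conj_eq.mp hg

theorem map_conj_inf (H K : Subgroup G) (g : G) :
    (H ⊓ K).map (MulAut.conj g).toMonoidHom =
      H.map (MulAut.conj g).toMonoidHom ⊓ K.map (MulAut.conj g).toMonoidHom :=
  Subgroup.map_inf _ _ _ (MulAut.conj g).injective

theorem normalizer_le_normalizer_centralizer (H : Subgroup G) :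
    Subgroup.normalizer (H : Set G) ≤
      Subgroup.normalizer ((Subgroup.centralizer (H : Set G) : Subgroup G) : Set G) := by
  intro g hg
  rw [Subgroup.mem_normalizer_iff_map_conj_eq]
  have := map_conj_centralizer H g
  rw [map_conj_eq_of_mem_normalizer hg] at this
  exact this

end Cfsg.Agent.Lib.Helper56
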