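import Mathlib
import Cfsg.Prelude.Def_BaumannBlocks
import Cfsg.Agent.Lib.Helper56.ChermakDelgado

set_option autoImplicit false
open scoped Pointwise

namespace Cfsg.Agent.Lib.Helper56

variable {G : Type*} [Group G]

theorem map_center_subtype (H : Subgroup G) :
    (Subgroup.center ↥H).map H.subtype = H ⊓ Subgroup.centralizer (H : Set G) := by
  ext x
  constructor
  · rintro ⟨y, hy, rfl⟩
    refine ⟨y.2, ?_⟩
    show H.subtype y ∈ Subgroup.centralizer (H : Set G)
    rw [Subgroup.mem_centralizer_iff]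
    intro h hh
    have := (Subgroup.mem_center_iff.mp hy) ⟨h, hh⟩
    exact congrArg Subtype.val this
  · rintro ⟨hx, hc⟩
    refine ⟨⟨x, hx⟩, ?_, rfl⟩
    rw [SetLike.mem_coe, Subgroup.mem_center_iff]
    intro h
    apply Subtype.ext
    exact (Subgroup.mem_centralizer_iff.mp hc) h h.2

theorem card_center_eq (H : Subgroup G) :
    Nat.card (Subgroup.center ↥H) = Nat.card (H ⊓ Subgroup.centralizer (H : Set G) : Subgroup G) := by
  rw [← map_center_subtype, Subgroup.card_map_of_injective H.subtype_injective]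

/-- the "central" measure -/
noncomputable def clm (H : Subgroup G) : ℕ :=
  Nat.card H * Nat.card (Subgroup.center ↥H)

theorem clm_eq (H : Subgroup G) :
    clm H = Nat.card H * Nat.card (H ⊓ Subgroup.centralizer (H : Set G) : Subgroup G) := by
  unfold clm; rw [card_center_eq]

theorem clm_le_cdm [Finite G] (H : Subgroup G) : clm H ≤ cdm H := by
  rw [clm_eq]; unfold cdm
  exact Nat.mul_le_mul_left _ (Subgroup.card_le_of_le inf_le_right)

theorem clm_set_bdd [Finite G] :
    BddAbove {k : ℕ | ∃ R : Subgroup G, Nat.card ↥R * Nat.card ↥(Subgroup.center ↥R) = k} := by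
  refine ⟨Cfsg.maxCentralizerProduct G, ?_⟩
  rintro k ⟨R, rfl⟩
  exact (clm_le_cdm R).trans (cdm_le_max R)

theorem clm_le_max [Finite G] (H : Subgroup G) : clm H ≤ Cfsg.maxCentralProduct G :=
  le_csSup clm_set_bdd ⟨H, rfl⟩

theorem exists_clm_eq_max [Finite G] : ∃ H : Subgroup G, clm H = Cfsg.maxCentralProduct G := by
  have := Nat.sSup_mem (s := {k : ℕ | ∃ R : Subgroup G, Nat.card ↥R * Nat.card ↥(Subgroup.center ↥R) = k})
    ⟨_, ⟨⊥, rfl⟩⟩ clm_set_bdd
  exact this

theorem isCentrallyLarge_iff' (H : Subgroup G) :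
    Cfsg.IsCentrallyLarge H ↔ clm H = Cfsg.maxCentralProduct G := Iff.rfl

theorem clm_eq_cdm_of_le {H : Subgroup G} (h : Subgroup.centralizer (H : Set G) ≤ H) :
    clm H = cdm H := by
  rw [clm_eq, inf_eq_right.mpr h]; rfl

theorem max_eq_max [Finite G] : Cfsg.maxCentralProduct G = Cfsg.maxCentralizerProduct G := by
  apply le_antisymm
  · obtain ⟨H, hH⟩ := exists_clm_eq_max (G := G)
    rw [← hH]
    exact (clm_le_cdm H).trans (cdm_le_max H)
  · obtain ⟨R, hR⟩ := exists_cdm_eq_max (G := G)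
    have hR' : Cfsg.IsCentralizerLarge R := hR
    have hC := cd_centralizer hR'
    have hT := (cd_lattice hR' hC.1).1
    have hle : Subgroup.centralizer ((R ⊔ Subgroup.centralizer (R : Set G) : Subgroup G) : Set G) ≤
        R ⊔ Subgroup.centralizer (R : Set G) := by
      rw [centralizer_sup]
      exact inf_le_left.trans le_sup_right
    have : clm (R ⊔ Subgroup.centralizer (R : Set G)) = Cfsg.maxCentralizerProduct G := by
      rw [clm_eq_cdm_of_le hle]; exact hT
    rw [← this]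
    exact clm_le_max _

/-- key characterization of centrally large subgroups -/
theorem isCentrallyLarge_iff [Finite G] (Q : Subgroup G) :
    Cfsg.IsCentrallyLarge Q ↔
      Cfsg.IsCentralizerLarge Q ∧ Subgroup.centralizer (Q : Set G) ≤ Q := by
  constructor
  · intro h
    rw [isCentrallyLarge_iff', max_eq_max] at h
    have h1 := clm_le_cdm Q
    have h2 := cdm_le_max Q
    have h3 : cdm Q = Cfsg.maxCentralizerProduct G := le_antisymm h2 (h ▸ h1)
    refine ⟨h3, ?_⟩
    have h4 : clm Q = cdm Q := h.trans h3.symm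
    rw [clm_eq] at h4
    unfold cdm at h4
    have h5 := Nat.eq_of_mul_eq_mul_left Nat.card_pos h4
    have h6 : Q ⊓ Subgroup.centralizer (Q : Set G) = Subgroup.centralizer (Q : Set G) :=
      Subgroup.eq_of_le_of_card_ge inf_le_right h5.ge
    exact inf_eq_right.mp h6
  · rintro ⟨h1, h2⟩
    rw [isCentrallyLarge_iff', max_eq_max, clm_eq_cdm_of_le h2]
    exact h1

theorem cl_sup [Finite G] {Q R : Subgroup G} (hQ : Cfsg.IsCentrallyLarge Q)
    (hR : Cfsg.IsCentrallyLarge R) : Cfsg.IsCentrallyLarge (Q ⊔ R) := by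
  rw [isCentrallyLarge_iff] at hQ hR ⊢
  refine ⟨(cd_lattice hQ.1 hR.1).1, ?_⟩
  exact (centralizer_anti le_sup_left).trans (hQ.2.trans le_sup_left)

/-- upward closure inside the lattice -/
theorem cl_of_le [Finite G] {Q X : Subgroup G} (hQ : Cfsg.IsCentrallyLarge Q)
    (hX : Cfsg.IsCentralizerLarge X) (h : Q ≤ X) : Cfsg.IsCentrallyLarge X := by
  rw [isCentrallyLarge_iff] at hQ ⊢
  exact ⟨hX, (centralizer_anti h).trans (hQ.2.trans h)⟩

/-- a property closed under binary joins holds for the join of a nonempty family -/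
theorem sSup_of_sup_closed [Finite G] (p : Subgroup G → Prop)
    (hsup : ∀ A B, p A → p B → p (A ⊔ B)) (S : Set (Subgroup G)) (hne : S.Nonempty)
    (hS : ∀ A ∈ S, p A) : p (sSup S) := by
  classical
  obtain ⟨A₀, hA₀⟩ := hne
  obtain ⟨N, ⟨hN, hNle⟩, hmax⟩ := Set.exists_max_image {X : Subgroup G | p X ∧ X ≤ sSup S}
    (fun X => Nat.card X) (Set.toFinite _) ⟨A₀, hS A₀ hA₀, le_sSup hA₀⟩
  have : sSup S = N := by
    apply le_antisymm _ hNle
    apply sSup_le
    intro M hM
    have h1 : p (N ⊔ M) ∧ N ⊔ M ≤ sSup S := ⟨hsup N M hN (hS M hM), sup_le hNle (le_sSup hM)⟩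
    have h3 := hmax _ h1
    have h4 : N = N ⊔ M := Subgroup.eq_of_le_of_card_ge le_sup_left h3
    rw [h4]; exact le_sup_right
  rw [this]; exact hN

theorem exists_cl [Finite G] : ∃ Q : Subgroup G, Cfsg.IsCentrallyLarge Q := exists_clm_eq_max

/-- every centrally large subgroup contains a minimal one -/
theorem exists_mcl_le [Finite G] {X : Subgroup G} (hX : Cfsg.IsCentrallyLarge X) :
    ∃ Q : Subgroup G, Cfsg.IsMinimalCentrallyLarge Q ∧ Q ≤ X := by
  classical
  obtain ⟨Q, ⟨hQ, hQX⟩, hmin⟩ := Set.exists_min_image {R : Subgroup G | Cfsg.IsCentrallyLarge R ∧ R ≤ X}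
    (fun R => Nat.card R) (Set.toFinite _) ⟨X, hX, le_rfl⟩
  refine ⟨Q, ⟨hQ, ?_⟩, hQX⟩
  intro R' hle hR'
  exact Subgroup.eq_of_le_of_card_ge hle (hmin R' ⟨hR', hle.trans hQX⟩)

theorem exists_mcl [Finite G] : ∃ Q : Subgroup G, Cfsg.IsMinimalCentrallyLarge Q := by
  obtain ⟨X, hX⟩ := exists_cl (G := G)
  obtain ⟨Q, hQ, _⟩ := exists_mcl_le hX
  exact ⟨Q, hQ⟩

theorem cl_join [Finite G] : Cfsg.IsCentrallyLarge (Cfsg.centrallyLargeJoin G) :=
  sSup_of_sup_closed _ (fun _ _ hA hB => cl_sup hA hB) _ exists_cl (fun _ h => h)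

theorem mcl_join [Finite G] : Cfsg.IsCentrallyLarge (Cfsg.minimalCentrallyLargeJoin G) :=
  sSup_of_sup_closed _ (fun _ _ hA hB => cl_sup hA hB) _ exists_mcl (fun _ h => h.1)

end Cfsg.Agent.Lib.Helper56
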