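import Cfsg.Agent.Lib.Helper1.S4Free2
import Cfsg.Agent.Lib.Helper56.Transvection
import Cfsg.Agent.Lib.Helper40.PComp
import Cfsg.Agent.Lib.Helper14.Sup

/-!
`S₄`-free groups `X` with a normal `2`-subgroup `Q ≥ C_X(Q)` whose `2`-subgroups have class at most
two: the Thompson subgroup `J_e(T)` of a Sylow `2`-subgroup is normal (no solvability needed).
-/

set_option autoImplicit false

namespace Cfsg.Agent.Lib.Helper56.CT

open Cfsg.Agent.Lib.Helper40 Cfsg.Agent.Lib.Helper1.Off Cfsg.Agent.Lib.Helper15.ZJ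

universe u

variable {X : Type u} [Group X]

/-- class at most two, elementwise. -/
def Cl2 (P : Subgroup X) : Prop :=
  ∀ s ∈ P, ∀ t ∈ P, ∀ r ∈ P, (s * t * s⁻¹ * t⁻¹) * r = r * (s * t * s⁻¹ * t⁻¹)

/-- Sylow `2`-subgroup. -/
abbrev Sy (P : Subgroup X) : Prop := RelSylow 2 P (⊤ : Subgroup X)

theorem Sy.cj {P : Subgroup X} (h : Sy P) (g : X) : Sy (cj g P) := by
  have := h.conj g
  rwa [cj_eq_of_mem (Subgroup.mem_top g)] at this

theorem cj_omZ_le (g : X) (P : Subgroup X) : cj g (omZ 2 P) ≤ omZ 2 (cj g P) := by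
  rw [cj_le_iff]
  rintro v ⟨hv, hv', hv''⟩
  refine ⟨conj_mem_cj hv, ?_, by rw [conj_pow, hv'']; simp⟩
  intro h hh
  rw [mem_cj] at hh
  calc h * (g * v * g⁻¹) = g * ((g⁻¹ * h * g) * v) * g⁻¹ := by group
    _ = g * (v * (g⁻¹ * h * g)) * g⁻¹ := by rw [hv' _ hh]
    _ = g * v * g⁻¹ * h := by group

theorem omZ_cj (g : X) (P : Subgroup X) : omZ 2 (cj g P) = cj g (omZ 2 P) := by
  apply le_antisymm _ (cj_omZ_le g P)
  have h1 := cj_omZ_le g⁻¹ (cj g P)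
  rw [cj_inv_cj] at h1
  have h2 := cj_mono (g := g) h1
  rwa [cj_cj_inv] at h2

theorem JE_cj (g : X) (P : Subgroup X) : JE 2 (cj g P) = cj g (JE 2 P) :=
  JE_map 2 _ P (MulAut.conj g).injective.injOn

theorem cj_eq_of_normal {N : Subgroup X} (hN : N.Normal) (g : X) : cj g N = N :=
  cj_eq_of_mem_normalizer (by rw [Subgroup.normalizer_eq_top]; exact Subgroup.mem_top g)

/-- the standing hypotheses. -/
structure Hyp (Q : Subgroup X) : Prop where
  Qn : Q.Normal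
  Qp : IsPGroup 2 Q
  QC : ∀ x, (∀ q ∈ Q, x * q = q * x) → x ∈ Q
  cl : ∀ P : Subgroup X, IsPGroup 2 P → Cl2 P
  h4 : ∀ P : Subgroup X, Sy P → ∀ H' : Subgroup X, P ≤ H' → H' ≠ ⊤ →
    ∀ x ∈ H', cj x (JE 2 P) = JE 2 P

theorem normal_le [Finite X] {P N : Subgroup X} (hP : Sy P) (hN : N.Normal)
    (hNp : IsPGroup 2 N) : N ≤ P := by
  obtain ⟨x, -, hx⟩ := hP.exists_conj_le le_top hNp
  rwa [cj_eq_of_normal hN] at hx

variable {Q P P' : Subgroup X}

theorem omZ_le_V0 [Finite X] (h : Hyp Q) (hP : Sy P) : omZ 2 P ≤ omZ 2 Q := by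
  have hQP : Q ≤ P := normal_le hP h.Qn h.Qp
  rintro v ⟨hv, hv', hv''⟩
  exact ⟨h.QC v fun q hq => (hv' q (hQP hq)).symm, fun q hq => hv' q (hQP hq), hv''⟩

theorem comm_mem [Finite X] (h : Hyp Q) (hP : Sy P) {s v : X} (hs : s ∈ P) (hv : v ∈ omZ 2 Q) :
    s * v * s⁻¹ * v⁻¹ ∈ omZ 2 P := by
  have hQP : Q ≤ P := normal_le hP h.Qn h.Qp
  have hn : Q.Normal := h.Qn
  have hn' : (omZ 2 Q).Normal := omZ_normal 2 Q
  have h1 : s * v * s⁻¹ * v⁻¹ ∈ omZ 2 Q :=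
    (omZ 2 Q).mul_mem (hn'.conj_mem v hv s) ((omZ 2 Q).inv_mem hv)
  exact ⟨hQP h1.1, fun r hr => (h.cl P hP.isPGroup s hs v (hQP hv.1) r hr).symm, h1.2.2⟩

theorem sup_eq_top [Finite X] (h : Hyp Q) (hP : Sy P) (hP' : Sy P') (hne : JE 2 P ≠ JE 2 P') :
    P ⊔ P' = ⊤ := by
  by_contra hH
  obtain ⟨x, hx, hxe⟩ := (hP.mono le_sup_left le_top : RelSylow 2 P (P ⊔ P')).exists_conj_eq
    (hP'.mono le_sup_right le_top)
  apply hne
  rw [← hxe, JE_cj, h.h4 P' hP' _ le_sup_right hH x hx]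

theorem cj_W_le [Finite X] (h : Hyp Q) (hP : Sy P) (hP' : Sy P') {s : X} (hs : s ∈ P) :
    cj s (omZ 2 P ⊔ omZ 2 P') ≤ omZ 2 P ⊔ omZ 2 P' := by
  have e0 : cj s (omZ 2 P ⊔ omZ 2 P') = cj s (omZ 2 P) ⊔ cj s (omZ 2 P') := Subgroup.map_sup _ _ _
  rw [e0]
  apply sup_le
  · rw [cj_le_iff]
    intro z hz
    rw [hz.2.1 s hs, mul_assoc, mul_inv_cancel, mul_one]
    exact Subgroup.mem_sup_left hz
  · rw [cj_le_iff]
    intro z hz
    have e : s * z * s⁻¹ = (s * z * s⁻¹ * z⁻¹) * z := by group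
    rw [e]
    exact Subgroup.mul_mem _ (Subgroup.mem_sup_left (comm_mem h hP hs (omZ_le_V0 h hP' hz)))
      (Subgroup.mem_sup_right hz)

theorem W_normal [Finite X] (h : Hyp Q) (hP : Sy P) (hP' : Sy P') (htop : P ⊔ P' = ⊤) :
    (omZ 2 P ⊔ omZ 2 P').Normal := by
  rw [← Subgroup.normalizer_eq_top_iff, eq_top_iff, ← htop]
  apply sup_le
  · intro s hs
    exact mem_normalizer_of_map_le _ _ (cj_W_le h hP hP' hs)
  · intro s hs
    apply mem_normalizer_of_map_le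
    have := cj_W_le h hP' hP hs
    rwa [sup_comm] at this

theorem omZ_le_W [Finite X] (h : Hyp Q) (hP : Sy P) (hP' : Sy P') (htop : P ⊔ P' = ⊤)
    {P'' : Subgroup X} (hP'' : Sy P'') : omZ 2 P'' ≤ omZ 2 P ⊔ omZ 2 P' := by
  obtain ⟨x, -, hx⟩ := hP''.exists_conj_eq hP
  rw [← hx, omZ_cj, ← cj_eq_of_normal (W_normal h hP hP' htop) x]
  exact cj_mono le_sup_left

theorem D_central (htop : P ⊔ P' = ⊤) {d : X} (h1 : d ∈ omZ 2 P) (h2 : d ∈ omZ 2 P') (x : X) :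
    x * d = d * x := by
  have h3 : P ⊔ P' ≤ Subgroup.centralizer {d} := by
    apply sup_le
    · intro s hs
      rw [Subgroup.mem_centralizer_singleton_iff]
      exact h1.2.1 s hs
    · intro s hs
      rw [Subgroup.mem_centralizer_singleton_iff]
      exact h2.2.1 s hs
  have h4 : x ∈ Subgroup.centralizer {d} := h3 (htop ▸ Subgroup.mem_top x)
  rwa [Subgroup.mem_centralizer_singleton_iff] at h4

/-- the elements centralizing `Ω₁(Z(P))` for every Sylow `2`-subgroup `P`. -/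
def cenAll (X : Type u) [Group X] : Subgroup X where
  carrier := {a | ∀ P'' : Subgroup X, Sy P'' → ∀ y ∈ omZ 2 P'', a * y = y * a}
  one_mem' := fun _ _ y _ => by rw [one_mul, mul_one]
  mul_mem' := by
    intro a b ha hb R hR y hy
    rw [mul_assoc, hb R hR y hy, ← mul_assoc, ha R hR y hy, mul_assoc]
  inv_mem' := by
    intro a ha R hR y hy
    exact (show Commute a y from ha R hR y hy).inv_left.eq

theorem mem_cenAll {a : X} :
    a ∈ cenAll X ↔ ∀ P'' : Subgroup X, Sy P'' → ∀ y ∈ omZ 2 P'', a * y = y * a := Iff.rfl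

theorem cenAll_normal : (cenAll X).Normal := by
  constructor
  intro a ha g R hR y hy
  have h1 : g⁻¹ * y * g⁻¹⁻¹ ∈ omZ 2 (cj g⁻¹ R) := by
    rw [omZ_cj]
    exact conj_mem_cj hy
  have h2 := ha _ (hR.cj g⁻¹) _ h1
  calc g * a * g⁻¹ * y = g * (a * (g⁻¹ * y * g⁻¹⁻¹)) * g⁻¹ := by group
    _ = g * ((g⁻¹ * y * g⁻¹⁻¹) * a) * g⁻¹ := by rw [h2]
    _ = y * (g * a * g⁻¹) := by group

theorem mem_cenAll_of [Finite X] (h : Hyp Q) (hP : Sy P) (hP' : Sy P') (htop : P ⊔ P' = ⊤) {a : X}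
    (h1 : ∀ y ∈ omZ 2 P, a * y = y * a) (h2 : ∀ y ∈ omZ 2 P', a * y = y * a) : a ∈ cenAll X := by
  intro R hR y hy
  have h3 : omZ 2 P ⊔ omZ 2 P' ≤ Subgroup.centralizer {a} := by
    apply sup_le
    · intro s hs
      rw [Subgroup.mem_centralizer_singleton_iff]
      exact (h1 s hs).symm
    · intro s hs
      rw [Subgroup.mem_centralizer_singleton_iff]
      exact (h2 s hs).symm
  have h4 := h3 (omZ_le_W h hP hP' htop hR hy)
  rw [Subgroup.mem_centralizer_singleton_iff] at h4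
  exact h4.symm

/-- the elements `x` with `[x, z] ∈ D`, `D` central. -/
def commSub (D : Subgroup X) (hcen : ∀ d ∈ D, ∀ x, x * d = d * x) (z : X) : Subgroup X where
  carrier := {x | x * z * x⁻¹ * z⁻¹ ∈ D}
  one_mem' := by
    have e : (1 : X) * z * 1⁻¹ * z⁻¹ = 1 := by group
    rw [Set.mem_ofPred_eq, e]
    exact D.one_mem
  mul_mem' := by
    intro x y hx hy
    rw [Set.mem_ofPred_eq] at hx hy ⊢
    have e : (x * y) * z * (x * y)⁻¹ * z⁻¹ =
        (x * (y * z * y⁻¹ * z⁻¹)) * x⁻¹ * (x * z * x⁻¹ * z⁻¹) := by group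
    rw [e, hcen _ hy x, mul_assoc _ x, mul_inv_cancel, mul_one]
    exact D.mul_mem hy hx
  inv_mem' := by
    intro x hx
    rw [Set.mem_ofPred_eq] at hx ⊢
    have e : x⁻¹ * z * x⁻¹⁻¹ * z⁻¹ = x⁻¹ * ((x * z * x⁻¹ * z⁻¹)⁻¹ * x) := by group
    rw [e, ← hcen _ (D.inv_mem hx) x, ← mul_assoc, inv_mul_cancel, one_mul]
    exact D.inv_mem hx

/-- **Key lemma.** -/
theorem key [Finite X] (h : Hyp Q) (hP : Sy P) (hP' : Sy P') (hne : JE 2 P ≠ JE 2 P') {a z : X}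
    (ha : a ∈ P) (hz : z ∈ omZ 2 P') (hc : a * z * a⁻¹ * z⁻¹ ∈ omZ 2 P') :
    z ∈ omZ 2 P ∨ a ∈ cenAll X := by
  have htop := sup_eq_top h hP hP' hne
  by_cases hH : Subgroup.zpowers a ⊔ P' = ⊤
  · left
    have hcen : ∀ d ∈ omZ 2 P ⊓ omZ 2 P', ∀ x, x * d = d * x :=
      fun d hd x => D_central htop hd.1 hd.2 x
    have hL : Subgroup.zpowers a ⊔ P' ≤ commSub _ hcen z := by
      apply sup_le
      · rw [Subgroup.zpowers_le]
        exact ⟨comm_mem h hP ha (omZ_le_V0 h hP' hz), hc⟩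
      · intro s hs
        change s * z * s⁻¹ * z⁻¹ ∈ omZ 2 P ⊓ omZ 2 P'
        rw [hz.2.1 s hs, mul_assoc z, mul_inv_cancel, mul_one, mul_inv_cancel]
        exact Subgroup.one_mem _
    obtain ⟨x, -, hx⟩ := hP.exists_conj_eq hP'
    have h1 : x * z * x⁻¹ * z⁻¹ ∈ omZ 2 P ⊓ omZ 2 P' := hL (hH ▸ Subgroup.mem_top x)
    have h2 : x * z * x⁻¹ ∈ omZ 2 P := by
      rw [← hx, omZ_cj]
      exact conj_mem_cj hz
    have e : z = (x * z * x⁻¹ * z⁻¹)⁻¹ * (x * z * x⁻¹) := by group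
    rw [e]
    exact Subgroup.mul_mem _ (Subgroup.inv_mem _ h1.1) h2
  · right
    obtain ⟨x, hxH, hx⟩ := (hP'.mono le_sup_right le_top :
      RelSylow 2 P' (Subgroup.zpowers a ⊔ P')).exists_conj_le le_sup_left
      (hP.isPGroup.to_le (Subgroup.zpowers_le.2 ha))
    have ha3 : a ∈ cj x⁻¹ P' := by
      rw [mem_cj, inv_inv]
      exact cj_le_iff.1 hx a (Subgroup.mem_zpowers a)
    have hJ : JE 2 (cj x⁻¹ P') = JE 2 P' := by
      rw [JE_cj, h.h4 P' hP' _ le_sup_right hH x⁻¹ (Subgroup.inv_mem _ hxH)]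
    have hP3 : Sy (cj x⁻¹ P') := hP'.cj _
    have htop3 : P ⊔ cj x⁻¹ P' = ⊤ := sup_eq_top h hP hP3 (by rw [hJ]; exact hne)
    exact mem_cenAll_of h hP hP3 htop3 (fun y hy => hy.2.1 a ha) (fun y hy => hy.2.1 a ha3)

theorem comm_of_chain {c : X} (hc : (orderOf c).Coprime 2) (A B : Subgroup X) (k : ℕ)
    (hAB : ∀ a ∈ A, c * a * c⁻¹ * a⁻¹ ∈ B) (hB : ∀ b ∈ B, c * b = b * c)
    (hN : ∀ b ∈ B, b ^ (2 ^ k) = 1) : ∀ a ∈ A, c * a = a * c := by
  intro a ha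
  have h1 := Cfsg.Agent.Lib.Helper52.pow_centralizes c A B (2 ^ k) hAB hB hN a ha
  obtain ⟨m, hm⟩ := exists_pow_eq_self_of_coprime (Nat.Coprime.pow_right k hc).symm
  have h2 : Commute (c ^ (2 ^ k)) a := h1
  have h3 := h2.pow_left m
  rw [hm] at h3
  exact h3

theorem eq_one_of_mem_cenAll [Finite X] (h : Hyp Q) (hP : Sy P) (hP' : Sy P')
    (htop : P ⊔ P' = ⊤) {c : X} (hc : c ∈ cenAll X) (hodd : (orderOf c).Coprime 2) : c = 1 := by
  have hQn := h.Qn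
  have hV0n : (omZ 2 Q).Normal := omZ_normal 2 Q
  have hVn := W_normal h hP hP' htop
  have hQP : Q ≤ P := normal_le hP h.Qn h.Qp
  have hQP' : Q ≤ P' := normal_le hP' h.Qn h.Qp
  have T1 : ∀ y, ∀ v ∈ omZ 2 Q, y * v * y⁻¹ * v⁻¹ ∈ omZ 2 P ⊔ omZ 2 P' := by
    obtain ⟨N₀, -, hN₀⟩ := exists_centralizer_mod (omZ 2 P ⊔ omZ 2 P') (omZ 2 Q)
    have h1 : P ⊔ P' ≤ N₀ := by
      apply sup_le
      · intro s hs
        rw [hN₀]
        intro k hk
        exact Subgroup.mem_sup_left (comm_mem h hP hs hk)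
      · intro s hs
        rw [hN₀]
        intro k hk
        exact Subgroup.mem_sup_right (comm_mem h hP' hs hk)
    intro y
    exact (hN₀ y).1 (h1 (htop ▸ Subgroup.mem_top y))
  have hcV : ∀ b ∈ omZ 2 P ⊔ omZ 2 P', c * b = b * c := by
    have h3 : omZ 2 P ⊔ omZ 2 P' ≤ Subgroup.centralizer {c} := by
      apply sup_le
      · intro s hs
        rw [Subgroup.mem_centralizer_singleton_iff]
        exact (hc P hP s hs).symm
      · intro s hs
        rw [Subgroup.mem_centralizer_singleton_iff]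
        exact (hc P' hP' s hs).symm
    intro b hb
    have h4 := h3 hb
    rw [Subgroup.mem_centralizer_singleton_iff] at h4
    exact h4.symm
  have hVV0 : omZ 2 P ⊔ omZ 2 P' ≤ omZ 2 Q := sup_le (omZ_le_V0 h hP) (omZ_le_V0 h hP')
  have hV2 : ∀ b ∈ omZ 2 P ⊔ omZ 2 P', b ^ (2 ^ 1) = 1 := fun b hb => (hVV0 hb).2.2
  have hcV0 := comm_of_chain hodd (omZ 2 Q) _ 1 (T1 c) hcV hV2
  obtain ⟨ZQ, hZQ⟩ : ∃ ZQ, ZQ = Q ⊓ Subgroup.centralizer (Q : Set X) := ⟨_, rfl⟩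
  have hZQn : ZQ.Normal := by rw [hZQ]; infer_instance
  have memZQ : ∀ x, x ∈ ZQ ↔ x ∈ Q ∧ ∀ q ∈ Q, q * x = x * q := by
    intro x
    rw [hZQ, Subgroup.mem_inf, Subgroup.mem_centralizer_iff]
    rfl
  have T2 : ∀ y, ∀ q ∈ Q, y * q * y⁻¹ * q⁻¹ ∈ ZQ := by
    obtain ⟨N₀, -, hN₀⟩ := exists_centralizer_mod ZQ Q
    have h1 : P ⊔ P' ≤ N₀ := by
      apply sup_le
      · intro s hs
        rw [hN₀]
        intro k hk
        rw [memZQ]
        exact ⟨Q.mul_mem (hQn.conj_mem k hk s) (Q.inv_mem hk), fun q hq =>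
          (h.cl P hP.isPGroup s hs k (hQP hk) q (hQP hq)).symm⟩
      · intro s hs
        rw [hN₀]
        intro k hk
        rw [memZQ]
        exact ⟨Q.mul_mem (hQn.conj_mem k hk s) (Q.inv_mem hk), fun q hq =>
          (h.cl P' hP'.isPGroup s hs k (hQP' hk) q (hQP' hq)).symm⟩
    intro y
    exact (hN₀ y).1 (h1 (htop ▸ Subgroup.mem_top y))
  have hZc : ∀ a ∈ ZQ, ∀ b ∈ ZQ, a * b = b * a :=
    fun a ha b hb => ((memZQ b).1 hb).2 a ((memZQ a).1 ha).1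
  have hZp : IsPGroup 2 ZQ := h.Qp.to_le (fun x hx => ((memZQ x).1 hx).1)
  have hcZ := centralizes_of_centralizes_omega ZQ hZc hZp c hodd (fun z hz hz2 => by
    have h1 : z ∈ omZ 2 Q := ⟨((memZQ z).1 hz).1, ((memZQ z).1 hz).2, hz2⟩
    rw [hcV0 z h1, mul_assoc, mul_inv_cancel, mul_one])
  have hcQ := comm_of_chain hodd Q ZQ (Nat.card X) (T2 c)
    (fun b hb => by
      have h1 := hcZ b hb
      rwa [mul_inv_eq_iff_eq_mul] at h1)
    (Cfsg.Agent.Lib.Helper52.pow_card_eq_one_of_isPGroup hZp)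
  have hcQ' : c ∈ Q := h.QC c hcQ
  obtain ⟨k, hk⟩ := h.Qp ⟨c, hcQ'⟩
  have hk' : c ^ (2 ^ k) = 1 := by
    have := congrArg Subtype.val hk
    simpa using this
  have h5 : orderOf c = 1 :=
    Nat.Coprime.eq_one_of_dvd (Nat.Coprime.pow_right k hodd) (orderOf_dvd_of_pow_eq_one hk')
  exact orderOf_eq_one_iff.1 h5

theorem cenAll_isPGroup [Finite X] (h : Hyp Q) (hP : Sy P) (hP' : Sy P') (htop : P ⊔ P' = ⊤) :
    IsPGroup 2 (cenAll X) := by
  intro c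
  obtain ⟨j, hj⟩ := exists_pow_coprime 2 (c : X)
  refine ⟨j, Subtype.ext ?_⟩
  have := eq_one_of_mem_cenAll h hP hP' htop ((cenAll X).pow_mem c.2 _) hj
  simpa using this

theorem exists_not_le [Finite X] {C : Subgroup X} (hCn : C.Normal) {g : X} (hCP : C ≤ P)
    (hne : JE 2 P ≠ JE 2 (cj g P)) : ∃ A ∈ AE 2 P, ¬ A ≤ C := by
  by_contra hno
  push Not at hno
  apply hne
  have h1 : AE 2 C = AE 2 P := Cfsg.Agent.Lib.Helper1.Off.AE_eq_of_forall_le hCP hno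
  have hCP' : C ≤ cj g P := by
    rw [← cj_eq_of_normal hCn g]
    exact cj_mono hCP
  have h2 : AE 2 C = AE 2 (cj g P) := by
    apply Cfsg.Agent.Lib.Helper1.Off.AE_eq_of_forall_le hCP'
    intro B hB
    have hB' : B ∈ (Subgroup.map (MulAut.conj g).toMonoidHom) '' (AE 2 P) := by
      rw [← AE_map _ (MulAut.conj g).injective.injOn]
      exact hB
    obtain ⟨A, hA, rfl⟩ := hB'
    rw [← cj_eq_of_normal hCn g]
    exact cj_mono (hno A hA)
  unfold JE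
  rw [← h1, ← h2]

theorem cenAll_comm_W (hP : Sy P) (hP' : Sy P') {c : X} (hc : c ∈ cenAll X) :
    ∀ b ∈ omZ 2 P ⊔ omZ 2 P', c * b = b * c := by
  have h3 : omZ 2 P ⊔ omZ 2 P' ≤ Subgroup.centralizer {c} := by
    apply sup_le
    · intro s hs
      rw [Subgroup.mem_centralizer_singleton_iff]
      exact (hc P hP s hs).symm
    · intro s hs
      rw [Subgroup.mem_centralizer_singleton_iff]
      exact (hc P' hP' s hs).symm
  intro b hb
  have h4 := h3 hb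
  rw [Subgroup.mem_centralizer_singleton_iff] at h4
  exact h4.symm

/-- **Surjectivity lemma** (counting with the maximality of `B`). -/
theorem surj [Finite X] (h : Hyp Q) (hP : Sy P) (hP' : Sy P') (hne : JE 2 P ≠ JE 2 P')
    {B : Subgroup X} (hB : B ∈ AE 2 P') {b₀ w : X} (hb₀ : b₀ ∈ B) (hb₀C : b₀ ∉ cenAll X)
    (hw : w ∈ omZ 2 P) (hw' : w ∉ omZ 2 P') {z' : X} (hz' : z' ∈ omZ 2 P') :
    ∃ b ∈ B, ∃ d ∈ omZ 2 P ⊓ omZ 2 P', b * w * b⁻¹ * w⁻¹ = z' * d := by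
  have htop := sup_eq_top h hP hP' hne
  have hne' : JE 2 P' ≠ JE 2 P := hne.symm
  have hwV0 := omZ_le_V0 h hP hw
  have hQP' : Q ≤ P' := normal_le hP' h.Qn h.Qp
  have hcm : ∀ b ∈ B, b * w * b⁻¹ * w⁻¹ ∈ omZ 2 P' := fun b hb => comm_mem h hP' (hB.1 hb) hwV0
  obtain ⟨ψ, hψ⟩ : ∃ ψ : B →* X, ∀ b : B, ψ b = (b : X) * w * (b : X)⁻¹ * w⁻¹ := by
    refine ⟨{ toFun := fun b => (b : X) * w * (b : X)⁻¹ * w⁻¹
              map_one' := by
                rw [Subgroup.coe_one]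
                group
              map_mul' := ?_ }, fun b => rfl⟩
    intro x y
    have e : ((x * y : B) : X) * w * ((x * y : B) : X)⁻¹ * w⁻¹ =
        ((x : X) * ((y : X) * w * (y : X)⁻¹ * w⁻¹)) * (x : X)⁻¹ *
          ((x : X) * w * (x : X)⁻¹ * w⁻¹) := by
      rw [Subgroup.coe_mul]
      group
    rw [e, (hcm y y.2).2.1 x (hB.1 x.2), mul_assoc _ (x : X), mul_inv_cancel, mul_one]
    exact ((hcm y y.2).2.1 _ (hcm x x.2).1).symm
  obtain ⟨K, hK⟩ : ∃ K : Subgroup X, K = ψ.ker.map B.subtype := ⟨_, rfl⟩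
  obtain ⟨R, hR⟩ : ∃ R : Subgroup X, R = ψ.range := ⟨_, rfl⟩
  obtain ⟨V, hV⟩ : ∃ V : Subgroup X, V = omZ 2 P ⊔ omZ 2 P' := ⟨_, rfl⟩
  obtain ⟨D, hD⟩ : ∃ D : Subgroup X, D = omZ 2 P ⊓ omZ 2 P' := ⟨_, rfl⟩
  have memK : ∀ k, k ∈ K ↔ k ∈ B ∧ k * w * k⁻¹ * w⁻¹ = 1 := by
    intro k
    rw [hK]
    constructor
    · rintro ⟨b, hb, rfl⟩
      refine ⟨b.2, ?_⟩
      have := MonoidHom.mem_ker.1 hb
      rwa [hψ] at this
    · rintro ⟨hb, hb'⟩
      refine ⟨⟨k, hb⟩, ?_, rfl⟩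
      apply MonoidHom.mem_ker.2
      rw [hψ]
      exact hb'
  have memR : ∀ r, r ∈ R ↔ ∃ b ∈ B, b * w * b⁻¹ * w⁻¹ = r := by
    intro r
    rw [hR]
    constructor
    · rintro ⟨b, rfl⟩
      exact ⟨b, b.2, (hψ b).symm⟩
    · rintro ⟨b, hb, rfl⟩
      exact ⟨⟨b, hb⟩, hψ _⟩
  have hcard : Nat.card K * Nat.card R = Nat.card B := by
    rw [hK, hR, Subgroup.card_map_of_injective B.subtype_injective, ← Subgroup.index_ker,
      Subgroup.card_mul_index]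
  have hKB : K ≤ B := fun k hk => ((memK k).1 hk).1
  have hkey : ∀ b ∈ B, ∀ z ∈ omZ 2 P, b * z * b⁻¹ * z⁻¹ ∈ omZ 2 P → z ∈ omZ 2 P' ∨ b ∈ cenAll X :=
    fun b hb z hz hc => key h hP' hP hne' (hB.1 hb) hz hc
  have hKC : ∀ k ∈ K, k ∈ cenAll X := by
    intro k hk
    obtain ⟨hkB, hk1⟩ := (memK k).1 hk
    exact (hkey k hkB w hw (by rw [hk1]; exact Subgroup.one_mem _)).resolve_left hw'
  have hRD : R ⊓ D = ⊥ := by
    rw [eq_bot_iff]
    rintro r ⟨hr, hrD⟩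
    obtain ⟨b, hb, rfl⟩ := (memR r).1 hr
    rw [SetLike.mem_coe, hD] at hrD
    have h1 := (hkey b hb w hw hrD.1).resolve_left hw'
    rw [Subgroup.mem_bot, h1 P hP w hw, mul_assoc w, mul_inv_cancel, mul_one, mul_inv_cancel]
  have hRZ : R ≤ omZ 2 P' := by
    intro r hr
    obtain ⟨b, hb, rfl⟩ := (memR r).1 hr
    exact hcm b hb
  have hVV0 : V ≤ omZ 2 Q := hV ▸ sup_le (omZ_le_V0 h hP) (omZ_le_V0 h hP')
  have hPEV0 : PE 2 (omZ 2 Q) := ⟨fun x hx y hy => hy.2.1 x hx.1, fun a ha => ha.2.2⟩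
  have hPEKV : PE 2 (K ⊔ V) := by
    apply PE_sup (hB.2.1.mono hKB) (hPEV0.mono hVV0)
    intro a ha b hb
    exact cenAll_comm_W hP hP' (hKC a ha) b (hV ▸ hb)
  have hKVP : K ⊔ V ≤ P' := sup_le (hKB.trans hB.1) (fun v hv => hQP' (hVV0 hv).1)
  have hle1 : Nat.card (K ⊔ V : Subgroup X) ≤ Nat.card B := hB.2.2 _ hKVP hPEKV
  have hle2 := card_mul_card_le K V
  have hKVZ : K ⊓ V ≤ omZ 2 P' := by
    rintro v ⟨hvK, hvV⟩
    rw [SetLike.mem_coe, hV] at hvV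
    obtain ⟨z₁, hz₁, z₂, hz₂, rfl⟩ := (Cfsg.Agent.Lib.Helper14.mem_sup_of_commute
      (fun a ha b hb => hPEV0.1 a (omZ_le_V0 h hP ha) b (omZ_le_V0 h hP' hb))).1 hvV
    have h1 : b₀ * (z₁ * z₂) = (z₁ * z₂) * b₀ := hB.2.1.1 _ hb₀ _ (hKB hvK)
    have h2 : b₀ * z₂ = z₂ * b₀ := hz₂.2.1 b₀ (hB.1 hb₀)
    have h3 : b₀ * z₁ = z₁ * b₀ := by
      have h4 : b₀ * z₁ * z₂ = z₁ * b₀ * z₂ := by
        rw [mul_assoc, h1, mul_assoc, ← h2, mul_assoc]
      exact mul_right_cancel h4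
    have h5 := (hkey b₀ hb₀ z₁ hz₁ (by
      rw [h3, mul_assoc z₁, mul_inv_cancel, mul_one, mul_inv_cancel]
      exact Subgroup.one_mem _)).resolve_right hb₀C
    exact Subgroup.mul_mem _ h5 hz₂
  have hle3 : Nat.card (K ⊓ V : Subgroup X) ≤ Nat.card (omZ 2 P') := Subgroup.card_le_of_le hKVZ
  have hle4 := card_mul_card_le (omZ 2 P) (omZ 2 P')
  rw [← hV, ← hD] at hle4
  have hle5 := card_mul_card_le R D
  rw [hRD, Subgroup.card_bot, mul_one] at hle5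
  have hZZ : Nat.card (omZ 2 P) = Nat.card (omZ 2 P') := by
    obtain ⟨x, -, hx⟩ := hP.exists_conj_eq hP'
    rw [← hx, omZ_cj, card_cj]
  have hDZ : D ≤ omZ 2 P' := hD ▸ inf_le_right
  have hfin : Nat.card (omZ 2 P') ≤ Nat.card (R ⊔ D : Subgroup X) := by
    rw [hZZ] at hle4
    have hkpos : 0 < Nat.card K := Nat.card_pos
    have hzpos : 0 < Nat.card (omZ 2 P') := Nat.card_pos
    have s1 : Nat.card K * Nat.card V ≤ Nat.card K * (Nat.card R * Nat.card (omZ 2 P')) := by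
      calc Nat.card K * Nat.card V ≤ Nat.card (K ⊔ V : Subgroup X) * Nat.card (K ⊓ V : Subgroup X) :=
            hle2
        _ ≤ Nat.card B * Nat.card (omZ 2 P') := Nat.mul_le_mul hle1 hle3
        _ = Nat.card K * (Nat.card R * Nat.card (omZ 2 P')) := by rw [← hcard, mul_assoc]
    have s2 : Nat.card V ≤ Nat.card R * Nat.card (omZ 2 P') := Nat.le_of_mul_le_mul_left s1 hkpos
    have s3 : Nat.card (omZ 2 P') * Nat.card (omZ 2 P') ≤
        Nat.card (omZ 2 P') * (Nat.card R * Nat.card D) := by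
      calc Nat.card (omZ 2 P') * Nat.card (omZ 2 P') ≤ Nat.card V * Nat.card D := hle4
        _ ≤ (Nat.card R * Nat.card (omZ 2 P')) * Nat.card D := Nat.mul_le_mul_right _ s2
        _ = Nat.card (omZ 2 P') * (Nat.card R * Nat.card D) := by ring
    exact (Nat.le_of_mul_le_mul_left s3 hzpos).trans hle5
  have hRDZ : R ⊔ D = omZ 2 P' := Subgroup.eq_of_le_of_card_ge (sup_le hRZ hDZ) hfin
  have hz'' : z' ∈ R ⊔ D := hRDZ ▸ hz'
  obtain ⟨r, hr, d, hd, rfl⟩ := (Cfsg.Agent.Lib.Helper14.mem_sup_of_commute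
    (fun a ha b hb => hPEV0.1 a (omZ_le_V0 h hP' (hRZ ha)) b (omZ_le_V0 h hP' (hDZ hb)))).1 hz''
  obtain ⟨b, hb, rfl⟩ := (memR r).1 hr
  refine ⟨b, hb, d⁻¹, hD ▸ D.inv_mem hd, ?_⟩
  rw [mul_assoc _ d, mul_inv_cancel, mul_one]

theorem involves_S4_of_four [Finite X] {a b u₁ u₂ : X} (h11 : u₁ * u₁ = 1) (h22 : u₂ * u₂ = 1)
    (h21 : u₂ * u₁ = u₁ * u₂) (A11 : a * u₁ * a⁻¹ = u₁) (A12 : a * u₂ * a⁻¹ = u₁ * u₂)
    (B22 : b * u₂ * b⁻¹ = u₂) (B21 : b * u₁ * b⁻¹ = u₁ * u₂) (hu₁ : u₁ ≠ 1) (hu₂ : u₂ ≠ 1) :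
    Cfsg.Involves (Equiv.Perm (Fin 4)) X := by
  have hexp : ∀ e ∈ four u₁ u₂ h11 h22 h21, e * e = 1 := by
    intro e he
    rcases mem_four.1 he with rfl | rfl | rfl | rfl
    · exact one_mul 1
    · exact h11
    · exact h22
    · rw [mul_assoc, ← mul_assoc u₂, h21, mul_assoc, h22, mul_one, h11]
  have hab := comm_of_exp_two hexp
  have T1 : Tv (four u₁ u₂ h11 h22 h21) a u₁ := by
    refine ⟨mem_four.2 (Or.inr (Or.inl rfl)), h11, A11, ?_⟩
    intro v hv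
    rcases mem_four.1 hv with rfl | rfl | rfl | rfl
    · left; group
    · left; exact A11
    · right; exact A12
    · right; rw [conj_mul', A11, A12]
  have T2 : Tv (four u₁ u₂ h11 h22 h21) b u₂ := by
    refine ⟨mem_four.2 (Or.inr (Or.inr (Or.inl rfl))), h22, B22, ?_⟩
    intro v hv
    rcases mem_four.1 hv with rfl | rfl | rfl | rfl
    · left; group
    · right; rw [B21, h21]
    · left; exact B22
    · right; rw [conj_mul', B21, B22, ← mul_assoc u₂, h21]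
  apply Tv.involves_S4 hab T1 T2
  · rw [B21]
    intro e
    exact hu₂ (mul_left_cancel (e.trans (mul_one u₁).symm))
  · rw [A12]
    intro e
    exact hu₁ (mul_right_cancel (e.trans (one_mul u₂).symm))

/-- the minimal configuration does not exist. -/
theorem JE_normal_of_hyp [Finite X] (h : Hyp Q) (hS4 : ¬ Cfsg.Involves (Equiv.Perm (Fin 4)) X)
    (hP : Sy P) (g : X) : JE 2 (cj g P) = JE 2 P := by
  by_contra hne0
  have hne : JE 2 P ≠ JE 2 (cj g P) := fun e => hne0 e.symm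
  have hP' := hP.cj g
  have htop := sup_eq_top h hP hP' hne
  have hCn : (cenAll X).Normal := cenAll_normal
  have hCp := cenAll_isPGroup h hP hP' htop
  have hCP : cenAll X ≤ P := normal_le hP hCn hCp
  obtain ⟨A, hA, hAC⟩ := exists_not_le hCn hCP hne
  obtain ⟨a, haA, haC⟩ := SetLike.not_le_iff_exists.1 hAC
  have haP : a ∈ P := hA.1 haA
  have hB : cj g A ∈ AE 2 (cj g P) := by
    have h1 : cj g A ∈ (Subgroup.map (MulAut.conj g).toMonoidHom) '' (AE 2 P) := ⟨A, hA, rfl⟩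
    rwa [← AE_map _ (MulAut.conj g).injective.injOn] at h1
  have hb₀ : g * a * g⁻¹ ∈ cj g A := conj_mem_cj haA
  have hb₀C : g * a * g⁻¹ ∉ cenAll X := by
    intro hh
    apply haC
    have h1 := hCn.conj_mem _ hh g⁻¹
    have e : g⁻¹ * (g * a * g⁻¹) * g⁻¹⁻¹ = a := by group
    rwa [e] at h1
  obtain ⟨z', hz', hz'a⟩ : ∃ z' ∈ omZ 2 (cj g P), a * z' ≠ z' * a := by
    by_contra hno
    push Not at hno
    exact haC (mem_cenAll_of h hP hP' htop (fun y hy => hy.2.1 a haP) hno)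
  obtain ⟨w, hwdef⟩ : ∃ w, w = a * z' * a⁻¹ * z'⁻¹ := ⟨_, rfl⟩
  have hw : w ∈ omZ 2 P := hwdef ▸ comm_mem h hP haP (omZ_le_V0 h hP' hz')
  have hw' : w ∉ omZ 2 (cj g P) := by
    intro hh
    rcases key h hP hP' hne haP hz' (hwdef ▸ hh) with h1 | h1
    · exact hz'a (h1.2.1 a haP)
    · exact haC h1
  obtain ⟨b, hb, d, hd, hbw⟩ := surj h hP hP' hne hB hb₀ hb₀C hw hw' hz'
  apply hS4
  have hbP' : b ∈ cj g P := hB.1 hb
  have hu₂ : z' * d ∈ omZ 2 (cj g P) := Subgroup.mul_mem _ hz' hd.2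
  have h21 : z' * d * w = w * (z' * d) := (omZ_le_V0 h hP hw).2.1 _ (omZ_le_V0 h hP' hu₂).1
  apply involves_S4_of_four (a := a) (b := b) (u₁ := w) (u₂ := z' * d)
  · rw [← pow_two]; exact hw.2.2
  · rw [← pow_two]; exact hu₂.2.2
  · exact h21
  · rw [hw.2.1 a haP, mul_assoc, mul_inv_cancel, mul_one]
  · have h1 : a * d * a⁻¹ = d := by rw [hd.1.2.1 a haP, mul_assoc, mul_inv_cancel, mul_one]
    have h2 : a * z' * a⁻¹ = w * z' := by rw [hwdef]; group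
    rw [conj_mul', h1, h2, mul_assoc]
  · rw [hu₂.2.1 b hbP', mul_assoc, mul_inv_cancel, mul_one]
  · have e : b * w * b⁻¹ = (b * w * b⁻¹ * w⁻¹) * w := by group
    rw [e, hbw, h21]
  · intro e
    apply hw'
    rw [e]
    exact Subgroup.one_mem _
  · intro e
    apply hz'a
    have h1 : z' = d⁻¹ := eq_inv_of_mul_eq_one_left e
    rw [h1]
    exact ((omZ 2 P).inv_mem hd.1).2.1 a haP

theorem JE_normal_aux (n : ℕ) : ∀ (X : Type u) [Group X] [Finite X], Nat.card X ≤ n →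
    ∀ Q : Subgroup X, Q.Normal → IsPGroup 2 Q → (∀ x, (∀ q ∈ Q, x * q = q * x) → x ∈ Q) →
    (∀ P : Subgroup X, IsPGroup 2 P → Cl2 P) → ¬ Cfsg.Involves (Equiv.Perm (Fin 4)) X →
    ∀ P : Subgroup X, Sy P → ∀ g : X, cj g (JE 2 P) = JE 2 P := by
  induction n with
  | zero =>
    intro X _ _ hc
    have := Nat.card_pos (α := X)
    omega
  | succ n ih =>
    intro X _ _ hc Q hQn hQp hQC hcl hS4 P hP g
    have hyp : Hyp Q := by
      refine ⟨hQn, hQp, hQC, hcl, ?_⟩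
      intro P hP H' hPH' hH' x hx
      have hcard : Nat.card H' ≤ n := by
        by_contra hlt
        exact hH' (Subgroup.eq_top_of_le_card H' (by omega))
      have hQH' : Q ≤ H' := (normal_le hP hQn hQp).trans hPH'
      have hk := ih H' hcard (Q.subgroupOf H') (hQn.subgroupOf H') hQp.comap_subtype
        (by
          intro y hy
          rw [Subgroup.mem_subgroupOf]
          apply hQC
          intro q hq
          exact congrArg Subtype.val (hy ⟨q, hQH' hq⟩ (Subgroup.mem_subgroupOf.2 hq)))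
        (by
          intro P' hP' s hs t ht r hr
          exact Subtype.ext (hcl (P'.map H'.subtype) (hP'.map _) s ⟨s, hs, rfl⟩ t ⟨t, ht, rfl⟩ r
            ⟨r, hr, rfl⟩))
        (fun hh => hS4 (involves_of_subgroup H' hh))
        (P.subgroupOf H')
        (relSylow_top_iff.2 ⟨hP.isPGroup.comap_subtype, (hP.mono hPH' le_top).2.2⟩) ⟨x, hx⟩
      have hJ : JE 2 P = (JE 2 (P.subgroupOf H')).map H'.subtype := by
        rw [← JE_map 2 H'.subtype _ H'.subtype_injective.injOn,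
          Subgroup.map_subgroupOf_eq_of_le hPH']
      have hcomp : (MulAut.conj x).toMonoidHom.comp H'.subtype =
          H'.subtype.comp (MulAut.conj (⟨x, hx⟩ : H')).toMonoidHom := MonoidHom.ext fun y => rfl
      calc cj x (JE 2 P) = ((JE 2 (P.subgroupOf H')).map H'.subtype).map
            (MulAut.conj x).toMonoidHom := by rw [hJ]
        _ = (cj (⟨x, hx⟩ : H') (JE 2 (P.subgroupOf H'))).map H'.subtype := by
            rw [Subgroup.map_map, hcomp, ← Subgroup.map_map]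
        _ = JE 2 P := by rw [hk, hJ]
    rw [← JE_cj]
    exact JE_normal_of_hyp hyp hS4 hP g

open scoped commutatorElement in
theorem cl2_of_sylow [Finite X] (T : Sylow 2 X)
    (hcl : ⁅⁅(T : Subgroup X), (T : Subgroup X)⁆, (T : Subgroup X)⁆ = ⊥) (P : Subgroup X)
    (hP : IsPGroup 2 P) : Cl2 P := by
  have hT : Cl2 (T : Subgroup X) := by
    intro s hs t ht r hr
    have h1 : ⁅⁅s, t⁆, r⁆ ∈ ⁅⁅(T : Subgroup X), (T : Subgroup X)⁆, (T : Subgroup X)⁆ :=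
      Subgroup.commutator_mem_commutator (Subgroup.commutator_mem_commutator hs ht) hr
    rw [hcl, Subgroup.mem_bot, commutatorElement_eq_one_iff_mul_comm, commutatorElement_def] at h1
    exact h1
  obtain ⟨x, -, hx⟩ := (relSylow_of_sylow T le_top).exists_conj_le le_top hP
  rw [cj_le_iff] at hx
  intro s hs t ht r hr
  have h1 := hT _ (hx s hs) _ (hx t ht) _ (hx r hr)
  have e1 : (x * s * x⁻¹) * (x * t * x⁻¹) * (x * s * x⁻¹)⁻¹ * (x * t * x⁻¹)⁻¹ * (x * r * x⁻¹) =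
      x * ((s * t * s⁻¹ * t⁻¹) * r) * x⁻¹ := by group
  have e2 : (x * r * x⁻¹) * ((x * s * x⁻¹) * (x * t * x⁻¹) * (x * s * x⁻¹)⁻¹ * (x * t * x⁻¹)⁻¹) =
      x * (r * (s * t * s⁻¹ * t⁻¹)) * x⁻¹ := by group
  rw [e1, e2] at h1
  exact mul_left_cancel (mul_right_cancel h1)

/-- **Main theorem.**  `X` is `S₄`-free, `Q` is a normal `2`-subgroup containing its centralizer and
the Sylow `2`-subgroup `T` has class at most two.  Then `J_e(T)` is normal in `X`. -/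
theorem JE_normal [Finite X] (Q : Subgroup X) (hQn : Q.Normal) (hQp : IsPGroup 2 Q)
    (hQC : Subgroup.centralizer (Q : Set X) ≤ Q)
    (hS4 : ¬ Cfsg.Involves (Equiv.Perm (Fin 4)) X) (T : Sylow 2 X)
    (hcl : ⁅⁅(T : Subgroup X), (T : Subgroup X)⁆, (T : Subgroup X)⁆ = ⊥) :
    Subgroup.normalizer (JE 2 (T : Subgroup X) : Set X) = ⊤ := by
  rw [eq_top_iff]
  intro g _
  apply mem_normalizer_of_cj_eq
  refine JE_normal_aux (Nat.card X) X le_rfl Q hQn hQp ?_ (cl2_of_sylow T hcl) hS4 _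
    (relSylow_of_sylow T le_top) g
  intro x hx
  apply hQC
  rw [Subgroup.mem_centralizer_iff]
  intro q hq
  exact (hx q hq).symm

end Cfsg.Agent.Lib.Helper56.CT
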