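import Cfsg.Agent.Lib.Helper53.JC2Asm
import Cfsg.Agent.Lib.Helper53.SA2Defs

set_option autoImplicit false

/-! Ladder JC3 (helper53), rung BH. -/

namespace Cfsg.Agent.Lib.Helper56.JC3

open Cfsg Subgroup Cfsg.Agent.Lib.Helper53.JC Cfsg.Agent.Lib.Helper53.JC2
open Cfsg.Agent.Lib.Helper53.SA (ZP)
open Cfsg.Agent.Lib.Helper53.SA2 (BHyp)

variable {G : Type*} [Group G] [Finite G]

theorem bh_hZ {T K L : Subgroup G} (p : PPr T K L) :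
    ¬ (K ⊔ T) ≤ centralizer (omegaCenterOf T : Set G) := by
  intro h
  apply p.hZ
  rw [commutator_eq_bot_iff_le_centralizer, le_centralizer_iff]
  exact h

theorem bhyp {T K₁ L₁ K₂ L₂ : Subgroup G} (p₁ : PPr T K₁ L₁) (p₂ : PPr T K₂ L₂) (hne : L₁ ≠ L₂) :
    BHyp (K₁ ⊔ T) (K₂ ⊔ T) T := by
  refine ⟨p₁.syl, p₂.syl, p₁.h6, p₂.h6, inf_le_right.trans p₁.cen, inf_le_right.trans p₂.cen,
    bh_hZ p₁, bh_hZ p₂, ?_⟩
  intro N hNT h1 h2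
  by_contra hN1
  have hN : IsTwoLocal (normalizer (N : Set G)) := ⟨N, p₁.syl.2.1.to_le hNT, hN1, rfl⟩
  obtain ⟨L', hL', hNL'⟩ := Cfsg.Agent.Lib.Helper64.JC.exists_maximalTwoLocal hN
  exact hne ((p₁.uniq L' hL' (h1.trans hNL')).symm.trans (p₂.uniq L' hL' (h2.trans hNL')))

end Cfsg.Agent.Lib.Helper56.JC3
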