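import Mathlib
import Cfsg.Prelude.Def_LocalStructure

set_option autoImplicit false

/-! Ladder NPC (helper80), rung EX1. -/

namespace Cfsg.Agent.Lib.Helper56.NPC

open Subgroup

/-- the units of a field act on its additive group. -/
def affAct (F : Type) [Field F] : Fˣ →* MulAut (Multiplicative F) where
  toFun v :=
    { toFun := fun x => Multiplicative.ofAdd ((v : F) * Multiplicative.toAdd x)
      invFun := fun x => Multiplicative.ofAdd (((v⁻¹ : Fˣ) : F) * Multiplicative.toAdd x)
      left_inv := by
        intro x
        apply Multiplicative.toAdd.injective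
        simp
      right_inv := by
        intro x
        apply Multiplicative.toAdd.injective
        simp
      map_mul' := by
        intro x y
        apply Multiplicative.toAdd.injective
        simp [mul_add] }
  map_one' := by
    ext x
    apply Multiplicative.toAdd.injective
    simp
  map_mul' := by
    intro v w
    ext x
    apply Multiplicative.toAdd.injective
    simp [mul_assoc]

theorem affAct_apply (F : Type) [Field F] (v : Fˣ) (x : Multiplicative F) :
    affAct F v x = Multiplicative.ofAdd ((v : F) * Multiplicative.toAdd x) := rfl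

theorem ex_affine (p : ℕ) [Fact p.Prime] (m : ℕ) (hm : IsPrimePow m) (hm1 : m % p = 1) :
    ∃ (H : Type) (_ : Group H) (_ : Finite H), Nat.card H = p * m ∧ ¬ Cfsg.IsPClosed p H := by
  have hp : p.Prime := Fact.out
  obtain ⟨q, k, hq, hk, rfl⟩ := (isPrimePow_nat_iff m).mp hm
  have hqf : Fact q.Prime := ⟨hq⟩
  obtain ⟨F, hF⟩ : ∃ F, F = GaloisField q k := ⟨_, rfl⟩
  subst hF
  have hcF : Nat.card (GaloisField q k) = q ^ k := GaloisField.card q k hk.ne'
  have hfin : Finite (GaloisField q k) := Nat.finite_of_card_ne_zero (by
    rw [hcF]; exact (pow_pos hq.pos k).ne')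
  have hpm : ¬ p ∣ q ^ k := by
    intro hd
    rw [Nat.mod_eq_zero_of_dvd hd] at hm1
    exact zero_ne_one hm1
  have hdvd : p ∣ Nat.card (GaloisField q k)ˣ := by
    rw [Nat.card_units, hcF]
    exact (Nat.modEq_iff_dvd' (pow_pos hq.pos k)).mp
      (by rw [Nat.ModEq, hm1, Nat.mod_eq_of_lt hp.one_lt])
  obtain ⟨u, hu⟩ := exists_prime_orderOf_dvd_card' (G := (GaloisField q k)ˣ) p hdvd
  let φ : zpowers u →* MulAut (Multiplicative (GaloisField q k)) :=
    (affAct (GaloisField q k)).comp (zpowers u).subtype
  have hcard : Nat.card (Multiplicative (GaloisField q k) ⋊[φ] zpowers u) = p * q ^ k := by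
    rw [SemidirectProduct.card, Nat.card_zpowers, hu, mul_comm]
    congr 1
  have hfinH : Finite (Multiplicative (GaloisField q k) ⋊[φ] zpowers u) :=
    Nat.finite_of_card_ne_zero (by
      rw [hcard]; exact (Nat.mul_pos hp.pos (pow_pos hq.pos k)).ne')
  refine ⟨Multiplicative (GaloisField q k) ⋊[φ] zpowers u, inferInstance, hfinH, hcard, ?_⟩
  intro hcl
  let g : zpowers u := ⟨u, mem_zpowers u⟩
  let x : Multiplicative (GaloisField q k) ⋊[φ] zpowers u := SemidirectProduct.inr g
  have hxo : orderOf x = p := by
    rw [orderOf_injective _ SemidirectProduct.inr_injective, Subgroup.orderOf_mk, hu]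
  have hzp : IsPGroup p (zpowers x) := IsPGroup.of_card (n := 1) (by
    rw [Nat.card_zpowers, hxo, pow_one])
  obtain ⟨P, hP⟩ := hzp.exists_le_sylow
  have hPc : Nat.card P = p := by
    rw [P.card_eq_multiplicity, hcard, Nat.factorization_mul hp.ne_zero (pow_pos hq.pos k).ne']
    rw [Finsupp.add_apply, Nat.Prime.factorization_self hp,
      Nat.factorization_eq_zero_of_not_dvd hpm, add_zero, pow_one]
  have hPz : zpowers x = P := by
    apply Subgroup.eq_of_le_of_card_ge hP
    rw [hPc, Nat.card_zpowers, hxo]
  have hn := hcl P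
  let a : Multiplicative (GaloisField q k) ⋊[φ] zpowers u :=
    SemidirectProduct.inl (Multiplicative.ofAdd (1 : GaloisField q k))
  have hc : a * x * a⁻¹ ∈ (P : Subgroup _) := hn.conj_mem x (hP (mem_zpowers x)) a
  rw [← hPz] at hc
  obtain ⟨i, hi⟩ := mem_zpowers_iff.mp hc
  have h1 : (x ^ i).left = 1 := by
    rw [← map_zpow]
    exact SemidirectProduct.left_inr _
  rw [hi] at h1
  have h2 : (a * x * a⁻¹).left =
      Multiplicative.ofAdd ((1 : GaloisField q k) - (u : GaloisField q k)) := by
    simp only [SemidirectProduct.mul_left, SemidirectProduct.inv_left, a, x,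
      SemidirectProduct.left_inl, SemidirectProduct.right_inl, SemidirectProduct.left_inr,
      SemidirectProduct.right_inr, SemidirectProduct.mul_right, map_one, MulAut.one_apply, mul_one,
      one_mul, inv_one]
    show Multiplicative.ofAdd (1 : GaloisField q k) *
      (affAct (GaloisField q k) u (Multiplicative.ofAdd (1 : GaloisField q k))⁻¹) = _
    rw [affAct_apply]
    apply Multiplicative.toAdd.injective
    show (1 : GaloisField q k) + (u : GaloisField q k) * (-1) = 1 - u
    ring
  rw [h2] at h1
  have h3 : (1 : GaloisField q k) - (u : GaloisField q k) = 0 := Multiplicative.ofAdd.injective h1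
  have h4 : u = 1 := by
    apply Units.ext
    rw [Units.val_one]
    exact (sub_eq_zero.mp h3).symm
  rw [h4, orderOf_one] at hu
  exact hp.one_lt.ne hu

end Cfsg.Agent.Lib.Helper56.NPC
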