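import Mathlib
import Cfsg.Prelude.Def_LocalStructure

set_option autoImplicit false

/-! Ladder NPC (helper80), rung PQ. -/

namespace Cfsg.Agent.Lib.Helper56.NPC

theorem pq_case (p : ℕ) [Fact p.Prime] (m : ℕ) (hleast : ∀ k : ℕ, IsPrimePow k → k % p = 1 → m ≤ k)
    {L : Type*} [Group L] [Finite L] (q k : ℕ) (hq : q.Prime) (hL : Nat.card L = p * q ^ k)
    (hnc : ¬ Cfsg.IsPClosed p L) : p * m ≤ Nat.card L := by
  have hp : p.Prime := Fact.out
  obtain ⟨P⟩ : Nonempty (Sylow p L) := inferInstance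
  have h1 : Nat.card (Sylow p L) ≡ 1 [MOD p] := card_sylow_modEq_one p L
  have h2 : Nat.card (Sylow p L) ∣ Nat.card L :=
    (P.card_dvd_index).trans (Subgroup.index_dvd_card _)
  have hcop : (Nat.card (Sylow p L)).Coprime p := by
    rw [Nat.coprime_comm, Nat.Prime.coprime_iff_not_dvd hp]
    intro hd
    have h3 : Nat.card (Sylow p L) ≡ 0 [MOD p] := (Nat.modEq_zero_iff_dvd).mpr hd
    have h4 : (1 : ℕ) ≡ 0 [MOD p] := h1.symm.trans h3
    exact hp.one_lt.ne' (Nat.dvd_one.mp ((Nat.modEq_zero_iff_dvd).mp h4))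
  rw [hL] at h2
  have h3 : Nat.card (Sylow p L) ∣ q ^ k := hcop.dvd_of_dvd_mul_left h2
  obtain ⟨j, hj, hn⟩ := (Nat.dvd_prime_pow hq).mp h3
  have hj0 : j ≠ 0 := by
    rintro rfl
    rw [pow_zero] at hn
    apply hnc
    intro Q
    have hsub : Subsingleton (Sylow p L) := (Nat.card_eq_one_iff_unique.mp hn).1
    exact Sylow.normal_of_subsingleton Q
  have hpp : IsPrimePow (Nat.card (Sylow p L)) := by
    rw [hn]
    exact hq.isPrimePow.pow hj0
  have hmod : Nat.card (Sylow p L) % p = 1 := by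
    have := h1
    rw [Nat.ModEq, Nat.mod_eq_of_lt hp.one_lt] at this
    exact this
  have h5 := hleast _ hpp hmod
  rw [hL]
  exact Nat.mul_le_mul_left p (h5.trans (Nat.le_of_dvd (pow_pos hq.pos k) h3))

end Cfsg.Agent.Lib.Helper56.NPC
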