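import Mathlib
import Cfsg.Prelude.Def_LocalStructure
import Cfsg.Agent.S0999
import Cfsg.Agent.Lib.Helper7.SL2Center
import Cfsg.Agent.Lib.Helper12.S3TMain

set_option autoImplicit false

/-! Ladder NPC (helper80), rung SIMPLE. -/

namespace Cfsg.Agent.Lib.Helper56.NPC

open Subgroup

theorem simple_case (p : ℕ) [Fact p.Prime] (hp : p ≠ 2) {H : Type*} [Group H] [Finite H] [IsSimpleGroup H]
    (hnc : ¬ Cfsg.IsPClosed p H) : p * (p ^ 2 - 1) / 2 ≤ Nat.card H := by
  have hpp : p.Prime := Fact.out
  by_contra hlt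
  push Not at hlt
  have hp3 : 3 ≤ p := by
    have := hpp.two_le
    omega
  have hbig : Nat.card H < p ^ 3 := by
    apply hlt.trans_le
    apply (Nat.div_le_self _ _).trans
    have : p ^ 3 = p * p ^ 2 := by ring
    rw [this]
    exact Nat.mul_le_mul_left p (Nat.sub_le _ _)
  have hcyc : ¬ IsCyclic H := by
    intro hc
    apply hnc
    intro P
    have : IsMulCommutative H := hc.isMulCommutative
    exact Subgroup.normal_of_isMulCommutative _
  have hdvd : p ∣ Nat.card H := by
    by_contra hnd
    apply hnc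
    intro P
    have h1 : Nat.card P = 1 := by
      rw [P.card_eq_multiplicity, Nat.factorization_eq_zero_of_not_dvd hnd, pow_zero]
    rw [Subgroup.card_eq_one.mp h1]
    infer_instance
  rcases Cfsg.Agent.S0999.result hcyc p hpp hdvd hbig with
    ⟨F, _, _, hF, -, ⟨e⟩⟩ | ⟨m, F, _, _, hF, hpm, h3, ⟨e⟩⟩
  · have h2 : (2 : F) ≠ 0 := by
      intro h
      have hchar : ringChar F = 2 := by
        have h2' : ((2 : ℕ) : F) = 0 := by exact_mod_cast h
        have hd := ringChar.dvd h2'
        rcases (Nat.dvd_prime Nat.prime_two).mp hd with h1 | h1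
        · exfalso
          have : CharP F 1 := h1 ▸ ringChar.charP F
          exact CharP.char_ne_one F 1 rfl
        · exact h1
      have hdc : ringChar F ∣ Fintype.card F := by
        have hz : ((Fintype.card F : ℕ) : F) = 0 := Nat.cast_card_eq_zero F
        exact ringChar.dvd hz
      rw [hchar, hF] at hdc
      exact hp ((Nat.prime_dvd_prime_iff_eq Nat.prime_two hpp).mp hdc).symm
    have hc := Cfsg.Agent.Lib.Helper7.card_PSL2 (F := F) h2
    rw [← Nat.card_congr e.toEquiv, hF] at hc
    rw [← hc, Nat.mul_div_cancel _ (by norm_num)] at hlt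
    exact lt_irrefl _ hlt
  · have hm0 : m ≠ 0 := by
      rintro rfl
      simp at hpm
      omega
    have hev : Even (Fintype.card F) := by
      rw [hF]
      exact (Nat.even_pow.mpr ⟨even_two, hm0⟩)
    have hc := Cfsg.Agent.Lib.Helper12.S3T.card_psl_even F hev
    rw [← Nat.card_congr e.toEquiv, hF] at hc
    have hq : 2 ^ m = p - 1 := by omega
    rw [hq] at hc
    have h4 : p - 1 + 1 = p := by omega
    rw [h4] at hc
    rw [hc] at hlt
    have hp5 : 5 ≤ p := by
      by_contra hcon
      have h44 : p = 4 := by omega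
      rw [h44] at hpp
      exact absurd hpp (by norm_num)
    obtain ⟨r, rfl⟩ : ∃ r, p = r + 5 := ⟨p - 5, by omega⟩
    have h5 : (r + 5) * ((r + 5) ^ 2 - 1) / 2 ≤ (r + 5) * (r + 5 - 1) * (r + 5 - 1 - 1) := by
      apply Nat.div_le_of_le_mul
      have e1 : (r + 5) ^ 2 - 1 = (r + 4) * (r + 6) := by
        have : (r + 5) ^ 2 = (r + 4) * (r + 6) + 1 := by ring
        omega
      have e2 : r + 5 - 1 = r + 4 := by omega
      have e3 : r + 4 - 1 = r + 3 := by omega
      rw [e1, e2, e3]
      have e4 : 2 * ((r + 5) * (r + 4) * (r + 3)) = (r + 5) * ((r + 4) * (2 * r + 6)) := by ring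
      rw [e4]
      exact Nat.mul_le_mul_left _ (Nat.mul_le_mul_left _ (by omega))
    exact absurd hlt (not_lt_of_ge h5)

end Cfsg.Agent.Lib.Helper56.NPC
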