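import Cfsg.Agent.Lib.Helper53.SADefs

set_option autoImplicit false

/-! Symmetric `S₃`-amalgam ladder (helper53), rung CRIT. -/

namespace Cfsg.Agent.Lib.Helper56.SA

open Cfsg Subgroup
open Cfsg.Agent.Lib.Helper53.SA
open Cfsg.Agent.Lib.Helper53.JC (cjj QQ)

variable {G : Type*} [Group G]

theorem inv_eq_self_of_sq {r : G} (h : r * r = 1) : r⁻¹ = r := inv_eq_of_mul_eq_one_left h

theorem comm_L1 {s t w r : G} (hr : r = s * t * s⁻¹ * t⁻¹) (h1 : (w * t) * s = s * (w * t))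
    (h2 : w * r = r * w) (h3 : r * r = 1) : s * w * s⁻¹ * w⁻¹ = r := by
  have e1 : s * w * s⁻¹ * w⁻¹ = (s * (w * t)) * t⁻¹ * s⁻¹ * w⁻¹ := by group
  have e2 : ((w * t) * s) * t⁻¹ * s⁻¹ * w⁻¹ = w * (s * t * s⁻¹ * t⁻¹)⁻¹ * w⁻¹ := by group
  rw [e1, ← h1, e2, ← hr, inv_eq_self_of_sq h3, h2]
  group

section geo

variable {Pc Qc Zc : G → Subgroup G} {Adj : G → G → Prop}

theorem Geo_comm_QZ (hg : Geo Pc Qc Zc Adj) {g x z : G} (hx : x ∈ Qc g) (hz : z ∈ Zc g) :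
    z * x = x * z := (mem_centralizer_iff.mp (hg.QZ g hx)) z hz

theorem Geo_comm_ZZ (hg : Geo Pc Qc Zc Adj) {g x z : G} (hx : x ∈ Zc g) (hz : z ∈ Zc g) :
    z * x = x * z := Geo_comm_QZ hg (hg.ZQ g hx) hz

theorem Geo_conj_Z (hg : Geo Pc Qc Zc Adj) {g a z : G} (ha : a ∈ Pc g) (hz : z ∈ Zc g) :
    a * z * a⁻¹ ∈ Zc g := (mem_normalizer_iff.mp (hg.Zn g ha) z).mp hz

/-- the symmetric half of rung CRIT. -/
theorem half (hg : Geo Pc Qc Zc Adj) {u v u' v' : G} (h1 : Adj u v) (h2 : Adj u' v')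
    (hZ : Zc u ≤ Pc u' ⊓ Pc v') (hZ' : Zc u' ≤ Pc u ⊓ Pc v) {s t : G} (hs : s ∈ Zc u)
    (hsQ : s ∉ Qc u') (ht : t ∈ Zc u') (htQ : t ∉ Qc u) :
    (s * t * s⁻¹ * t⁻¹ ∈ Zc u ∧ s * t * s⁻¹ * t⁻¹ ∈ Zc u') ∧
    (∀ w ∈ Zc u', w ∉ Qc u → s * w * s⁻¹ * w⁻¹ = s * t * s⁻¹ * t⁻¹) ∧
    (∀ w ∈ Zc u', w ∈ Qc u → s * w * s⁻¹ * w⁻¹ = 1) ∧
    (∀ z ∈ Zc u', ∀ a ∈ Pc u' ⊓ Pc v',
      a * z * a⁻¹ * z⁻¹ = 1 ∨ a * z * a⁻¹ * z⁻¹ = s * t * s⁻¹ * t⁻¹) := by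
  have hsP : s ∈ Pc u' := (hZ hs).1
  have htP : t ∈ Pc u := (hZ' ht).1
  have hr0 : s * t * s⁻¹ * t⁻¹ ∈ Zc u := by
    have e : s * t * s⁻¹ * t⁻¹ = s * (t * s⁻¹ * t⁻¹) := by group
    rw [e]
    exact mul_mem hs (Geo_conj_Z hg htP (inv_mem hs))
  have hr1 : s * t * s⁻¹ * t⁻¹ ∈ Zc u' := mul_mem (Geo_conj_Z hg hsP ht) (inv_mem ht)
  have hb : ∀ w ∈ Zc u', w ∉ Qc u → s * w * s⁻¹ * w⁻¹ = s * t * s⁻¹ * t⁻¹ := by
    intro w hw hwQ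
    have hwt : w * t ∈ Qc u := hg.ind2 u v h1 w t (hZ' hw) (hZ' ht) hwQ htQ
    exact comm_L1 rfl (Geo_comm_QZ hg hwt hs).symm (Geo_comm_ZZ hg hr1 hw)
      (hg.Zexp u _ hr0)
  have hc : ∀ w ∈ Zc u', w ∈ Qc u → s * w * s⁻¹ * w⁻¹ = 1 := by
    intro w _ hwQ
    rw [Geo_comm_QZ hg hwQ hs]
    group
  refine ⟨⟨hr0, hr1⟩, hb, hc, ?_⟩
  intro z hz a ha
  by_cases haQ : a ∈ Qc u'
  · left
    rw [← Geo_comm_QZ hg haQ hz]
    group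
  · have hc' : a * s ∈ Qc u' := hg.ind2 u' v' h2 a s ha (hZ hs) haQ hsQ
    have hsi : s⁻¹ = s := inv_eq_self_of_sq (hg.Zexp u s hs)
    have hz' : s * z * s⁻¹ ∈ Zc u' := Geo_conj_Z hg hsP hz
    have e1 : a * z * a⁻¹ = (a * s) * (s⁻¹ * z * s) * (a * s)⁻¹ := by group
    have e2 : s⁻¹ * z * s = s * z * s⁻¹ := by
      conv_lhs => rw [hsi]
      conv_rhs => rw [hsi]
    have e3 : a * z * a⁻¹ = s * z * s⁻¹ := by
      rw [e1, e2, ← Geo_comm_QZ hg hc' hz']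
      group
    rw [e3]
    by_cases hzQ : z ∈ Qc u
    · left; exact hc z hz hzQ
    · right; exact hb z hz hzQ

end geo

theorem crit : CritSt G := by
  intro Pc Qc Zc Adj hg b δ hb hmin hcrit
  obtain ⟨hw, hnot⟩ := hcrit
  obtain ⟨c, rfl⟩ : ∃ c, b = c + 1 := ⟨b - 1, by omega⟩
  simp only [Nat.add_sub_cancel]
  -- adjacency at both ends
  have hA0 : Adj (δ 0) (δ 1) := hw 0 (by omega)
  have hAb : Adj (δ c) (δ (c + 1)) := hw c (by omega)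
  have hAb' : Adj (δ (c + 1)) (δ c) := hg.symm _ _ hAb
  have hwrev : IsWalk Adj (c + 1) (rev (c + 1) δ) := by
    intro i hi
    have h := hw (c - i) (by omega)
    have e1 : c + 1 - i = c - i + 1 := by omega
    have e2 : c + 1 - (i + 1) = c - i := by omega
    simp only [rev, e1, e2]
    exact hg.symm _ _ h
  -- `Z_al ≤ Q_ga`
  have hZ0 : Zc (δ 0) ≤ Qc (δ c) := hmin c (by omega) δ (fun i hi => hw i (by omega))
  have hZ : Zc (δ 0) ≤ Pc (δ c) ⊓ Pc (δ (c + 1)) :=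
    hZ0.trans (le_inf (hg.QP _) (hg.QT _ _ hAb))
  have hZ1 : Zc (δ (c + 1)) ≤ Qc (δ 1) := by
    have h := hmin c (by omega) (rev (c + 1) δ) (fun i hi => hwrev i (by omega))
    simpa [rev] using h
  have hZ' : Zc (δ (c + 1)) ≤ Pc (δ 0) ⊓ Pc (δ 1) :=
    hZ1.trans (le_inf (hg.QT _ _ (hg.symm _ _ hA0)) (hg.QP _))
  have hnot' : ¬ Zc (δ (c + 1)) ≤ Qc (δ 0) := by
    intro h
    apply hnot
    intro z hz
    apply hg.CZ (δ (c + 1))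
    refine mem_inf.mpr ⟨(hZ hz).2, ?_⟩
    rw [mem_centralizer_iff]
    intro y hy
    exact (Geo_comm_QZ hg (h hy) hz).symm
  have hcrev : Crit Qc Zc Adj (c + 1) (rev (c + 1) δ) := by
    refine ⟨hwrev, ?_⟩
    simpa [rev] using hnot'
  refine ⟨hcrev, hZ, hZ', ?_⟩
  obtain ⟨s, hs, hsQ⟩ := SetLike.not_le_iff_exists.mp hnot
  obtain ⟨t, ht, htQ⟩ := SetLike.not_le_iff_exists.mp hnot'
  have hZs : Zc (δ 0) ≤ Pc (δ (c + 1)) ⊓ Pc (δ c) := fun z hz => ⟨(hZ hz).2, (hZ hz).1⟩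
  obtain ⟨⟨r0, r1⟩, B1, C1, D1⟩ := half hg hA0 hAb' hZs hZ' hs hsQ ht htQ
  obtain ⟨-, B2, C2, D2⟩ := half hg hAb' hA0 hZ' hZs ht htQ hs hsQ
  obtain ⟨r, hr⟩ : ∃ r, r = s * t * s⁻¹ * t⁻¹ := ⟨_, rfl⟩
  rw [← hr] at r0 r1 B1 D1
  have hrr : r * r = 1 := hg.Zexp _ r r0
  have hr' : t * s * t⁻¹ * s⁻¹ = r := by
    rw [← inv_eq_self_of_sq hrr, hr]; group
  rw [hr'] at B2 D2
  have hne : r ≠ 1 := by
    intro h1
    apply htQ
    apply hg.CZ (δ 0)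
    refine mem_inf.mpr ⟨(hZ' ht).1, ?_⟩
    rw [mem_centralizer_iff]
    intro w hw'
    have : t * w * t⁻¹ * w⁻¹ = 1 := by
      by_cases hwQ : w ∈ Qc (δ (c + 1))
      · exact C2 w hw' hwQ
      · rw [B2 w hw' hwQ, h1]
    have h2 := congrArg (fun y => y * w * t) this
    simp only [inv_mul_cancel_right, one_mul] at h2
    exact h2.symm
  have cent : ∀ a : G, (a * r * a⁻¹ * r⁻¹ = 1 ∨ a * r * a⁻¹ * r⁻¹ = r) → a ∈ centralizer {r} := by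
    intro a h
    rw [mem_centralizer_singleton_iff]
    rcases h with h | h
    · have h2 := congrArg (fun y => y * r * a) h
      simp only [inv_mul_cancel_right, one_mul] at h2
      exact h2
    · exfalso
      apply hne
      have h2 := congrArg (fun y => y * r) h
      simp only [inv_mul_cancel_right, hrr] at h2
      have h3 := congrArg (fun y => a⁻¹ * y * a) h2
      simpa [mul_assoc] using h3
  refine ⟨r, hne, r0, r1, ?_, D2, ?_, ?_, ?_⟩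
  · intro s' hs' hs'Q t' ht' ht'Q
    have h1 : t * s' * t⁻¹ * s'⁻¹ = r := B2 s' hs' hs'Q
    have h2 : s' * t * s'⁻¹ * t⁻¹ = r := by
      rw [← inv_eq_self_of_sq hrr, ← h1]; group
    obtain ⟨-, B3, -, -⟩ := half hg hA0 hAb' hZs hZ' hs' hs'Q ht htQ
    rw [B3 t' ht' ht'Q, h2]
  · intro z hz a ha
    exact D1 z hz a ⟨ha.2, ha.1⟩
  · intro a ha
    exact cent a (D2 r r0 a ha)
  · intro a ha
    exact cent a (D1 r r1 a ⟨ha.2, ha.1⟩)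

end Cfsg.Agent.Lib.Helper56.SA
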