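import Cfsg.Agent.Lib.Helper53.SADefs

set_option autoImplicit false

/-! Symmetric `S₃`-amalgam ladder (helper53), rungs SHIFT and CLAIMA. -/

namespace Cfsg.Agent.Lib.Helper56.SA

open Cfsg Subgroup
open Cfsg.Agent.Lib.Helper53.SA
open Cfsg.Agent.Lib.Helper53.JC (cjj QQ)

variable {G : Type*} [Group G]

theorem conj_sup_mem {A B S : Subgroup G} {a : G} (hA : ∀ x ∈ A, a * x * a⁻¹ ∈ S)
    (hB : ∀ x ∈ B, a * x * a⁻¹ ∈ S) : ∀ x ∈ A ⊔ B, a * x * a⁻¹ ∈ S := by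
  have h : A ⊔ B ≤ S.comap (MulAut.conj a).toMonoidHom :=
    sup_le (fun x hx => by simpa [Subgroup.mem_comap] using hA x hx)
      (fun x hx => by simpa [Subgroup.mem_comap] using hB x hx)
  intro x hx
  simpa [Subgroup.mem_comap] using h hx

theorem mem_normalizer_of_conj {S : Subgroup G} {a : G} (h1 : ∀ x ∈ S, a * x * a⁻¹ ∈ S)
    (h2 : ∀ x ∈ S, a⁻¹ * x * a⁻¹⁻¹ ∈ S) : a ∈ normalizer (S : Set G) := by
  rw [mem_normalizer_iff]
  intro x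
  refine ⟨h1 x, fun h => ?_⟩
  have := h2 _ h
  have e : a⁻¹ * (a * x * a⁻¹) * a⁻¹⁻¹ = x := by group
  rwa [e] at this

theorem isWalk_cons {Adj : G → G → Prop} (hsymm : ∀ g h, Adj g h → Adj h g) {n : ℕ} {δ : ℕ → G}
    (hw : IsWalk Adj n δ) {l : G} (hl : Adj (δ 0) l) : IsWalk Adj (n + 1) (cons l δ) := by
  intro i hi
  cases i with
  | zero => exact hsymm _ _ hl
  | succ i => exact hw i (by omega)

theorem shift (hc : CritSt G) : ShiftSt G := by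
  intro Pc Qc Zc Adj hg b δ hb hmin hcrit l hl hne
  obtain ⟨hrev, -, hZ', r, hr⟩ := hc Pc Qc Zc Adj hg b δ (by omega) hmin hcrit
  obtain ⟨hw, hnot⟩ := hcrit
  obtain ⟨c, rfl⟩ : ∃ c, b = c + 2 := ⟨b - 2, by omega⟩
  have hwc : IsWalk Adj (c + 2) (cons l δ) :=
    isWalk_cons hg.symm (n := c + 1) (fun i hi => hw i (by omega)) hl
  refine ⟨hwc, ?_⟩
  intro hle
  have hle : Zc l ≤ Qc (δ (c + 1)) := hle
  have hA0 : Adj (δ 0) (δ 1) := hw 0 (by omega)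
  have hAb : Adj (δ (c + 1)) (δ (c + 2)) := hw (c + 1) (by omega)
  have hnot' : ¬ Zc (δ (c + 2)) ≤ Qc (δ 0) := by
    have := hrev.2
    simpa [rev] using this
  obtain ⟨t, ht, htQ⟩ := SetLike.not_le_iff_exists.mp hnot'
  have htT := hZ' ht
  have htt : t * t = 1 := hg.Zexp _ t ht
  have hti : t⁻¹ = t := inv_eq_of_mul_eq_one_left htt
  -- `t` maps `Z_al ⊔ Z_l` into itself
  have h1 : ∀ x ∈ Zc (δ 0) ⊔ Zc l, t * x * t⁻¹ ∈ Zc (δ 0) ⊔ Zc l := by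
    apply conj_sup_mem
    · intro x hx
      exact (le_sup_left : Zc (δ 0) ≤ _) ((mem_normalizer_iff.mp (hg.Zn _ htT.1) x).mp hx)
    · intro a ha
      have haT : a ∈ Pc (δ (c + 2 - 1)) ⊓ Pc (δ (c + 2)) := by
        have h2 := hle ha
        exact ⟨hg.QP _ h2, hg.QT _ _ hAb h2⟩
      have key : ∀ e : G, a * t * a⁻¹ * t⁻¹ = e → t * a * t⁻¹ = e⁻¹ * a := by
        intro e he
        rw [← he]; group
      rcases hr.cb t ht a haT with h | h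
      · rw [key _ h]
        simpa using (le_sup_right : Zc l ≤ Zc (δ 0) ⊔ Zc l) ha
      · rw [key _ h]
        exact mul_mem ((le_sup_left : Zc (δ 0) ≤ _) (inv_mem hr.mem0))
          ((le_sup_right : Zc l ≤ Zc (δ 0) ⊔ Zc l) ha)
  have htH : t ∈ normalizer ((Zc (δ 0) ⊔ Zc l : Subgroup G) : Set G) := by
    apply mem_normalizer_of_conj h1
    rw [hti]
    exact h1
  have hTH : Pc (δ 0) ⊓ Pc l ≤ normalizer ((Zc (δ 0) ⊔ Zc l : Subgroup G) : Set G) := by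
    have aux : ∀ a ∈ Pc (δ 0) ⊓ Pc l, ∀ x ∈ Zc (δ 0) ⊔ Zc l, a * x * a⁻¹ ∈ Zc (δ 0) ⊔ Zc l := by
      intro a ha
      apply conj_sup_mem
      · intro x hx
        exact (le_sup_left : Zc (δ 0) ≤ _) ((mem_normalizer_iff.mp (hg.Zn _ ha.1) x).mp hx)
      · intro x hx
        exact (le_sup_right : Zc l ≤ Zc (δ 0) ⊔ Zc l) ((mem_normalizer_iff.mp (hg.Zn _ ha.2) x).mp hx)
    intro a ha
    exact mem_normalizer_of_conj (aux a ha) (aux a⁻¹ (inv_mem ha))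
  have htl : t ∉ Pc l := by
    intro h
    exact htQ (hg.inter _ _ _ hA0 hl (Ne.symm hne) ⟨htT, h⟩)
  exact hg.noN _ _ hl (hg.max _ _ hl t htT.1 htl _ hTH htH)

/-- one half of CLAIMA. -/
theorem claimA_half (hs : ShiftSt G) {Pc Qc Zc : G → Subgroup G} {Adj : G → G → Prop}
    (hg : Geo Pc Qc Zc Adj) {b : ℕ} {δ : ℕ → G} (hb : 2 ≤ b) (hmin : Min Qc Zc Adj b)
    (hcrit : Crit Qc Zc Adj b δ) {r : G} (hr0 : r ∈ Zc (δ 0))
    (hzb : Pc (δ (b - 1)) ⊓ Pc (δ b) ≤ centralizer {r}) : Pc (δ (b - 1)) ≤ centralizer {r} := by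
  obtain ⟨c, rfl⟩ : ∃ c, b = c + 2 := ⟨b - 2, by omega⟩
  have hw := hcrit.1
  have hnot := hcrit.2
  have e1 : c + 2 - 1 = c + 1 := by omega
  rw [e1] at hzb ⊢
  have hA0 : Adj (δ 0) (δ 1) := hw 0 (by omega)
  have hAb : Adj (δ (c + 1)) (δ (c + 2)) := hw (c + 1) (by omega)
  have hAc : Adj (δ c) (δ (c + 1)) := hw c (by omega)
  obtain ⟨a, ha, haP⟩ := hg.exm _ _ hA0
  have hl : Adj (δ 0) (a * δ 1) := hg.act _ _ hA0 a ha
  have hne := hg.move _ _ hA0 a ha haP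
  have hcr := hs Pc Qc Zc Adj hg (c + 2) δ hb hmin hcrit (a * δ 1) hl hne
  have hnq : ¬ Zc (a * δ 1) ≤ Qc (δ (c + 1)) := hcr.2
  obtain ⟨q, hq, hqQ⟩ := SetLike.not_le_iff_exists.mp hnq
  -- `q ∈ Q_{δ c}`
  have hq1 : q ∈ Qc (δ c) := by
    have h := hmin (c + 1) (by omega) (cons (a * δ 1) δ) (fun i hi => hcr.1 i (by omega))
    exact h hq
  have hq2 : q ∈ Qc (δ 0) := by
    have h := hmin 1 (by omega) (cons (a * δ 1) δ) (fun i hi => hcr.1 i (by omega))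
    exact h hq
  have hqr : q ∈ centralizer {r} := by
    rw [mem_centralizer_singleton_iff]
    exact ((mem_centralizer_iff.mp (hg.QZ _ hq2)) r hr0).symm
  have hAc' : Adj (δ (c + 1)) (δ c) := hg.symm _ _ hAc
  have hTne : Pc (δ (c + 1)) ⊓ Pc (δ c) ≠ Pc (δ (c + 1)) ⊓ Pc (δ (c + 2)) := by
    intro h
    have h2 := hg.same _ _ _ hAc' hAb h
    apply hnot
    rw [← h2]
    exact hmin c (by omega) δ (fun i hi => hw i (by omega))
  have hqP : q ∈ Pc (δ (c + 1)) := hg.QT _ _ hAc hq1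
  have hqn : q ∉ Pc (δ (c + 2)) := by
    intro h
    exact hqQ (hg.inter _ _ _ hAc' hAb hTne ⟨⟨hqP, hg.QP _ hq1⟩, h⟩)
  exact hg.max _ _ hAb q hqP hqn _ hzb hqr

theorem claimA (hc : CritSt G) (hs : ShiftSt G) : ClaimASt G := by
  intro Pc Qc Zc Adj hg b δ hb hmin hcrit r hr
  obtain ⟨hrev, -, -, -⟩ := hc Pc Qc Zc Adj hg b δ (by omega) hmin hcrit
  refine ⟨?_, claimA_half hs hg hb hmin hcrit hr.mem0 hr.zb⟩
  have e0 : rev b δ 0 = δ b := by simp [rev]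
  have e1 : rev b δ (b - 1) = δ 1 := by
    have : b - (b - 1) = 1 := by omega
    simp [rev, this]
  have e2 : rev b δ b = δ 0 := by simp [rev]
  have h := claimA_half hs hg hb hmin hrev (r := r) (by rw [e0]; exact hr.memb)
    (by
      rw [e1, e2]
      intro a ha
      exact hr.z0 ⟨ha.2, ha.1⟩)
  rwa [e1] at h

end Cfsg.Agent.Lib.Helper56.SA
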